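import Groth.Agent.FlatSymLib.Basic

/-!
# Symmetric tensors of a flat module commute with every base change

For a flat `R`-module `M` and any `R`-module `N`, the map `TS^n(M) ⊗ N → ⨂^n M ⊗ N` is injective,
with image the invariants.
-/

namespace Groth.Agent.FlatSymLib

open TensorProduct

variable {R : Type*} [CommRing R] {M : Type*} [AddCommGroup M] [Module R M]
  {N : Type*} [AddCommGroup N] [Module R N] {n : ℕ}

/-- A projection onto the symmetric tensors of a finite free module which also computes the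
invariants after tensoring with any module. -/
theorem exists_symmetrizer (R : Type*) [CommRing R] (N : Type*) [AddCommGroup N] [Module R N] (n m : ℕ) :
    ∃ r : (⨂[R] _ : Fin n, (Fin m → R)) →ₗ[R] (⨂[R] _ : Fin n, (Fin m → R)),
      (∀ x, r x ∈ inv R (Fin m → R) n) ∧ (∀ x ∈ inv R (Fin m → R) n, r x = x) ∧
        ∀ (w : (⨂[R] _ : Fin n, (Fin m → R)) ⊗[R] N),
          (∀ σ : Equiv.Perm (Fin n),
            (PiTensorProduct.reindex R (fun _ : Fin n => Fin m → R) σ).toLinearMap.rTensor N w = w) →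
          r.rTensor N w = w := by
  classical
  let B := Basis.piTensorProduct fun _ : Fin n => Pi.basisFun R (Fin m)
  let S : Setoid (Fin n → Fin m) :=
    { r := fun f g => ∃ σ : Equiv.Perm (Fin n), f ∘ σ = g
      iseqv :=
        ⟨fun f => ⟨1, rfl⟩, fun ⟨σ, h⟩ => ⟨σ.symm, by subst h; ext i; simp⟩,
          fun ⟨σ, h⟩ ⟨τ, h'⟩ => ⟨σ * τ, by subst h; subst h'; rfl⟩⟩ }
  let W : Quotient S → ⨂[R] _ : Fin n, (Fin m → R) := fun o =>
    ∑ f with Quotient.mk S f = o, B f
  have hB : ∀ (σ : Equiv.Perm (Fin n)) f,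
      PiTensorProduct.reindex R (fun _ : Fin n => Fin m → R) σ (B f) = B (f ∘ σ.symm) := by
    intro σ f
    simp only [B, Basis.piTensorProduct_apply, PiTensorProduct.reindex_tprod, Function.comp_apply]
  have hW : ∀ o, W o ∈ inv R (Fin m → R) n := by
    intro o
    refine mem_inv.2 fun σ => ?_
    simp only [W, map_sum, hB]
    refine Finset.sum_equiv (Equiv.arrowCongr σ (Equiv.refl _)) (fun f => ?_) (fun f _ => rfl)
    simp only [Finset.mem_filter, Finset.mem_univ, true_and]
    rw [show Quotient.mk S (Equiv.arrowCongr σ (Equiv.refl _) f) = Quotient.mk S f from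
      Quotient.sound ⟨σ, by ext i; simp⟩]
  let π : (Fin n → Fin m) → (⨂[R] _ : Fin n, (Fin m → R)) →ₗ[R] R := fun f =>
    Finsupp.lapply f ∘ₗ B.repr.toLinearMap
  have hπ : ∀ (σ : Equiv.Perm (Fin n)) f,
      π (f ∘ σ) = π f ∘ₗ (PiTensorProduct.reindex R (fun _ : Fin n => Fin m → R) σ).toLinearMap := by
    intro σ f
    refine B.ext fun g => ?_
    simp only [π, LinearMap.comp_apply, LinearEquiv.coe_coe, hB, B.repr_self, Finsupp.lapply_apply,
      Finsupp.single_apply]
    refine if_congr ⟨fun hg => ?_, fun hg => ?_⟩ rfl rfl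
    · subst hg; ext i; simp
    · subst hg; ext i; simp
  let r : (⨂[R] _ : Fin n, (Fin m → R)) →ₗ[R] (⨂[R] _ : Fin n, (Fin m → R)) :=
    ∑ o : Quotient S, (π o.out).smulRight (W o)
  have hr : ∀ x, r x = ∑ o : Quotient S, π o.out x • W o := fun x => by
    simp [r, LinearMap.sum_apply]
  -- `r` fixes everything whose coordinates are constant on orbits
  have hfix : ∀ x, (∀ (σ : Equiv.Perm (Fin n)) f, π (f ∘ σ) x = π f x) → r x = x := by
    intro x hx
    conv_rhs => rw [← B.sum_repr x, ← Finset.sum_fiberwise Finset.univ (Quotient.mk S)]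
    rw [hr]
    refine Finset.sum_congr rfl fun o _ => ?_
    rw [Finset.smul_sum]
    refine Finset.sum_congr rfl fun f hf => ?_
    obtain ⟨σ, hσ⟩ := Quotient.exact
      (((Finset.mem_filter.1 hf).2).trans (Quotient.out_eq o).symm)
    rw [← hσ, hx σ f]
    rfl
  refine ⟨r, fun x => by rw [hr]; exact Submodule.sum_mem _ fun o _ => Submodule.smul_mem _ _ (hW o),
    fun x hx => hfix x fun σ f => by
      rw [hπ, LinearMap.comp_apply, LinearEquiv.coe_coe, mem_inv.1 hx σ], ?_⟩
  intro w hw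
  let c : (Fin n → Fin m) → N := fun f => TensorProduct.lid R N ((π f).rTensor N w)
  have hc : ∀ (σ : Equiv.Perm (Fin n)) f, c (f ∘ σ) = c f := by
    intro σ f
    simp only [c]
    rw [hπ, LinearMap.rTensor_comp_apply, hw σ]
  have hsum : ∀ z : (⨂[R] _ : Fin n, (Fin m → R)) ⊗[R] N,
      ∑ f, B f ⊗ₜ[R] TensorProduct.lid R N ((π f).rTensor N z) = z := by
    intro z
    induction z with
    | zero => simp
    | tmul x y =>
      conv_rhs => rw [← B.sum_repr x, sum_tmul]
      refine Finset.sum_congr rfl fun f _ => ?_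
      simp [π, tmul_smul, smul_tmul']
    | add a b ha hb =>
      simp only [map_add, tmul_add, Finset.sum_add_distrib, ha, hb]
  conv_lhs => rw [← hsum w]
  conv_rhs => rw [← hsum w, ← Finset.sum_fiberwise Finset.univ (Quotient.mk S)]
  simp only [map_sum, LinearMap.rTensor_tmul, hr, sum_tmul, ← smul_tmul', ← tmul_smul]
  rw [Finset.sum_comm]
  refine Finset.sum_congr rfl fun o _ => ?_
  simp only [W, sum_tmul]
  rw [Finset.sum_comm]
  refine Finset.sum_congr rfl fun f hf => ?_
  obtain ⟨σ, hσ⟩ := Quotient.exact (((Finset.mem_filter.1 hf).2).trans (Quotient.out_eq o).symm)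
  rw [Finset.sum_eq_single o.out]
  · rw [show π o.out (B o.out) = 1 by simp [π], one_smul]
    congr 1
    change c o.out = c f
    rw [← hσ, hc]
  · intro g _ hg
    simp [π, Finsupp.single_apply, hg]
  · simp

/-- Two finite free modules over `M` map into a third. -/
theorem exists_join {m m' : ℕ} (u : (Fin m → R) →ₗ[R] M) (u' : (Fin m' → R) →ₗ[R] M) :
    ∃ (k : ℕ) (v : (Fin k → R) →ₗ[R] M) (a : (Fin m → R) →ₗ[R] (Fin k → R))
      (a' : (Fin m' → R) →ₗ[R] (Fin k → R)), v ∘ₗ a = u ∧ v ∘ₗ a' = u' := by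
  refine ⟨m + m', Fintype.linearCombination R
      (Fin.append (fun i => u (Pi.basisFun R _ i)) fun i => u' (Pi.basisFun R _ i)),
    (Pi.basisFun R (Fin m)).constr R fun i => Pi.single (Fin.castAdd m' i) 1,
    (Pi.basisFun R (Fin m')).constr R fun i => Pi.single (Fin.natAdd m i) 1,
    (Pi.basisFun R (Fin m)).ext fun i => ?_, (Pi.basisFun R (Fin m')).ext fun i => ?_⟩ <;>
  rw [LinearMap.comp_apply, Module.Basis.constr_basis] <;>
  simp [Fintype.linearCombination_apply, Pi.single_apply, ite_smul]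

/-- Tensor powers of flat modules are flat. -/
theorem flat_pow [Module.Flat R M] (n : ℕ) : Module.Flat R (⨂[R] _ : Fin n, M) := by
  classical
  refine Module.Flat.of_forall_isTrivialRelation fun {l c x} hcx => ?_
  obtain ⟨m, u, y, hy⟩ := exists_lift x
  obtain ⟨k, a, v, hva, ha⟩ := exists_kill n u {∑ i, c i • y i} (by
    intro z hz
    rw [Finset.mem_singleton] at hz
    subst hz
    simp [map_sum, hy, hcx])
  haveI := Module.Free.of_basis (Basis.piTensorProduct fun _ : Fin n => Pi.basisFun R (Fin k))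
  have h0 : ∑ i, c i • pw n a (y i) = 0 := by
    simpa [map_sum] using ha _ (Finset.mem_singleton_self _)
  obtain ⟨j, b, w, hyw, hcb⟩ := Module.Flat.isTrivialRelation_of_sum_smul_eq_zero h0
  refine ⟨j, b, fun i => pw n v (w i), fun i => ?_, hcb⟩
  rw [← hy i, ← hva, pw_comp, show pw n a (y i) = _ from hyw i]
  simp [map_sum]

/-- A tensor with coefficients in any module that dies over a flat module dies at a finite free
stage. -/
theorem exists_kill_rTensor [Module.Flat R M] {m : ℕ} (u : (Fin m → R) →ₗ[R] M)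
    (z : (⨂[R] _ : Fin n, (Fin m → R)) ⊗[R] N) (hz : (pw n u).rTensor N z = 0) :
    ∃ (k : ℕ) (a : (Fin m → R) →ₗ[R] (Fin k → R)) (v : (Fin k → R) →ₗ[R] M),
      v ∘ₗ a = u ∧ (pw n a).rTensor N z = 0 := by
  classical
  obtain ⟨s, rfl⟩ := TensorProduct.exists_finset z
  haveI := flat_pow (R := R) (M := M) n
  let x : s → ⨂[R] _ : Fin n, (Fin m → R) := fun i => i.1.1
  let p : s → N := fun i => i.1.2
  have hs : ∑ i ∈ s, i.1 ⊗ₜ[R] i.2 = ∑ i : s, x i ⊗ₜ[R] p i :=
    (Finset.sum_coe_sort s fun i => i.1 ⊗ₜ[R] i.2).symm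
  rw [hs] at hz ⊢
  have hz' : ∑ i, p i ⊗ₜ[R] pw n u (x i) = (0 : N ⊗[R] (⨂[R] _ : Fin n, M)) := by
    have := congrArg (TensorProduct.comm R (⨂[R] _ : Fin n, M) N) hz
    simp only [map_sum, LinearMap.rTensor_tmul, TensorProduct.comm_tmul, map_zero] at this
    exact this
  obtain ⟨l, c, Y, h₁, h₂⟩ :=
    TensorProduct.vanishesTrivially_of_sum_tmul_eq_zero_of_rTensor_injective R
      (Module.Flat.rTensor_preserves_injective_linearMap _
        (Submodule.injective_subtype (Submodule.span R (Set.range p)))) hz'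
  obtain ⟨m', u', y, hy⟩ := exists_lift Y
  obtain ⟨k, v, a, a', hva, hva'⟩ := exists_join u u'
  obtain ⟨k', b, w, hwb, hb⟩ := exists_kill n v
    (Finset.univ.image fun i => pw n a (x i) - ∑ j, c i j • pw n a' (y j)) (by
      intro d hd
      obtain ⟨i, -, rfl⟩ := Finset.mem_image.1 hd
      simp [map_sum, ← pw_comp, hva, hva', hy, ← h₁ i])
  refine ⟨k', b ∘ₗ a, w, by rw [← LinearMap.comp_assoc, hwb, hva], ?_⟩
  have hx : ∀ i, pw n (b ∘ₗ a) (x i) = ∑ j, c i j • pw n b (pw n a' (y j)) := by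
    intro i
    rw [pw_comp, ← sub_eq_zero]
    simpa [map_sum] using hb _ (Finset.mem_image_of_mem _ (Finset.mem_univ i))
  simp only [map_sum, LinearMap.rTensor_tmul, hx, sum_tmul, ← smul_tmul', ← tmul_smul]
  rw [Finset.sum_comm]
  simp_rw [← tmul_sum, h₂, tmul_zero, Finset.sum_const_zero]

/-- The inclusion of the symmetric tensors of a flat module is universally injective. -/
theorem inv_rTensor_injective [Module.Flat R M] :
    Function.Injective ((inv R M n).subtype.rTensor N) := by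
  classical
  rw [injective_iff_map_eq_zero]
  intro z hz
  obtain ⟨s, rfl⟩ := TensorProduct.exists_finset z
  let e : s ≃ Fin s.card := s.equivFin
  obtain ⟨m, u, y, hy, huy, -⟩ := exists_inv_lift
    (fun i : Fin s.card => (((e.symm i).1.1 : inv R M n) : ⨂[R] _ : Fin n, M))
    (fun i => ((e.symm i).1.1).2) 0 (by simp)
  have hsum : ∑ i ∈ s, i.1 ⊗ₜ[R] i.2 =
      ∑ i : Fin s.card, (e.symm i).1.1 ⊗ₜ[R] (e.symm i).1.2 := by
    rw [e.symm.sum_comp (fun i : s => i.1.1 ⊗ₜ[R] i.1.2)]
    exact (Finset.sum_coe_sort s fun i => i.1 ⊗ₜ[R] i.2).symm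
  rw [hsum] at hz ⊢
  obtain ⟨k, a, v, hva, ha⟩ := exists_kill_rTensor u
    (∑ i : Fin s.card, y i ⊗ₜ[R] (e.symm i).1.2) (by
      simp only [map_sum, LinearMap.rTensor_tmul, huy]
      simpa [map_sum] using hz)
  obtain ⟨r, hr, hfix, -⟩ := exists_symmetrizer R N n k
  let r' : (⨂[R] _ : Fin n, (Fin k → R)) →ₗ[R] inv R M n :=
    ((pw n v) ∘ₗ r).codRestrict _ fun x => pw_mem_inv v (hr x)
  have h := congrArg (r'.rTensor N) ha
  simp only [map_sum, LinearMap.rTensor_tmul, map_zero] at h
  refine (Finset.sum_congr rfl fun i _ => ?_).trans h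
  congr 1
  refine Subtype.ext ?_
  simp only [r', LinearMap.codRestrict_apply, LinearMap.comp_apply]
  rw [hfix _ (pw_mem_inv a (hy i)), ← pw_comp, hva, huy]

/-- Invariant tensors with coefficients in any module come from symmetric tensors. -/
theorem mem_range_inv_rTensor [Module.Flat R M] (w : (⨂[R] _ : Fin n, M) ⊗[R] N)
    (hw : ∀ σ : Equiv.Perm (Fin n),
      (PiTensorProduct.reindex R (fun _ : Fin n => M) σ).toLinearMap.rTensor N w = w) :
    ∃ z, (inv R M n).subtype.rTensor N z = w := by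
  classical
  obtain ⟨s, rfl⟩ := TensorProduct.exists_finset w
  obtain ⟨m, u, y, hy⟩ := exists_lift fun i : s => i.1.1
  let w₀ := ∑ i : s, y i ⊗ₜ[R] i.1.2
  have hw₀ : (pw n u).rTensor N w₀ = ∑ i ∈ s, i.1 ⊗ₜ[R] i.2 := by
    simp only [w₀, map_sum, LinearMap.rTensor_tmul, hy]
    exact Finset.sum_coe_sort s fun i => i.1 ⊗ₜ[R] i.2
  have hcomm : ∀ {k : ℕ} (a : (Fin k → R) →ₗ[R] M) (σ : Equiv.Perm (Fin n)) z,
      (pw n a).rTensor N ((PiTensorProduct.reindex R (fun _ : Fin n => Fin k → R) σ).toLinearMap.rTensor N z) =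
        (PiTensorProduct.reindex R (fun _ : Fin n => M) σ).toLinearMap.rTensor N ((pw n a).rTensor N z) := by
    intro k a σ z
    rw [← LinearMap.rTensor_comp_apply, ← LinearMap.rTensor_comp_apply]
    congr 2
    exact LinearMap.ext fun t => pw_reindex n a σ t
  have key : ∀ T : Finset (Equiv.Perm (Fin n)), ∃ (k : ℕ) (a : (Fin m → R) →ₗ[R] (Fin k → R))
      (v : (Fin k → R) →ₗ[R] M), v ∘ₗ a = u ∧ ∀ σ ∈ T,
        (pw n a).rTensor N ((PiTensorProduct.reindex R (fun _ : Fin n => Fin m → R) σ).toLinearMap.rTensor N w₀) =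
          (pw n a).rTensor N w₀ := by
    intro T
    induction T using Finset.induction_on with
    | empty => exact ⟨m, LinearMap.id, u, rfl, by simp⟩
    | insert σ T hσT ih =>
      obtain ⟨k, a, v, hva, ha⟩ := ih
      obtain ⟨k', b, v', hvb, hb⟩ := exists_kill_rTensor v
        ((pw n a).rTensor N ((PiTensorProduct.reindex R (fun _ : Fin n => Fin m → R) σ).toLinearMap.rTensor N w₀) -
          (pw n a).rTensor N w₀) (by
            have hc : ∀ z : (⨂[R] _ : Fin n, (Fin m → R)) ⊗[R] N,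
                (pw n v).rTensor N ((pw n a).rTensor N z) = (pw n u).rTensor N z := fun z => by
              rw [← LinearMap.rTensor_comp_apply]
              congr 2
              exact LinearMap.ext fun t => by rw [LinearMap.comp_apply, ← pw_comp, hva]
            rw [map_sub, hc, hc, hcomm, hw₀, hw σ, sub_self])
      refine ⟨k', b ∘ₗ a, v', by rw [← LinearMap.comp_assoc, hvb, hva], fun τ hτ => ?_⟩
      have hc : ∀ z : (⨂[R] _ : Fin n, (Fin m → R)) ⊗[R] N,
          (pw n (b ∘ₗ a)).rTensor N z = (pw n b).rTensor N ((pw n a).rTensor N z) := fun z => by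
        rw [← LinearMap.rTensor_comp_apply]
        congr 2
        exact LinearMap.ext fun t => pw_comp n b a t
      rw [hc, hc]
      rcases Finset.mem_insert.1 hτ with rfl | hτ
      · rwa [map_sub, sub_eq_zero] at hb
      · rw [ha τ hτ]
  obtain ⟨k, a, v, hva, ha⟩ := key Finset.univ
  obtain ⟨r, hr, -, hfix⟩ := exists_symmetrizer R N n k
  have hinv := hfix ((pw n a).rTensor N w₀) fun σ => by
    refine Eq.trans ?_ (ha σ (Finset.mem_univ σ))
    rw [← LinearMap.rTensor_comp_apply, ← LinearMap.rTensor_comp_apply]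
    congr 2
    exact LinearMap.ext fun t => (pw_reindex n a σ t).symm
  refine ⟨(((pw n v) ∘ₗ r).codRestrict (inv R M n) fun x => pw_mem_inv v (hr x)).rTensor N
    ((pw n a).rTensor N w₀), ?_⟩
  rw [← LinearMap.rTensor_comp_apply, LinearMap.subtype_comp_codRestrict,
    LinearMap.rTensor_comp_apply, hinv, ← LinearMap.rTensor_comp_apply]
  refine Eq.trans ?_ hw₀
  congr 2
  exact LinearMap.ext fun t => by rw [LinearMap.comp_apply, ← pw_comp, hva]

end Groth.Agent.FlatSymLib
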