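import Mathlib.RingTheory.Flat.EquationalCriterion
import Mathlib.LinearAlgebra.TensorProduct.Vanishing
import Mathlib.LinearAlgebra.PiTensorProduct.Basis
import Mathlib.Data.Fintype.Perm

/-!
# Symmetric tensors of flat modules

A flat module behaves like a filtered colimit of finite free modules: a tensor in the `n`-fold power
of a finite free module which dies in the power of a flat module `M` already dies in the power of
some finite free module between the two. Consequently symmetric tensors of `M` lift to symmetric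
tensors of finite free modules, and form a flat module.
-/

namespace Groth.Agent.FlatSymLib

open TensorProduct

variable {R : Type*} [CommRing R] {M : Type*} [AddCommGroup M] [Module R M]
  {N : Type*} [AddCommGroup N] [Module R N]

variable (R M) in
/-- The symmetric tensors of degree `n`. -/
noncomputable def inv (n : ℕ) : Submodule R (⨂[R] _ : Fin n, M) :=
  ⨅ σ : Equiv.Perm (Fin n),
    LinearMap.eqLocus (PiTensorProduct.reindex R (fun _ : Fin n => M) σ).toLinearMap LinearMap.id

theorem mem_inv {n : ℕ} {t : ⨂[R] _ : Fin n, M} :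
    t ∈ inv R M n ↔
      ∀ σ : Equiv.Perm (Fin n), PiTensorProduct.reindex R (fun _ : Fin n => M) σ t = t := by
  simp only [inv, Submodule.mem_iInf, LinearMap.mem_eqLocus]
  rfl

/-- The tensor power of a linear map. -/
noncomputable abbrev pw (n : ℕ) (u : M →ₗ[R] N) :
    (⨂[R] _ : Fin n, M) →ₗ[R] (⨂[R] _ : Fin n, N) :=
  PiTensorProduct.map fun _ => u

theorem pw_comp {P : Type*} [AddCommGroup P] [Module R P] (n : ℕ) (v : N →ₗ[R] P)
    (u : M →ₗ[R] N) (z : ⨂[R] _ : Fin n, M) : pw n (v ∘ₗ u) z = pw n v (pw n u z) :=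
  LinearMap.congr_fun (PiTensorProduct.map_comp (g := fun _ : Fin n => v) (f := fun _ => u)) z

theorem pw_reindex (n : ℕ) (u : M →ₗ[R] N) (σ : Equiv.Perm (Fin n)) (z : ⨂[R] _ : Fin n, M) :
    pw n u (PiTensorProduct.reindex R (fun _ : Fin n => M) σ z) =
      PiTensorProduct.reindex R (fun _ : Fin n => N) σ (pw n u z) :=
  PiTensorProduct.map_reindex (fun _ : Fin n => u) σ z

theorem pw_mem_inv {n : ℕ} (u : M →ₗ[R] N) {z : ⨂[R] _ : Fin n, M} (hz : z ∈ inv R M n) :
    pw n u z ∈ inv R N n :=
  mem_inv.2 fun σ => by rw [← pw_reindex, mem_inv.1 hz σ]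

/-- The first-factor splitting, as a multilinear map in curried form. -/
noncomputable def splitML (n : ℕ) :
    M →ₗ[R] MultilinearMap R (fun _ : Fin n => M) (M ⊗[R] (⨂[R] _ : Fin n, M)) where
  toFun m := (TensorProduct.mk R M (⨂[R] _ : Fin n, M) m).compMultilinearMap (PiTensorProduct.tprod R)
  map_add' a b := by ext f; simp [add_tmul]
  map_smul' c a := by ext f; simp [smul_tmul']

/-- Splitting off the first factor. -/
noncomputable def split (n : ℕ) :
    (⨂[R] _ : Fin (n + 1), M) →ₗ[R] M ⊗[R] (⨂[R] _ : Fin n, M) :=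
  PiTensorProduct.lift (LinearMap.uncurryLeft (splitML n))

theorem split_tprod {n : ℕ} (f : Fin (n + 1) → M) :
    split n (PiTensorProduct.tprod R f) = f 0 ⊗ₜ[R] PiTensorProduct.tprod R (Fin.tail f) := by
  simp [split, splitML]

theorem split_injective (n : ℕ) : Function.Injective (split (R := R) (M := M) n) := by
  let g₀ : M →ₗ[R] (⨂[R] _ : Fin n, M) →ₗ[R] (⨂[R] _ : Fin (n + 1), M) :=
    PiTensorProduct.lift.toLinearMap ∘ₗ
      (PiTensorProduct.tprod R (s := fun _ : Fin (n + 1) => M)).curryLeft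
  have h : (TensorProduct.lift g₀).comp (split n) = LinearMap.id := by
    refine PiTensorProduct.ext (MultilinearMap.ext fun f => ?_)
    simp only [LinearMap.compMultilinearMap_apply, LinearMap.comp_apply, split_tprod,
      TensorProduct.lift.tmul, LinearMap.id_apply, g₀, LinearEquiv.coe_coe,
      PiTensorProduct.lift.tprod, MultilinearMap.curryLeft_apply, Fin.cons_self_tail]
  exact Function.LeftInverse.injective (g := TensorProduct.lift g₀) fun x => LinearMap.congr_fun h x

theorem split_pw (n : ℕ) (u : M →ₗ[R] N) (z : ⨂[R] _ : Fin (n + 1), M) :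
    split n (pw (n + 1) u z) = TensorProduct.map u (pw n u) (split n z) := by
  have h : (split n).comp (pw (n + 1) u) = (TensorProduct.map u (pw n u)).comp (split n) := by
    refine PiTensorProduct.ext (MultilinearMap.ext fun f => ?_)
    simp only [LinearMap.compMultilinearMap_apply, LinearMap.comp_apply, split_tprod,
      PiTensorProduct.map_tprod, TensorProduct.map_tmul]
    rfl
  exact LinearMap.congr_fun h z

/-- Coordinates of a tensor with a finite free module. -/
theorem exists_sum_single {m : ℕ} {P : Type*} [AddCommGroup P] [Module R P]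
    (z : (Fin m → R) ⊗[R] P) : ∃ p : Fin m → P, ∑ i, Pi.basisFun R (Fin m) i ⊗ₜ[R] p i = z := by
  induction z with
  | zero => exact ⟨0, by simp⟩
  | tmul x y =>
    refine ⟨fun i => (Pi.basisFun R (Fin m)).repr x i • y, ?_⟩
    simp_rw [tmul_smul, smul_tmul', ← sum_tmul, (Pi.basisFun R (Fin m)).sum_repr]
  | add a b ha hb =>
    obtain ⟨pa, rfl⟩ := ha
    obtain ⟨pb, rfl⟩ := hb
    exact ⟨pa + pb, by simp [tmul_add, Finset.sum_add_distrib]⟩

/-- If `z ∈ F ⊗ P` dies in `M ⊗ P` with `M` flat, it dies in `G ⊗ P` for some finite free `G`. -/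
theorem exists_kill_tensor [Module.Flat R M] {P : Type*} [AddCommGroup P] [Module R P] {m : ℕ}
    (u : (Fin m → R) →ₗ[R] M) (z : (Fin m → R) ⊗[R] P) (hz : u.rTensor P z = 0) :
    ∃ (k : ℕ) (a : (Fin m → R) →ₗ[R] (Fin k → R)) (v : (Fin k → R) →ₗ[R] M),
      v ∘ₗ a = u ∧ a.rTensor P z = 0 := by
  classical
  obtain ⟨p, rfl⟩ := exists_sum_single z
  let e := Pi.basisFun R (Fin m)
  change u.rTensor P (∑ i, e i ⊗ₜ[R] p i) = 0 at hz
  have hz' : ∑ i, p i ⊗ₜ[R] u (e i) = (0 : P ⊗[R] M) := by
    have := congrArg (TensorProduct.comm R M P) hz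
    simp only [map_sum, LinearMap.rTensor_tmul, TensorProduct.comm_tmul, map_zero] at this
    exact this
  obtain ⟨k, a, y, h₁, h₂⟩ :=
    TensorProduct.vanishesTrivially_of_sum_tmul_eq_zero_of_rTensor_injective R
      (Module.Flat.rTensor_preserves_injective_linearMap _
        (Submodule.injective_subtype (Submodule.span R (Set.range p)))) hz'
  refine ⟨k, e.constr R fun i j => a i j, Fintype.linearCombination R y, ?_, ?_⟩
  · refine e.ext fun i => ?_
    simp [Fintype.linearCombination_apply, h₁ i]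
  · have hrow : ∀ i, (e.constr R fun i j => a i j) (e i) = ∑ j, a i j • Pi.single j (1 : R) := by
      intro i
      rw [Module.Basis.constr_basis]
      ext j
      simp [Pi.single_apply]
    change (e.constr R fun i j => a i j).rTensor P (∑ i, e i ⊗ₜ[R] p i) = 0
    simp only [map_sum, LinearMap.rTensor_tmul, hrow, sum_tmul, ← smul_tmul', ← tmul_smul]
    rw [Finset.sum_comm]
    simp_rw [← tmul_sum, h₂, tmul_zero, Finset.sum_const_zero]

/-- A finite family of tensors of finite free modules which dies in the tensor power of a flat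
module dies in the tensor power of a finite free module. -/
theorem exists_kill [Module.Flat R M] (n : ℕ) :
    ∀ {m : ℕ} (u : (Fin m → R) →ₗ[R] M) (s : Finset (⨂[R] _ : Fin n, (Fin m → R))),
      (∀ z ∈ s, pw n u z = 0) → ∃ (k : ℕ) (a : (Fin m → R) →ₗ[R] (Fin k → R))
        (v : (Fin k → R) →ₗ[R] M), v ∘ₗ a = u ∧ ∀ z ∈ s, pw n a z = 0 := by
  classical
  suffices hone : ∀ {m : ℕ} (u : (Fin m → R) →ₗ[R] M) (z : ⨂[R] _ : Fin n, (Fin m → R)),
      pw n u z = 0 → ∃ (k : ℕ) (a : (Fin m → R) →ₗ[R] (Fin k → R))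
        (v : (Fin k → R) →ₗ[R] M), v ∘ₗ a = u ∧ pw n a z = 0 by
    intro m u s
    induction s using Finset.induction_on with
    | empty => exact fun _ => ⟨m, LinearMap.id, u, rfl, fun z hz => absurd hz (Finset.notMem_empty z)⟩
    | insert z s hzs ih =>
      intro hs
      obtain ⟨k, a, v, hva, ha⟩ := ih fun w hw => hs w (Finset.mem_insert_of_mem hw)
      obtain ⟨l, b, w, hwb, hb⟩ := hone v (pw n a z) (by
        rw [← pw_comp, hva]; exact hs z (Finset.mem_insert_self z s))
      refine ⟨l, b ∘ₗ a, w, by rw [← LinearMap.comp_assoc, hwb, hva], fun x hx => ?_⟩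
      rw [pw_comp]
      rcases Finset.mem_insert.1 hx with rfl | hx
      · exact hb
      · rw [ha x hx, map_zero]
  induction n with
  | zero =>
    intro m u z hz
    refine ⟨m, LinearMap.id, u, rfl, ?_⟩
    have h : (PiTensorProduct.isEmptyEquiv (R := R) (s := fun _ : Fin 0 => M) (Fin 0)).toLinearMap.comp
        (pw 0 u) = (PiTensorProduct.isEmptyEquiv (R := R) (s := fun _ : Fin 0 => (Fin m → R)) (Fin 0)).toLinearMap := by
      refine PiTensorProduct.ext (MultilinearMap.ext fun f => ?_)
      simp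
    have hz0 : z = 0 := (PiTensorProduct.isEmptyEquiv (Fin 0)).injective (by
      have := LinearMap.congr_fun h z
      simp only [LinearMap.comp_apply, hz, map_zero] at this
      simpa using this.symm)
    rw [hz0, map_zero]
  | succ n ih =>
    intro m u z hz
    have hz1 : u.rTensor (⨂[R] _ : Fin n, M) ((pw n u).lTensor (Fin m → R) (split n z)) = 0 := by
      rw [← LinearMap.comp_apply, LinearMap.rTensor_comp_lTensor, ← split_pw, hz, map_zero]
    obtain ⟨k, a, v, hva, ha⟩ := exists_kill_tensor u _ hz1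
    have hz2 : (pw n v).lTensor (Fin k → R) (split n (pw (n + 1) a z)) = 0 := by
      rw [split_pw, ← ha]
      have key : (pw n v).lTensor (Fin k → R) ∘ₗ TensorProduct.map a (pw n a) =
          a.rTensor (⨂[R] _ : Fin n, M) ∘ₗ (pw n u).lTensor (Fin m → R) :=
        TensorProduct.ext' fun x y => by simp [← pw_comp, hva]
      exact LinearMap.congr_fun key _
    let e := Pi.basisFun R (Fin k)
    obtain ⟨p, hp⟩ := exists_sum_single (split n (pw (n + 1) a z))
    have hp0 : ∀ j, pw n v (p j) = 0 := by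
      intro j
      have := congrArg ((TensorProduct.lid R _).toLinearMap ∘ₗ
        (LinearMap.proj (R := R) (φ := fun _ : Fin k => R) j).rTensor (⨂[R] _ : Fin n, M)) hz2
      rw [← hp] at this
      simpa [e, map_sum, Pi.single_apply, ite_smul] using this
    have hs : ∃ (l : ℕ) (b : (Fin k → R) →ₗ[R] (Fin l → R)) (w : (Fin l → R) →ₗ[R] M),
        w ∘ₗ b = v ∧ ∀ j, pw n b (p j) = 0 := by
      suffices h : ∀ (t : Finset (Fin k)) {m' : ℕ} (b : (Fin k → R) →ₗ[R] (Fin m' → R))
          (w : (Fin m' → R) →ₗ[R] M), w ∘ₗ b = v →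
          ∃ (l : ℕ) (b' : (Fin k → R) →ₗ[R] (Fin l → R)) (w' : (Fin l → R) →ₗ[R] M),
            w' ∘ₗ b' = v ∧ ∀ j ∈ t, pw n b' (p j) = 0 by
        obtain ⟨l, b, w, h1, h2⟩ := h Finset.univ LinearMap.id v rfl
        exact ⟨l, b, w, h1, fun j => h2 j (Finset.mem_univ j)⟩
      intro t
      induction t using Finset.induction_on with
      | empty =>
        intro m' b w hwb
        exact ⟨m', b, w, hwb, fun j hj => absurd hj (Finset.notMem_empty j)⟩
      | insert j t hjt iht =>
        intro m' b w hwb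
        obtain ⟨l, b', w', h1, h2⟩ := iht b w hwb
        obtain ⟨l', c, w'', h3, h4⟩ := ih w' (pw n b' (p j)) (by rw [← pw_comp, h1]; exact hp0 j)
        refine ⟨l', c ∘ₗ b', w'', by rw [← LinearMap.comp_assoc, h3, h1], fun i hi => ?_⟩
        rw [pw_comp]
        rcases Finset.mem_insert.1 hi with rfl | hi
        · exact h4
        · rw [h2 i hi, map_zero]
    obtain ⟨l, b, w, hwb, hb⟩ := hs
    refine ⟨l, b ∘ₗ a, w, by rw [← LinearMap.comp_assoc, hwb, hva], ?_⟩
    apply split_injective
    rw [map_zero, pw_comp, split_pw, ← hp]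
    simp [map_sum, hb]

/-- Every finite family in a tensor power comes from a finite free module. -/
theorem exists_lift {n : ℕ} {ι : Type*} [Finite ι] (x : ι → ⨂[R] _ : Fin n, M) :
    ∃ (m : ℕ) (u : (Fin m → R) →ₗ[R] M) (y : ι → ⨂[R] _ : Fin n, (Fin m → R)),
      ∀ i, pw n u (y i) = x i := by
  classical
  let L : (t : Finset M) → (t → R) →ₗ[R] M := fun t => Fintype.linearCombination R (Subtype.val : t → M)
  have hmono : ∀ {t t' : Finset M}, t ⊆ t' →
      LinearMap.range (pw n (L t)) ≤ LinearMap.range (pw n (L t')) := by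
    intro t t' h
    let j : (t → R) →ₗ[R] (t' → R) :=
      (Pi.basisFun R t).constr R fun i => Pi.single ⟨i.1, h i.2⟩ 1
    have hj : L t' ∘ₗ j = L t := by
      refine (Pi.basisFun R t).ext fun i => ?_
      simp [L, j, Fintype.linearCombination_apply, Pi.single_apply, ite_smul]
    rintro _ ⟨w, rfl⟩
    exact ⟨pw n j w, by rw [← pw_comp, hj]⟩
  have hone : ∀ z : ⨂[R] _ : Fin n, M, ∃ t : Finset M, z ∈ LinearMap.range (pw n (L t)) := by
    intro z
    induction z using PiTensorProduct.induction_on with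
    | smul_tprod r f =>
      let t : Finset M := Finset.univ.image f
      refine ⟨t, r • PiTensorProduct.tprod R fun i => Pi.single
        (⟨f i, Finset.mem_image_of_mem f (Finset.mem_univ i)⟩ : t) 1, ?_⟩
      simp [L, t, Fintype.linearCombination_apply, Pi.single_apply, ite_smul]
    | add a b ha hb =>
      obtain ⟨ta, hta⟩ := ha
      obtain ⟨tb, htb⟩ := hb
      exact ⟨ta ∪ tb, add_mem (hmono Finset.subset_union_left hta)
        (hmono Finset.subset_union_right htb)⟩
  choose t ht using fun i => hone (x i)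
  cases nonempty_fintype ι
  let T : Finset M := Finset.univ.biUnion t
  let e : (Fin T.card → R) ≃ₗ[R] (T → R) := LinearEquiv.funCongrLeft R R T.equivFin
  have hy : ∀ i, ∃ y, pw n (L T ∘ₗ e.toLinearMap) y = x i := by
    intro i
    obtain ⟨w, hw⟩ := hmono (Finset.subset_biUnion_of_mem t (Finset.mem_univ i)) (ht i)
    refine ⟨pw n e.symm.toLinearMap w, ?_⟩
    rw [← pw_comp, LinearMap.comp_assoc]
    simpa using hw
  choose y hy using hy
  exact ⟨T.card, L T ∘ₗ e.toLinearMap, y, hy⟩

/-- Symmetric tensors of a flat module satisfying a linear relation lift to symmetric tensors of a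
finite free module satisfying the same relation. -/
theorem exists_inv_lift [Module.Flat R M] {n l : ℕ} (x : Fin l → ⨂[R] _ : Fin n, M)
    (hx : ∀ i, x i ∈ inv R M n) (c : Fin l → R) (hc : ∑ i, c i • x i = 0) :
    ∃ (m : ℕ) (u : (Fin m → R) →ₗ[R] M) (y : Fin l → ⨂[R] _ : Fin n, (Fin m → R)),
      (∀ i, y i ∈ inv R (Fin m → R) n) ∧ (∀ i, pw n u (y i) = x i) ∧ ∑ i, c i • y i = 0 := by
  classical
  obtain ⟨m, u, y, hy⟩ := exists_lift x
  let D : Finset (⨂[R] _ : Fin n, (Fin m → R)) := insert (∑ i, c i • y i)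
    (Finset.univ.image fun p : Fin l × Equiv.Perm (Fin n) =>
      PiTensorProduct.reindex R (fun _ : Fin n => Fin m → R) p.2 (y p.1) - y p.1)
  obtain ⟨k, a, v, hva, ha⟩ := exists_kill n u D (by
    intro z hz
    rcases Finset.mem_insert.1 hz with rfl | hz
    · simp [map_sum, hy, hc]
    · obtain ⟨p, -, rfl⟩ := Finset.mem_image.1 hz
      rw [map_sub, pw_reindex, hy, mem_inv.1 (hx p.1), sub_self])
  refine ⟨k, v, fun i => pw n a (y i), fun i => mem_inv.2 fun σ => ?_, fun i => ?_, ?_⟩
  · have := ha _ (Finset.mem_insert_of_mem (Finset.mem_image_of_mem _ (Finset.mem_univ (i, σ))))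
    rwa [map_sub, pw_reindex, sub_eq_zero] at this
  · rw [← pw_comp, hva, hy]
  · simpa [map_sum] using ha _ (Finset.mem_insert_self _ _)

/-- Relations between symmetric tensors of finite free modules are trivial. -/
theorem isTrivialRelation_free {n m l : ℕ} (c : Fin l → R)
    (y : Fin l → ⨂[R] _ : Fin n, (Fin m → R)) (hy : ∀ i, y i ∈ inv R (Fin m → R) n)
    (hc : ∑ i, c i • y i = 0) :
    ∃ (k : ℕ) (a : Fin l → Fin k → R) (w : Fin k → ⨂[R] _ : Fin n, (Fin m → R)),
      (∀ j, w j ∈ inv R (Fin m → R) n) ∧ (∀ i, y i = ∑ j, a i j • w j) ∧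
        ∀ j, ∑ i, c i * a i j = 0 := by
  classical
  let B := Basis.piTensorProduct fun _ : Fin n => Pi.basisFun R (Fin m)
  let S : Setoid (Fin n → Fin m) :=
    { r := fun f g => ∃ σ : Equiv.Perm (Fin n), f ∘ σ = g
      iseqv :=
        ⟨fun f => ⟨1, rfl⟩, fun ⟨σ, h⟩ => ⟨σ.symm, by subst h; ext i; simp⟩,
          fun ⟨σ, h⟩ ⟨τ, h'⟩ => ⟨σ * τ, by subst h; subst h'; rfl⟩⟩ }
  let O := Quotient S
  let W : O → ⨂[R] _ : Fin n, (Fin m → R) := fun o =>
    ∑ f with Quotient.mk S f = o, B f
  have hB : ∀ (σ : Equiv.Perm (Fin n)) f,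
      PiTensorProduct.reindex R (fun _ : Fin n => Fin m → R) σ (B f) = B (f ∘ σ.symm) := by
    intro σ f
    simp only [B, Basis.piTensorProduct_apply, PiTensorProduct.reindex_tprod, Function.comp_apply]
  have hW : ∀ o, W o ∈ inv R (Fin m → R) n := by
    intro o
    refine mem_inv.2 fun σ => ?_
    simp only [W, map_sum, hB]
    refine Finset.sum_equiv (Equiv.arrowCongr σ (Equiv.refl _)) (fun f => ?_) (fun f _ => rfl)
    simp only [Finset.mem_filter, Finset.mem_univ, true_and]
    rw [show Quotient.mk S (Equiv.arrowCongr σ (Equiv.refl _) f) = Quotient.mk S f from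
      Quotient.sound ⟨σ, by ext i; simp⟩]
  have hcoef : ∀ (i : Fin l) (σ : Equiv.Perm (Fin n)) f, B.repr (y i) (f ∘ σ) = B.repr (y i) f := by
    intro i σ f
    have h : ((Finsupp.lapply (f ∘ σ.symm.symm)) ∘ₗ B.repr.toLinearMap) =
        (Finsupp.lapply f ∘ₗ B.repr.toLinearMap) ∘ₗ
          (PiTensorProduct.reindex R (fun _ : Fin n => Fin m → R) σ).toLinearMap := by
      refine B.ext fun g => ?_
      simp only [LinearMap.comp_apply, LinearEquiv.coe_coe, hB, B.repr_self, Finsupp.lapply_apply,
        Finsupp.single_apply]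
      refine if_congr ⟨fun hg => ?_, fun hg => ?_⟩ rfl rfl
      · subst hg; ext i; simp
      · subst hg; ext i; simp
    have := LinearMap.congr_fun h (y i)
    simp only [LinearMap.comp_apply, LinearEquiv.coe_coe, Finsupp.lapply_apply, Equiv.symm_symm,
      mem_inv.1 (hy i) σ] at this
    exact this
  let e := Fintype.equivFin O
  refine ⟨Fintype.card O, fun i j => B.repr (y i) (e.symm j).out, fun j => W (e.symm j),
    fun j => hW _, fun i => ?_, fun j => ?_⟩
  · rw [e.symm.sum_comp (fun o => B.repr (y i) o.out • W o)]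
    simp only [W, Finset.smul_sum]
    conv_lhs => rw [← B.sum_repr (y i), ← Finset.sum_fiberwise Finset.univ (Quotient.mk S)]
    refine Finset.sum_congr rfl fun o _ => Finset.sum_congr rfl fun f hf => ?_
    obtain ⟨σ, hσ⟩ := Quotient.exact
      (((Finset.mem_filter.1 hf).2).trans (Quotient.out_eq o).symm)
    rw [← hσ, hcoef]
  · have := congrArg (fun t => B.repr t (e.symm j).out) hc
    simpa [map_sum, Finsupp.finsetSum_apply] using this

/-- Symmetric tensors of a flat module form a flat module. -/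
theorem flat_inv [Module.Flat R M] (n : ℕ) : Module.Flat R (inv R M n) := by
  refine Module.Flat.of_forall_isTrivialRelation fun {l c x} hcx => ?_
  obtain ⟨m, u, y, hy, hux, hcy⟩ := exists_inv_lift (fun i => (x i : ⨂[R] _ : Fin n, M))
    (fun i => (x i).2) c (by
      have := congrArg Subtype.val hcx
      simpa using this)
  obtain ⟨k, a, w, hw, hyw, hca⟩ := isTrivialRelation_free c y hy hcy
  refine ⟨k, a, fun j => ⟨pw n u (w j), pw_mem_inv u (hw j)⟩, fun i => Subtype.ext ?_, hca⟩
  simp [← hux i, hyw i, map_sum]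

/-- Symmetric tensors lift along a surjection onto a flat module. -/
theorem exists_inv_preimage {M' : Type*} [AddCommGroup M'] [Module R M'] [Module.Flat R M]
    (f : M' →ₗ[R] M) (hf : Function.Surjective f) {n : ℕ} {t : ⨂[R] _ : Fin n, M}
    (ht : t ∈ inv R M n) : ∃ s ∈ inv R M' n, pw n f s = t := by
  obtain ⟨m, u, y, hy, huy, -⟩ := exists_inv_lift (fun _ : Fin 1 => t) (fun _ => ht) 0 (by simp)
  choose g hg using fun i => hf (u (Pi.basisFun R (Fin m) i))
  let a : (Fin m → R) →ₗ[R] M' := (Pi.basisFun R (Fin m)).constr R g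
  have ha : f ∘ₗ a = u := (Pi.basisFun R (Fin m)).ext fun i => by
    simp only [LinearMap.comp_apply, a, Module.Basis.constr_basis, hg]
  exact ⟨pw n a (y 0), pw_mem_inv a (hy 0), by rw [← pw_comp, ha, huy]⟩

end Groth.Agent.FlatSymLib
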