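import Groth.Agent.QuotLib.Affine
import Groth.Agent.QuotLib.Desc

/-! Quotients by finite groups: affine models and charts. -/

set_option autoImplicit false
universe u
open CategoryTheory CategoryTheory.Limits AlgebraicGeometry Opposite TopologicalSpace

noncomputable section

namespace Groth.Agent.FlatSymLib

/-- The action on a spectrum given by an action by ring endomorphisms. -/
def specAct {G : Type u} [Group G] {R : Type u} [CommRing R] (φ : G →* (R →+* R)) :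
    G →* Aut (Spec (CommRingCat.of R)) where
  toFun g :=
    { hom := Spec.map (CommRingCat.ofHom (φ g⁻¹))
      inv := Spec.map (CommRingCat.ofHom (φ g))
      hom_inv_id := by
        rw [← Spec.map_comp, ← Spec.map_id]
        congr 1
        refine CommRingCat.hom_ext ?_
        change φ g⁻¹ * φ g = 1
        rw [← map_mul, inv_mul_cancel, map_one]
      inv_hom_id := by
        rw [← Spec.map_comp, ← Spec.map_id]
        congr 1
        refine CommRingCat.hom_ext ?_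
        change φ g * φ g⁻¹ = 1
        rw [← map_mul, mul_inv_cancel, map_one] }
  map_one' := by
    refine Iso.ext ?_
    change Spec.map (CommRingCat.ofHom (φ 1⁻¹)) = 𝟙 _
    rw [inv_one, map_one]
    exact Spec.map_id _
  map_mul' g h := by
    refine Iso.ext ?_
    change Spec.map (CommRingCat.ofHom (φ (g * h)⁻¹)) =
      Spec.map (CommRingCat.ofHom (φ h⁻¹)) ≫ Spec.map (CommRingCat.ofHom (φ g⁻¹))
    rw [← Spec.map_comp, mul_inv_rev, map_mul]
    rfl

theorem specAct_hom {G : Type u} [Group G] {R : Type u} [CommRing R] (φ : G →* (R →+* R)) (g : G) :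
    (specAct φ g).hom = Spec.map (CommRingCat.ofHom (φ g⁻¹)) := rfl

/-- The spectrum of the invariant ring is the quotient. -/
theorem isQuot_specAct {G : Type u} [Group G] [Finite G] {R R₀ : Type u} [CommRing R] [CommRing R₀]
    (φ : G →* (R →+* R)) (i : R₀ →+* R) (hinv : ∀ g x, φ g (i x) = i x)
    (hinj : Function.Injective i) (hsurj : ∀ r, (∀ g, φ g r = r) → ∃ x, i x = r) :
    SGA1.IsQuot (specAct φ) (Spec.map (CommRingCat.ofHom i)) := by
  have happ : ∀ {P Q : Type u} [CommRing P] [CommRing Q] (ψ : P →+* Q),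
      (Spec.map (CommRingCat.ofHom ψ)).appTop = (Scheme.ΓSpecIso (CommRingCat.of P)).hom ≫
        CommRingCat.ofHom ψ ≫ (Scheme.ΓSpecIso (CommRingCat.of Q)).inv := by
    intro P Q _ _ ψ
    rw [← Category.assoc, ← Scheme.ΓSpecIso_naturality, Category.assoc, Iso.hom_inv_id,
      Category.comp_id]
  have hinv' : ∀ g, (specAct φ g).hom ≫ Spec.map (CommRingCat.ofHom i) =
      Spec.map (CommRingCat.ofHom i) := by
    intro g
    rw [specAct_hom, ← Spec.map_comp]
    congr 1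
    exact CommRingCat.hom_ext (RingHom.ext (hinv g⁻¹))
  refine QuotLib.isQuot_of_affine hinv' ?_ fun s hs => ?_
  · show Function.Injective (Spec.map (CommRingCat.ofHom i)).appTop.hom
    rw [happ]
    exact (ConcreteCategory.bijective_of_isIso (Scheme.ΓSpecIso (CommRingCat.of R)).inv).1.comp
      (hinj.comp (ConcreteCategory.bijective_of_isIso (Scheme.ΓSpecIso (CommRingCat.of R₀)).hom).1)
  · let r : R := (Scheme.ΓSpecIso (CommRingCat.of R)).hom.hom s
    have hr : ∀ g, φ g r = r := by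
      intro g
      have h := hs g⁻¹
      rw [show (specAct φ g⁻¹).hom.appLE (Spec.map (CommRingCat.ofHom i) ⁻¹ᵁ ⊤)
          (Spec.map (CommRingCat.ofHom i) ⁻¹ᵁ ⊤) (SGA1.preimage_le_of_inv _ _ hinv' g⁻¹ ⊤) =
          (Spec.map (CommRingCat.ofHom (φ g⁻¹⁻¹))).appTop from (specAct φ g⁻¹).hom.appLE_eq_app] at h
      rw [inv_inv, happ] at h
      have h2 := congrArg (Scheme.ΓSpecIso (CommRingCat.of R)).hom.hom h
      change (Scheme.ΓSpecIso (CommRingCat.of R)).hom.hom ((Scheme.ΓSpecIso (CommRingCat.of R)).inv.hom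
        (φ g r)) = r at h2
      exact (Iso.inv_hom_id_apply (Scheme.ΓSpecIso (CommRingCat.of R)) (φ g r)).symm.trans h2
    obtain ⟨x, hx⟩ := hsurj r hr
    refine ⟨(Scheme.ΓSpecIso (CommRingCat.of R₀)).inv.hom x, ?_⟩
    show (Spec.map (CommRingCat.ofHom i)).appTop.hom _ = s
    rw [happ, CommRingCat.comp_apply, CommRingCat.comp_apply, Iso.inv_hom_id_apply,
      show (CommRingCat.ofHom i).hom x = r from hx]
    exact Iso.hom_inv_id_apply _ s

variable {X Y : Scheme.{u}} {G : Type u} [Group G]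

/-- Being a quotient can be checked on charts. -/
theorem isQuot_of_charts {ρ : G →* Aut X} {p : X ⟶ Y} [IsAffineHom p]
    (hinv : ∀ g : G, (ρ g).hom ≫ p = p)
    (h : ∀ y : Y, ∃ (O U : Scheme.{u}) (e : O ⟶ X) (j : U ⟶ Y) (pU : O ⟶ U) (_ : IsOpenImmersion j)
      (ρO : G →* Aut O), y ∈ Set.range j ∧ IsPullback e pU p j ∧
        (∀ g, (ρO g).hom ≫ e = e ≫ (ρ g).hom) ∧ SGA1.IsQuot ρO pU) :
    SGA1.IsQuot ρ p := by
  let B : Set Y.Opens := {V | ∃ (O U : Scheme.{u}) (e : O ⟶ X) (j : U ⟶ Y) (pU : O ⟶ U)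
    (_ : IsOpenImmersion j) (ρO : G →* Aut O), V ≤ j.opensRange ∧ IsPullback e pU p j ∧
        (∀ g, (ρO g).hom ≫ e = e ≫ (ρ g).hom) ∧ SGA1.IsQuot ρO pU}
  refine QuotLib.isQuot_of_basis hinv B (Opens.isBasis_iff_nbhd.2 fun {V y} hy => ?_) ?_ ?_
  · obtain ⟨O, U, e, j, pU, hj, ρO, hyj, hsq, hcomm, hq⟩ := h y
    exact ⟨V ⊓ j.opensRange, ⟨O, U, e, j, pU, hj, ρO, inf_le_right, hsq, hcomm, hq⟩, ⟨hy, hyj⟩,
      inf_le_left⟩
  all_goals
    rintro V ⟨O, U, e, j, pU, hj, ρO, hV, hsq, hcomm, hq⟩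
    haveI := hj
    haveI : IsOpenImmersion e := MorphismProperty.of_isPullback hsq.flip hj
    have hle : pU ⁻¹ᵁ (j ⁻¹ᵁ V) ≤ e ⁻¹ᵁ (p ⁻¹ᵁ V) := by
      rw [← Scheme.Hom.comp_preimage, ← Scheme.Hom.comp_preimage, hsq.w]
    have hrange : p ⁻¹ᵁ V ≤ e.opensRange := by
      intro x hx
      obtain ⟨t, ht⟩ := hV hx
      obtain ⟨o, ho, -⟩ := Scheme.exists_preimage_of_isPullback hsq x t ht.symm
      exact ⟨o, ho⟩
    haveI he : IsIso (e.appLE (p ⁻¹ᵁ V) (pU ⁻¹ᵁ (j ⁻¹ᵁ V)) hle) := by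
      have heq : pU ⁻¹ᵁ (j ⁻¹ᵁ V) = e ⁻¹ᵁ (p ⁻¹ᵁ V) := by
        rw [← Scheme.Hom.comp_preimage, ← Scheme.Hom.comp_preimage, hsq.w]
      haveI := Scheme.Hom.isIso_app e _ hrange
      rw [Scheme.Hom.appLE]
      rw [show (homOfLE hle).op = (eqToHom heq).op from Subsingleton.elim _ _]
      infer_instance
    haveI hjV : IsIso (j.app V) := Scheme.Hom.isIso_app j V hV
    have hnat : p.app V ≫ e.appLE (p ⁻¹ᵁ V) (pU ⁻¹ᵁ (j ⁻¹ᵁ V)) hle =
        j.app V ≫ pU.app (j ⁻¹ᵁ V) := by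
      simp only [← Scheme.Hom.appLE_eq_app, Scheme.Hom.appLE_comp_appLE]
      congr 1
      exact hsq.w
  · intro a b hab
    refine (ConcreteCategory.bijective_of_isIso (j.app V)).1 (hq.injective (j ⁻¹ᵁ V) ?_)
    rw [← CommRingCat.comp_apply, ← CommRingCat.comp_apply, ← hnat, CommRingCat.comp_apply,
      CommRingCat.comp_apply, hab]
  · intro s hs
    obtain ⟨t, ht⟩ := (hq.range_iff (j ⁻¹ᵁ V) ((e.appLE (p ⁻¹ᵁ V) _ hle).hom s)).2 fun g => by
      have hc : e.appLE (p ⁻¹ᵁ V) (pU ⁻¹ᵁ (j ⁻¹ᵁ V)) hle ≫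
          (ρO g).hom.appLE _ _ (SGA1.preimage_le_of_inv ρO pU hq.inv g (j ⁻¹ᵁ V)) =
          (ρ g).hom.appLE _ _ (SGA1.preimage_le_of_inv ρ p hinv g V) ≫
            e.appLE (p ⁻¹ᵁ V) (pU ⁻¹ᵁ (j ⁻¹ᵁ V)) hle := by
        rw [Scheme.Hom.appLE_comp_appLE, Scheme.Hom.appLE_comp_appLE]
        congr 1
        exact hcomm g
      refine (congrArg (fun f : _ ⟶ _ => CommRingCat.Hom.hom f s) hc).trans ?_
      rw [CommRingCat.comp_apply]
      exact congrArg _ (hs g)
    obtain ⟨t', ht'⟩ := (ConcreteCategory.bijective_of_isIso (j.app V)).2 t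
    refine ⟨t', (ConcreteCategory.bijective_of_isIso
      (e.appLE (p ⁻¹ᵁ V) (pU ⁻¹ᵁ (j ⁻¹ᵁ V)) hle)).1 ?_⟩
    rw [← CommRingCat.comp_apply, hnat, CommRingCat.comp_apply, ht']
    exact ht

end Groth.Agent.FlatSymLib
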