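import Groth.Prelude.Def_SymProd
import Mathlib.AlgebraicGeometry.Morphisms.Proper

/-! Fibre powers inherit properties stable under base change and composition. -/

set_option autoImplicit false
universe u
open CategoryTheory CategoryTheory.Limits AlgebraicGeometry

noncomputable section

namespace Groth.Agent.FlatSymLib

variable {X S : Scheme.{u}} (f : X ⟶ S)

/-- Forgetting the last factor. -/
def dropLast (n : ℕ) : SymProd.fibPow f (n + 1) ⟶ SymProd.fibPow f n :=
  WidePullback.lift (WidePullback.base _) (fun i : Fin n => WidePullback.π _ i.castSucc)
    (fun i => WidePullback.π_arrow (fun _ : Fin (n + 1) => f) i.castSucc)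

theorem isPullback_dropLast (n : ℕ) :
    IsPullback (dropLast f n) (WidePullback.π (fun _ : Fin (n + 1) => f) (Fin.last n))
      (WidePullback.base fun _ : Fin n => f) f := by
  have w : dropLast f n ≫ WidePullback.base (fun _ : Fin n => f) =
      WidePullback.π (fun _ : Fin (n + 1) => f) (Fin.last n) ≫ f := by
    rw [dropLast, WidePullback.lift_base, WidePullback.π_arrow]
  refine IsPullback.of_isLimit' ⟨w⟩ (PullbackCone.IsLimit.mk w
    (fun s => WidePullback.lift (s.fst ≫ WidePullback.base _)
      (Fin.lastCases s.snd fun i => s.fst ≫ WidePullback.π (fun _ : Fin n => f) i)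
      (fun i => by
        induction i using Fin.lastCases with
        | last => rw [Fin.lastCases_last, s.condition]
        | cast i => rw [Fin.lastCases_castSucc, Category.assoc, WidePullback.π_arrow]))
    (fun s => WidePullback.hom_ext _ _ _ (fun i => ?_) ?_) (fun s => ?_)
    (fun s m h1 h2 => WidePullback.hom_ext _ _ _ (fun i => ?_) ?_))
  · rw [Category.assoc, dropLast, WidePullback.lift_π, WidePullback.lift_π, Fin.lastCases_castSucc]
  · rw [Category.assoc, dropLast, WidePullback.lift_base, WidePullback.lift_base]
  · rw [WidePullback.lift_π, Fin.lastCases_last]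
  · rw [WidePullback.lift_π]
    induction i using Fin.lastCases with
    | last => rw [Fin.lastCases_last, h2]
    | cast i => rw [Fin.lastCases_castSucc, ← h1, Category.assoc, dropLast, WidePullback.lift_π]
  · rw [WidePullback.lift_base, ← h1, Category.assoc, dropLast, WidePullback.lift_base]

/-- A property stable under base change and composition passes to fibre powers. -/
theorem base_mem (P : MorphismProperty Scheme.{u}) [P.IsStableUnderBaseChange]
    [P.IsStableUnderComposition] [P.ContainsIdentities] (hf : P f) :
    ∀ n : ℕ, P (WidePullback.base fun _ : Fin n => f) := by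
  intro n
  induction n with
  | zero =>
    let j : S ⟶ SymProd.fibPow f 0 := WidePullback.lift (𝟙 S) (fun i => i.elim0) (fun i => i.elim0)
    haveI : IsIso (WidePullback.base fun _ : Fin 0 => f) :=
      ⟨j, WidePullback.hom_ext _ _ _ (fun i => i.elim0) (by
        rw [Category.assoc, WidePullback.lift_base, Category.comp_id, Category.id_comp]), WidePullback.lift_base ..⟩
    exact P.of_isIso _
  | succ n ih =>
    have h : WidePullback.base (fun _ : Fin (n + 1) => f) =
        dropLast f n ≫ WidePullback.base (fun _ : Fin n => f) := (WidePullback.lift_base ..).symm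
    rw [h]
    exact P.comp_mem _ _ (MorphismProperty.of_isPullback (isPullback_dropLast f n).flip hf) ih

end Groth.Agent.FlatSymLib
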