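import Groth.Agent.FlatSymLib.SurjCore
import Groth.Agent.FlatSymLib.FibPow
import Mathlib.AlgebraicGeometry.ResidueField
import Mathlib.AlgebraicGeometry.Morphisms.Flat

/-! The comparison of symmetric powers along base change and closed immersions. -/

set_option autoImplicit false
set_option backward.isDefEq.respectTransparency false
set_option backward.isDefEq.respectTransparency.types false
set_option linter.style.haveILetI false
set_option maxHeartbeats 1600000
universe u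
open CategoryTheory CategoryTheory.Limits AlgebraicGeometry TopologicalSpace

noncomputable section

namespace Groth.Agent.FlatSymLib

section tools

/-- The fibre product of affine opens over an affine open. -/
theorem pullback_opens {A B C D : Scheme.{u}} {p₁ : A ⟶ B} {p₂ : A ⟶ C} {iX : B ⟶ D} {k : C ⟶ D}
    (H : IsPullback p₁ p₂ iX k) {US : D.Opens} (hUS : IsAffineOpen US) {UX : B.Opens} (hUX : IsAffineOpen UX)
    {UT : C.Opens} (hUT : IsAffineOpen UT) (hX : UX ≤ iX ⁻¹ᵁ US) (hT : UT ≤ k ⁻¹ᵁ US) :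
    IsAffineOpen (p₁ ⁻¹ᵁ UX ⊓ p₂ ⁻¹ᵁ UT) ∧
      Subring.closure (Set.range (p₂.appLE UT (p₁ ⁻¹ᵁ UX ⊓ p₂ ⁻¹ᵁ UT) inf_le_right).hom ∪
        Set.range (p₁.appLE UX (p₁ ⁻¹ᵁ UX ⊓ p₂ ⁻¹ᵁ UT) inf_le_left).hom) = ⊤ := by
  haveI : IsAffine _ := hUS
  haveI : IsAffine _ := hUT
  haveI : IsAffine _ := hUX
  refine ⟨.of_isIso (Scheme.Hom.isPullback_resLE H hT hX (UY := p₁ ⁻¹ᵁ UX ⊓ p₂ ⁻¹ᵁ UT) rfl).isoPullback.hom, ?_⟩
  haveI := isIso_pushoutSection_of_isAffineOpen H hT hX (UY := p₁ ⁻¹ᵁ UX ⊓ p₂ ⁻¹ᵁ UT) rfl hUS hUT hUX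
  have hpo := (isIso_pushoutSection_iff H hT hX (UY := p₁ ⁻¹ᵁ UX ⊓ p₂ ⁻¹ᵁ UT) rfl).mp inferInstance
  letI : Algebra Γ(D, US) Γ(B, UX) := (iX.appLE US UX hX).hom.toAlgebra
  letI : Algebra Γ(D, US) Γ(C, UT) := (k.appLE US UT hT).hom.toAlgebra
  letI : Algebra Γ(B, UX) Γ(A, p₁ ⁻¹ᵁ UX ⊓ p₂ ⁻¹ᵁ UT) := (p₁.appLE UX _ inf_le_left).hom.toAlgebra
  letI : Algebra Γ(C, UT) Γ(A, p₁ ⁻¹ᵁ UX ⊓ p₂ ⁻¹ᵁ UT) := (p₂.appLE UT _ inf_le_right).hom.toAlgebra
  letI : Algebra Γ(D, US) Γ(A, p₁ ⁻¹ᵁ UX ⊓ p₂ ⁻¹ᵁ UT) :=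
    (iX.appLE US UX hX ≫ p₁.appLE UX _ inf_le_left).hom.toAlgebra
  haveI : IsScalarTower Γ(D, US) Γ(B, UX) Γ(A, p₁ ⁻¹ᵁ UX ⊓ p₂ ⁻¹ᵁ UT) := .of_algebraMap_eq' rfl
  haveI : IsScalarTower Γ(D, US) Γ(C, UT) Γ(A, p₁ ⁻¹ᵁ UX ⊓ p₂ ⁻¹ᵁ UT) := .of_algebraMap_eq' (by
    show (iX.appLE US UX hX ≫ p₁.appLE UX _ inf_le_left).hom = (k.appLE US UT hT ≫ p₂.appLE UT _ inf_le_right).hom
    simp only [Scheme.Hom.appLE_comp_appLE, H.w])
  haveI hP : Algebra.IsPushout Γ(D, US) Γ(C, UT) Γ(B, UX) Γ(A, p₁ ⁻¹ᵁ UX ⊓ p₂ ⁻¹ᵁ UT) :=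
    CommRingCat.isPushout_iff_isPushout.mp hpo.flip
  refine eq_top_iff.2 fun x _ => hP.out.inductionOn x (fun x => x ∈ Subring.closure _) (Subring.zero_mem _)
    (fun a => Subring.subset_closure (Or.inr ⟨a, rfl⟩)) (fun b y hy => ?_) fun y z hy hz => Subring.add_mem _ hy hz
  rw [Algebra.smul_def]
  exact Subring.mul_mem _ (Subring.subset_closure (Or.inl ⟨b, rfl⟩)) hy

theorem appLE_surjective {A B : Scheme.{u}} (ℓ : A ⟶ B) [IsClosedImmersion ℓ] {U : B.Opens} (hU : IsAffineOpen U)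
    (V : A.Opens) (hV : V = ℓ ⁻¹ᵁ U) : IsAffineOpen V ∧ Function.Surjective (ℓ.appLE U V hV.le).hom := by
  subst hV
  refine ⟨hU.preimage ℓ, ?_⟩
  rw [← Scheme.Hom.app_eq_appLE]
  exact Scheme.Hom.app_surjective ℓ U hU

theorem closure_map {R R' : Type*} [CommRing R] [CommRing R'] (φ : R →+* R') (hφ : Function.Surjective φ)
    {s : Set R} (hs : Subring.closure s = ⊤) : Subring.closure (φ '' s) = ⊤ := by
  rw [← RingHom.map_closure, hs, eq_top_iff]
  exact fun y _ => ⟨(hφ y).choose, trivial, (hφ y).choose_spec⟩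

theorem eval_appLE {A B : Scheme.{u}} (k : A ⟶ B) (U : B.Opens) (V : A.Opens) (e : V ≤ k ⁻¹ᵁ U) (x : A)
    (hx : x ∈ V) (a : Γ(B, U)) :
    (A.evaluation V x hx).hom ((k.appLE U V e).hom a) =
      (k.residueFieldMap x).hom ((B.evaluation U (k x) (e hx)).hom a) := by
  refine Eq.trans ?_ (Scheme.evaluation_naturality_apply k x (e hx) a).symm
  show (A.presheaf.map (homOfLE e).op ≫ A.presheaf.germ V x hx ≫ A.residue x).hom ((k.app U).hom a) = _
  rw [A.presheaf.germ_res_assoc]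
  rfl

theorem residueFieldMap_surjective_of_stalk {A B : Scheme.{u}} (k : A ⟶ B) (x : A)
    (h : Function.Surjective (k.stalkMap x)) : Function.Surjective (k.residueFieldMap x) := by
  have h2 : Function.Surjective (k.stalkMap x ≫ A.residue x) := (A.residue_surjective x).comp h
  rw [← Scheme.residue_residueFieldMap] at h2
  intro y
  obtain ⟨a, ha⟩ := h2 y
  exact ⟨B.residue (k x) a, ha⟩

theorem isIso_residueFieldMap {A B : Scheme.{u}} (k : A ⟶ B) (x : A)
    (h : Function.Surjective (k.residueFieldMap x)) : IsIso (k.residueFieldMap x) :=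
  (ConcreteCategory.isIso_iff_bijective _).mpr ⟨(k.residueFieldMap x).hom.injective, h⟩

end tools

section fibBC

variable {X S S' : Scheme.{u}} (f : X ⟶ S) (gS : S' ⟶ S) (d : ℕ)

/-- A fibre power commutes with base change. -/
def fibBC : SymProd.fibPow (pullback.snd f gS) d ≅ pullback (WidePullback.base fun _ : Fin d => f) gS where
  hom := pullback.lift
    (WidePullback.lift (WidePullback.base (fun _ : Fin d => pullback.snd f gS) ≫ gS)
      (fun i => WidePullback.π (fun _ : Fin d => pullback.snd f gS) i ≫ pullback.fst f gS) (fun i => by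
        rw [Category.assoc, pullback.condition, ← Category.assoc, WidePullback.π_arrow]))
    (WidePullback.base fun _ : Fin d => pullback.snd f gS) (WidePullback.lift_base ..)
  inv := WidePullback.lift (pullback.snd _ gS)
    (fun i => pullback.lift (pullback.fst _ gS ≫ WidePullback.π (fun _ : Fin d => f) i) (pullback.snd _ gS) (by
      rw [Category.assoc, WidePullback.π_arrow, pullback.condition]))
    (fun i => pullback.lift_snd ..)
  hom_inv_id := by
    refine WidePullback.hom_ext _ _ _ (fun i => ?_) ?_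
    · rw [Category.assoc, WidePullback.lift_π, Category.id_comp]
      apply pullback.hom_ext
      · rw [Category.assoc, pullback.lift_fst, pullback.lift_fst_assoc, WidePullback.lift_π]
      · rw [Category.assoc, pullback.lift_snd, pullback.lift_snd]
        exact (WidePullback.π_arrow _ i).symm
    · rw [Category.assoc, WidePullback.lift_base, Category.id_comp, pullback.lift_snd]
  inv_hom_id := by
    apply pullback.hom_ext
    · rw [Category.assoc, pullback.lift_fst, Category.id_comp]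
      refine WidePullback.hom_ext _ _ _ (fun i => ?_) ?_
      · rw [Category.assoc, WidePullback.lift_π, WidePullback.lift_π_assoc, pullback.lift_fst]
      · rw [Category.assoc, WidePullback.lift_base, WidePullback.lift_base_assoc, pullback.condition]
    · rw [Category.assoc, pullback.lift_snd, Category.id_comp, WidePullback.lift_base]

theorem fibBC_hom_snd : (fibBC f gS d).hom ≫ pullback.snd _ gS = WidePullback.base _ := pullback.lift_snd ..

theorem fibBC_hom_fst_π (i : Fin d) :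
    ((fibBC f gS d).hom ≫ pullback.fst _ gS) ≫ WidePullback.π (fun _ : Fin d => f) i =
      WidePullback.π (fun _ : Fin d => pullback.snd f gS) i ≫ pullback.fst f gS := by
  simp only [fibBC, pullback.lift_fst, WidePullback.lift_π]

theorem fibBC_hom_fst_base : ((fibBC f gS d).hom ≫ pullback.fst _ gS) ≫ WidePullback.base (fun _ : Fin d => f) =
    WidePullback.base (fun _ : Fin d => pullback.snd f gS) ≫ gS := by
  simp only [fibBC, pullback.lift_fst, WidePullback.lift_base]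

theorem fibBC_perm (σ : Equiv.Perm (Fin d)) :
    SymProd.permHom (pullback.snd f gS) d σ ≫ (fibBC f gS d).hom ≫ pullback.fst _ gS =
      ((fibBC f gS d).hom ≫ pullback.fst _ gS) ≫ SymProd.permHom f d σ := by
  refine WidePullback.hom_ext _ _ _ (fun i => ?_) ?_
  · rw [Category.assoc, fibBC_hom_fst_π, SymProd.permHom_π_assoc, Category.assoc, SymProd.permHom_π,
      fibBC_hom_fst_π]
  · rw [Category.assoc, fibBC_hom_fst_base, SymProd.permHom_base_assoc, Category.assoc, SymProd.permHom_base,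
      fibBC_hom_fst_base]

variable {X' : Scheme.{u}} {f : X ⟶ S} {f' : X' ⟶ S'} {gS : S' ⟶ S} {h : X' ⟶ X}

theorem fibPowMap_mem (P : MorphismProperty Scheme.{u}) [P.IsStableUnderBaseChange] [P.IsStableUnderComposition]
    [P.ContainsIdentities] {A B T : Scheme.{u}} (a : A ⟶ T) (b : B ⟶ T) (ℓ : A ⟶ B) (hℓb : ℓ ≫ b = a) (hℓ : P ℓ) :
    ∀ n, P (SymProd.fibPowMap a n b ℓ hℓb) := by
  intro n
  induction n with
  | zero =>
    let j : SymProd.fibPow b 0 ⟶ SymProd.fibPow a 0 :=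
      WidePullback.lift (WidePullback.base _) (fun i => i.elim0) (fun i => i.elim0)
    haveI : IsIso (SymProd.fibPowMap a 0 b ℓ hℓb) :=
      ⟨j, WidePullback.hom_ext _ _ _ (fun i => i.elim0) (by
        rw [Category.assoc, WidePullback.lift_base, SymProd.fibPowMap_base, Category.id_comp]),
        WidePullback.hom_ext _ _ _ (fun i => i.elim0) (by
        rw [Category.assoc, SymProd.fibPowMap_base, WidePullback.lift_base, Category.id_comp])⟩
    exact P.of_isIso _
  | succ n ih =>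
    let ea := (isPullback_dropLast a n).isoPullback
    let eb := (isPullback_dropLast b n).isoPullback
    have h : SymProd.fibPowMap a (n + 1) b ℓ hℓb = ea.hom ≫
        pullback.map _ a _ b (SymProd.fibPowMap a n b ℓ hℓb) ℓ (𝟙 T)
          ((Category.comp_id _).trans (SymProd.fibPowMap_base a n b ℓ hℓb).symm)
          ((Category.comp_id _).trans hℓb.symm) ≫ eb.inv := by
      rw [← Category.assoc, Iso.eq_comp_inv]
      apply pullback.hom_ext
      · simp only [ea, eb, Category.assoc, pullback.map, pullback.lift_fst, IsPullback.isoPullback_hom_fst,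
          IsPullback.isoPullback_hom_fst_assoc]
        refine WidePullback.hom_ext _ _ _ (fun i => ?_) ?_
        · simp only [Category.assoc, dropLast, WidePullback.lift_π, SymProd.fibPowMap_π, WidePullback.lift_π_assoc]
        · simp only [Category.assoc, dropLast, WidePullback.lift_base, SymProd.fibPowMap_base]
      · simp only [ea, eb, Category.assoc, pullback.map, pullback.lift_snd, IsPullback.isoPullback_hom_snd,
          IsPullback.isoPullback_hom_snd_assoc, SymProd.fibPowMap_π]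
    rw [h, P.cancel_left_of_respectsIso, P.cancel_right_of_respectsIso]
    exact MorphismProperty.pullbackMap ih hℓ (SymProd.fibPowMap_base a n b ℓ hℓb).symm hℓb.symm

theorem hgen_of_closed (w : h ≫ f = f' ≫ gS) [IsClosedImmersion (pullback.lift h f' w)]
    {S₀ : S.Opens} (hS₀ : IsAffineOpen S₀) {S₁ : S'.Opens} (hS₁ : IsAffineOpen S₁) (h01 : S₁ ≤ gS ⁻¹ᵁ S₀)
    (U : X.Opens) (hU : IsAffineOpen U) (hle : U ≤ f ⁻¹ᵁ S₀) : IsAffineOpen (h ⁻¹ᵁ U ⊓ f' ⁻¹ᵁ S₁) ∧
      Subring.closure (Set.range (f'.appLE S₁ (h ⁻¹ᵁ U ⊓ f' ⁻¹ᵁ S₁) inf_le_right).hom ∪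
        Set.range (h.appLE U (h ⁻¹ᵁ U ⊓ f' ⁻¹ᵁ S₁) inf_le_left).hom) = ⊤ := by
  obtain ⟨hP, hgenP⟩ := pullback_opens (IsPullback.of_hasPullback f gS) hS₀ hU hS₁ hle h01
  have hV : h ⁻¹ᵁ U ⊓ f' ⁻¹ᵁ S₁ =
      pullback.lift h f' w ⁻¹ᵁ (pullback.fst f gS ⁻¹ᵁ U ⊓ pullback.snd f gS ⁻¹ᵁ S₁) := by
    rw [Scheme.Hom.preimage_inf, ← Scheme.Hom.comp_preimage, ← Scheme.Hom.comp_preimage, pullback.lift_fst,
      pullback.lift_snd]
  obtain ⟨hA, hsurj⟩ := appLE_surjective (pullback.lift h f' w) hP _ hV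
  refine ⟨hA, ?_⟩
  rw [← closure_map _ hsurj hgenP, Set.image_union, ← Set.range_comp, ← Set.range_comp]
  congr 2 <;>
  · congr 1
    funext a
    simp only [Function.comp_apply]
    rw [← CategoryTheory.comp_apply, Scheme.Hom.appLE_comp_appLE]
    simp only [pullback.lift_fst, pullback.lift_snd]

theorem isAffineHom_lift (w : h ≫ f = f' ≫ gS) [IsClosedImmersion (pullback.lift h f' w)]
    (π : SymProd.fibPow f' d ⟶ SymProd.fibPow f d)
    (hπ : ∀ i, π ≫ WidePullback.π (fun _ : Fin d => f) i = WidePullback.π (fun _ : Fin d => f') i ≫ h)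
    (hπb : π ≫ WidePullback.base (fun _ : Fin d => f) = WidePullback.base (fun _ : Fin d => f') ≫ gS) :
    IsAffineHom (pullback.lift π (WidePullback.base fun _ : Fin d => f') hπb) := by
  have h1 : pullback.lift π (WidePullback.base fun _ : Fin d => f') hπb =
      SymProd.fibPowMap f' d (pullback.snd f gS) (pullback.lift h f' w) (pullback.lift_snd ..) ≫
        (fibBC f gS d).hom := by
    apply pullback.hom_ext
    · rw [pullback.lift_fst, Category.assoc]
      refine WidePullback.hom_ext _ _ _ (fun i => ?_) ?_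
      · rw [hπ, Category.assoc, fibBC_hom_fst_π, SymProd.fibPowMap_π_assoc, pullback.lift_fst]
      · rw [hπb, Category.assoc, fibBC_hom_fst_base, SymProd.fibPowMap_base_assoc]
    · rw [pullback.lift_snd, Category.assoc, fibBC_hom_snd, SymProd.fibPowMap_base]
  rw [h1, MorphismProperty.cancel_right_of_respectsIso @IsAffineHom]
  exact fibPowMap_mem @IsAffineHom _ _ _ _ inferInstance d

end fibBC

section compare

variable {X X' S S' Y Y' : Scheme.{u}} {f : X ⟶ S} {f' : X' ⟶ S'} {gS : S' ⟶ S} {h : X' ⟶ X} {d : ℕ}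
  {q : SymProd.fibPow f d ⟶ Y} {g : Y ⟶ S} {r : SymProd.fibPow f' d ⟶ Y'} {gY' : Y' ⟶ S'}

theorem affine_O (w : h ≫ f = f' ≫ gS) [IsClosedImmersion (pullback.lift h f' w)] (hq : SymProd.IsSymProd f d q g)
    (π : SymProd.fibPow f' d ⟶ SymProd.fibPow f d)
    (hπ : ∀ i, π ≫ WidePullback.π (fun _ : Fin d => f) i = WidePullback.π (fun _ : Fin d => f') i ≫ h)
    (hπb : π ≫ WidePullback.base (fun _ : Fin d => f) = WidePullback.base (fun _ : Fin d => f') ≫ gS)
    {S₀ : S.Opens} (hS₀ : IsAffineOpen S₀) {S₁ : S'.Opens} (hS₁ : IsAffineOpen S₁) (h01 : S₁ ≤ gS ⁻¹ᵁ S₀)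
    {V : Y.Opens} (hV : IsAffineOpen V) (hV0 : V ≤ g ⁻¹ᵁ S₀) :
    IsAffineOpen ((π ≫ q) ⁻¹ᵁ V ⊓ WidePullback.base (fun _ : Fin d => f') ⁻¹ᵁ S₁) := by
  haveI := hq.isQuot.affine
  haveI := isAffineHom_lift d w π hπ hπb
  have hle : q ⁻¹ᵁ V ≤ WidePullback.base (fun _ : Fin d => f) ⁻¹ᵁ S₀ := by
    rw [← hq.over, Scheme.Hom.comp_preimage]
    exact fun z hz => hV0 hz
  have h1 := (pullback_opens (IsPullback.of_hasPullback (WidePullback.base fun _ : Fin d => f) gS)
    hS₀ (hV.preimage q) hS₁ hle h01).1.preimage (pullback.lift π (WidePullback.base fun _ : Fin d => f') hπb)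
  refine (congrArg IsAffineOpen ?_).mp h1
  rw [Scheme.Hom.preimage_inf]
  congr 1
  · simp only [← Scheme.Hom.comp_preimage, pullback.lift_fst_assoc]
  · simp only [← Scheme.Hom.comp_preimage, pullback.lift_snd]

theorem range_le_image (_ : SymProd.IsSymProd f d q g)
    (π : SymProd.fibPow f' d ⟶ SymProd.fibPow f d)
    (hr : SGA1.IsQuot (SymProd.permActU f' d) r)
    (hov : r ≫ gY' = WidePullback.base (fun _ : Fin d => f')) (m1 : Y' ⟶ Y) (hm1 : r ≫ m1 = π ≫ q)
    (hm : m1 ≫ g = gY' ≫ gS) {S₁ : S'.Opens} {V : Y.Opens} :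
    r ⁻¹ᵁ (pullback.lift m1 gY' hm ⁻¹ᵁ (pullback.fst g gS ⁻¹ᵁ V ⊓ pullback.snd g gS ⁻¹ᵁ S₁)) =
      (π ≫ q) ⁻¹ᵁ V ⊓ WidePullback.base (fun _ : Fin d => f') ⁻¹ᵁ S₁ := by
  rw [← Scheme.Hom.comp_preimage, Scheme.Hom.preimage_inf, ← Scheme.Hom.comp_preimage,
    ← Scheme.Hom.comp_preimage, Category.assoc, Category.assoc, pullback.lift_fst, pullback.lift_snd, hm1, hov]

/-- Over a flat morphism the comparison is a closed immersion. -/
theorem isClosedImmersion_compare [Flat f'] (w : h ≫ f = f' ≫ gS) [IsClosedImmersion (pullback.lift h f' w)]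
    (hq : SymProd.IsSymProd f d q g) (π : SymProd.fibPow f' d ⟶ SymProd.fibPow f d)
    (hπ : ∀ i, π ≫ WidePullback.π (fun _ : Fin d => f) i = WidePullback.π (fun _ : Fin d => f') i ≫ h)
    (hπb : π ≫ WidePullback.base (fun _ : Fin d => f) = WidePullback.base (fun _ : Fin d => f') ≫ gS)
    (hr : SGA1.IsQuot (SymProd.permActU f' d) r) (hov : r ≫ gY' = WidePullback.base (fun _ : Fin d => f'))
    (m1 : Y' ⟶ Y) (hm1 : r ≫ m1 = π ≫ q) (hm : m1 ≫ g = gY' ≫ gS) :
    IsClosedImmersion (pullback.lift m1 gY' hm) := by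
  refine IsZariskiLocalAtTarget.of_forall_exists_morphismRestrict (P := @IsClosedImmersion) fun z => ?_
  obtain ⟨S₀, hS₀, hzS₀, -⟩ := exists_isAffineOpen_mem_and_subset (X := S)
    (x := gS (pullback.snd g gS z)) (U := ⊤) trivial
  obtain ⟨S₁, hS₁, hzS₁, h01⟩ := exists_isAffineOpen_mem_and_subset (X := S') (x := pullback.snd g gS z)
    (U := gS ⁻¹ᵁ S₀) hzS₀
  obtain ⟨V, hV, hzV, hV0⟩ := exists_isAffineOpen_mem_and_subset (X := Y) (x := pullback.fst g gS z)
    (U := g ⁻¹ᵁ S₀) (show g (pullback.fst g gS z) ∈ S₀ by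
      rw [← Scheme.Hom.comp_apply, pullback.condition, Scheme.Hom.comp_apply]; exact hzS₀)
  obtain ⟨hZ, -⟩ := pullback_opens (IsPullback.of_hasPullback g gS) hS₀ hV hS₁ hV0 h01
  let Zo := pullback.fst g gS ⁻¹ᵁ V ⊓ pullback.snd g gS ⁻¹ᵁ S₁
  refine ⟨Zo, ⟨hzV, hzS₁⟩, ?_⟩
  let mb := pullback.lift m1 gY' hm
  let W := mb ⁻¹ᵁ Zo
  have hrW := range_le_image (S₁ := S₁) (V := V) hq π hr hov m1 hm1 hm
  have hO' := affine_O w hq π hπ hπb hS₀ hS₁ h01 hV hV0
  haveI : IsAffine (r ⁻¹ᵁ W).toScheme := hrW ▸ hO'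
  haveI : IsAffine W.toScheme := QuotLib.isAffine_of_isQuot (QuotLib.isQuot_restrict hr W)
  haveI : IsAffine Zo.toScheme := hZ
  refine IsClosedImmersion.of_surjective_of_isAffine (mb ∣_ Zo) ?_
  suffices hsur : ∀ U, U = Zo → Function.Surjective (mb.app U).hom by
    rw [show (mb ∣_ Zo).appTop = _ from morphismRestrict_appTop mb Zo]
    exact (ConcreteCategory.bijective_of_isIso (Y'.presheaf.map (eqToHom _).op)).2.comp (hsur _ Zo.ι_image_top)
  rintro U rfl a
  let O' := (π ≫ q) ⁻¹ᵁ V ⊓ WidePullback.base (fun _ : Fin d => f') ⁻¹ᵁ S₁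
  have hO'W : O' ≤ r ⁻¹ᵁ W := hrW.ge
  let rW : Γ(Y', W) →+* Γ(SymProd.fibPow f' d, O') := (r.appLE W O' hO'W).hom
  have hinj : Function.Injective rW := by
    have : IsIso ((SymProd.fibPow f' d).presheaf.map (homOfLE hO'W).op) := by
      rw [show homOfLE hO'W = eqToHom hrW.symm from rfl]
      infer_instance
    show Function.Injective (r.app W ≫ (SymProd.fibPow f' d).presheaf.map (homOfLE hO'W).op).hom
    exact (ConcreteCategory.bijective_of_isIso ((SymProd.fibPow f' d).presheaf.map (homOfLE hO'W).op)).1.comp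
      (hr.injective W)
  have hs : ∀ σ e, ((SymProd.permHom f' d σ).appLE O' O' e).hom (rW a) = rW a := by
    intro σ e
    refine congrArg (fun φ : Γ(Y', W) ⟶ Γ(SymProd.fibPow f' d, O') => φ.hom a)
      (a₁ := r.appLE W O' hO'W ≫ (SymProd.permHom f' d σ).appLE O' O' e) (a₂ := r.appLE W O' hO'W) ?_
    rw [Scheme.Hom.appLE_comp_appLE]
    congr 1
    exact hr.inv ⟨σ⟩
  have hmem := invariant_mem_closure w hq π hπ hπb S₀ hS₀ S₁ hS₁ h01
    (fun U hU hle => hgen_of_closed w hS₀ hS₁ h01 U hU hle) V hV hV0 hO' (rW a) hs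
  have hsub : Subring.closure (Set.range ((WidePullback.base (fun _ : Fin d => f')).appLE S₁ O' inf_le_right).hom ∪
      Set.range ((π ≫ q).appLE V O' inf_le_left).hom) ≤ ((mb.app Zo).hom.range).map rW := by
    rw [Subring.closure_le]
    rintro _ (⟨t, rfl⟩ | ⟨t, rfl⟩)
    · refine ⟨_, ⟨((pullback.snd g gS).appLE S₁ Zo inf_le_right).hom t, rfl⟩, ?_⟩
      refine congrArg (fun φ : Γ(S', S₁) ⟶ Γ(SymProd.fibPow f' d, O') => φ.hom t)
        (a₁ := (pullback.snd g gS).appLE S₁ Zo inf_le_right ≫ mb.app Zo ≫ r.appLE W O' hO'W) ?_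
      simp only [← Scheme.Hom.appLE_eq_app, Scheme.Hom.appLE_comp_appLE, mb, Category.assoc, pullback.lift_snd, hov, W]
    · refine ⟨_, ⟨((pullback.fst g gS).appLE V Zo inf_le_left).hom t, rfl⟩, ?_⟩
      refine congrArg (fun φ : Γ(Y, V) ⟶ Γ(SymProd.fibPow f' d, O') => φ.hom t)
        (a₁ := (pullback.fst g gS).appLE V Zo inf_le_left ≫ mb.app Zo ≫ r.appLE W O' hO'W) ?_
      simp only [← Scheme.Hom.appLE_eq_app, Scheme.Hom.appLE_comp_appLE, mb, Category.assoc, pullback.lift_fst, hm1, W]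
  obtain ⟨b, ⟨c, hc⟩, hb⟩ := hsub hmem
  exact ⟨c, hc.trans (hinj hb)⟩

end compare

section residue

/-- Elements of a residue field at a point of an affine open are fractions of values of sections. -/
theorem exists_eval_frac {A : Scheme.{u}} {U : A.Opens} (hU : IsAffineOpen U) (x : A) (hx : x ∈ U)
    (y : A.residueField x) :
    ∃ a b : Γ(A, U), (A.evaluation U x hx).hom b ≠ 0 ∧
      y * (A.evaluation U x hx).hom b = (A.evaluation U x hx).hom a := by
  obtain ⟨z, rfl⟩ := A.residue_surjective x y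
  letI := TopCat.Presheaf.algebra_section_stalk A.presheaf (⟨x, hx⟩ : U)
  haveI := hU.isLocalization_stalk ⟨x, hx⟩
  obtain ⟨⟨a, b⟩, hab⟩ := IsLocalization.surj (hU.primeIdealOf ⟨x, hx⟩).asIdeal.primeCompl z
  refine ⟨a, b, ?_, ?_⟩
  · have h1 : IsUnit (algebraMap Γ(A, U) (A.presheaf.stalk x) b.1) := IsLocalization.map_units _ b
    exact (h1.map (A.residue x).hom).ne_zero
  · exact ((map_mul (A.residue x).hom _ _).symm.trans (congrArg (A.residue x).hom hab))

variable {X X' S S' Y Y' : Scheme.{u}} {f : X ⟶ S} {f' : X' ⟶ S'} {gS : S' ⟶ S} {h : X' ⟶ X} {d : ℕ}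
  {q : SymProd.fibPow f d ⟶ Y} {g : Y ⟶ S} {r : SymProd.fibPow f' d ⟶ Y'} {gY' : Y' ⟶ S'}

/-- The comparison induces isomorphisms of residue fields. -/
theorem residueFieldMap_compare_surjective (w : h ≫ f = f' ≫ gS) [IsClosedImmersion (pullback.lift h f' w)]
    (hq : SymProd.IsSymProd f d q g) (π : SymProd.fibPow f' d ⟶ SymProd.fibPow f d)
    (hπ : ∀ i, π ≫ WidePullback.π (fun _ : Fin d => f) i = WidePullback.π (fun _ : Fin d => f') i ≫ h)
    (hπb : π ≫ WidePullback.base (fun _ : Fin d => f) = WidePullback.base (fun _ : Fin d => f') ≫ gS)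
    (hr : SGA1.IsQuot (SymProd.permActU f' d) r) (hov : r ≫ gY' = WidePullback.base (fun _ : Fin d => f'))
    (m1 : Y' ⟶ Y) (hm1 : r ≫ m1 = π ≫ q) (hm : m1 ≫ g = gY' ≫ gS) (y : Y') :
    Function.Surjective ((pullback.lift m1 gY' hm).residueFieldMap y) := by
  classical
  obtain ⟨x, rfl⟩ := QuotLib.surjective hr y
  let b' : SymProd.fibPow f' d ⟶ S' := WidePullback.base (fun _ : Fin d => f')
  let mb := pullback.lift m1 gY' hm
  -- a point of the fibre over the point of the base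
  suffices key : ∀ (s : S') (x'' : SymProd.fibPow (pullback.snd f' (S'.fromSpecResidueField s)) d),
      Function.Surjective (mb.residueFieldMap
        (r (((fibBC f' (S'.fromSpecResidueField s) d).hom ≫ pullback.fst _ _) x''))) by
    obtain ⟨p, hp1, -⟩ := Scheme.Pullback.exists_preimage_pullback (f := b') (g := S'.fromSpecResidueField (b' x))
      x default (Scheme.fromSpecResidueField_apply (b' x) default).symm
    have h1 := key (b' x) ((fibBC f' (S'.fromSpecResidueField (b' x)) d).inv p)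
    rw [← Scheme.Hom.comp_apply (fibBC f' _ d).inv, Iso.inv_hom_id_assoc] at h1
    exact hp1 ▸ h1
  intro s x''
  let ιk := S'.fromSpecResidueField s
  let f'' := pullback.snd f' ιk
  haveI : Flat f'' := inferInstance
  let e := fibBC f' ιk d
  let j : SymProd.fibPow f'' d ⟶ SymProd.fibPow f' d := e.hom ≫ pullback.fst _ ιk
  show Function.Surjective (mb.residueFieldMap (r (j x'')))
  have hjb : j ≫ b' = WidePullback.base (fun _ : Fin d => f'') ≫ ιk := fibBC_hom_fst_base f' ιk d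
  have hbs : b' (j x'') = s := by
    rw [← Scheme.Hom.comp_apply, hjb, Scheme.Hom.comp_apply]
    exact Scheme.fromSpecResidueField_apply s _
  let K := (j ≫ r) ≫ mb
  -- affine opens
  obtain ⟨S₀, hS₀, hs0, -⟩ := exists_isAffineOpen_mem_and_subset (X := S) (x := gS (s)) (U := ⊤) trivial
  obtain ⟨S₁, hS₁, hs1, h01⟩ := exists_isAffineOpen_mem_and_subset (X := S') (x := s)
    (U := gS ⁻¹ᵁ S₀) hs0
  have hgy : gY' (r (j x'')) = s := by
    rw [← Scheme.Hom.comp_apply r gY', hov]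
    exact hbs
  obtain ⟨V, hV, hzV, hV0⟩ := exists_isAffineOpen_mem_and_subset (X := Y) (x := m1 (r (j x'')))
    (U := g ⁻¹ᵁ S₀) (show g (m1 (r (j x''))) ∈ S₀ by
      rw [← Scheme.Hom.comp_apply, hm, Scheme.Hom.comp_apply, hgy]; exact hs0)
  let Zo := pullback.fst g gS ⁻¹ᵁ V ⊓ pullback.snd g gS ⁻¹ᵁ S₁
  let W := mb ⁻¹ᵁ Zo
  have hyW : r (j x'') ∈ W := by
    refine ⟨?_, ?_⟩
    · show (mb ≫ pullback.fst g gS) (r (j x'')) ∈ V
      rw [pullback.lift_fst]
      exact hzV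
    · show (mb ≫ pullback.snd g gS) (r (j x'')) ∈ S₁
      rw [pullback.lift_snd, hgy]
      exact hs1
  let O' := (π ≫ q) ⁻¹ᵁ V ⊓ b' ⁻¹ᵁ S₁
  have hrW : r ⁻¹ᵁ W = O' := range_le_image (S₁ := S₁) (V := V) hq π hr hov m1 hm1 hm
  have hO' : IsAffineOpen O' := affine_O w hq π hπ hπb hS₀ hS₁ h01 hV hV0
  haveI : IsAffine (r ⁻¹ᵁ W).toScheme := hrW ▸ hO'
  have hWa : IsAffineOpen W := QuotLib.isAffine_of_isQuot (QuotLib.isQuot_restrict hr W)
  -- the fibre
  have hk : ⊤ ≤ ιk ⁻¹ᵁ S₁ := fun t _ => by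
    show ιk t ∈ S₁
    rw [Scheme.fromSpecResidueField_apply]
    exact hs1
  have hk0 : ⊤ ≤ (ιk ≫ gS) ⁻¹ᵁ S₀ := fun t ht => h01 (hk ht)
  have hT : IsAffineOpen (⊤ : (Spec (S'.residueField (s))).Opens) := isAffineOpen_top _
  let h'' := pullback.fst f' ιk ≫ h
  have w'' : h'' ≫ f = f'' ≫ ιk ≫ gS := by
    rw [Category.assoc, w, pullback.condition_assoc]
  have hπ'' : ∀ i, (j ≫ π) ≫ WidePullback.π (fun _ : Fin d => f) i =
      WidePullback.π (fun _ : Fin d => f'') i ≫ h'' := fun i => by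
    rw [Category.assoc, hπ, ← Category.assoc, fibBC_hom_fst_π, Category.assoc]
  have hπb'' : (j ≫ π) ≫ WidePullback.base (fun _ : Fin d => f) =
      WidePullback.base (fun _ : Fin d => f'') ≫ ιk ≫ gS := by
    rw [Category.assoc, hπb, ← Category.assoc, fibBC_hom_fst_base, Category.assoc]
  have hgen'' : ∀ (U : X.Opens), IsAffineOpen U → U ≤ f ⁻¹ᵁ S₀ → IsAffineOpen (h'' ⁻¹ᵁ U ⊓ f'' ⁻¹ᵁ ⊤) ∧
      Subring.closure (Set.range (f''.appLE ⊤ (h'' ⁻¹ᵁ U ⊓ f'' ⁻¹ᵁ ⊤) inf_le_right).hom ∪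
        Set.range (h''.appLE U (h'' ⁻¹ᵁ U ⊓ f'' ⁻¹ᵁ ⊤) inf_le_left).hom) = ⊤ := by
    intro U hU hle
    obtain ⟨hU', hgU'⟩ := hgen_of_closed w hS₀ hS₁ h01 U hU hle
    let U' := h ⁻¹ᵁ U ⊓ f' ⁻¹ᵁ S₁
    obtain ⟨hA, hgA⟩ := pullback_opens (IsPullback.of_hasPullback f' ιk) hS₁ hU' hT inf_le_right hk
    have hV' : h'' ⁻¹ᵁ U ⊓ f'' ⁻¹ᵁ ⊤ = pullback.fst f' ιk ⁻¹ᵁ U' ⊓ f'' ⁻¹ᵁ ⊤ := by
      refine TopologicalSpace.Opens.ext (Set.ext fun t => ⟨fun ht => ⟨⟨ht.1, ?_⟩, ht.2⟩, fun ht => ⟨ht.1.1, ht.2⟩⟩)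
      show (pullback.fst f' ιk ≫ f') t ∈ S₁
      rw [pullback.condition]
      exact hk trivial
    have key : ∀ (V'' : (pullback f' ιk).Opens) (e1 : V'' ≤ h'' ⁻¹ᵁ U) (e2 : V'' ≤ f'' ⁻¹ᵁ ⊤),
        V'' = pullback.fst f' ιk ⁻¹ᵁ U' ⊓ f'' ⁻¹ᵁ ⊤ → IsAffineOpen V'' ∧
          Subring.closure (Set.range (f''.appLE ⊤ V'' e2).hom ∪ Set.range (h''.appLE U V'' e1).hom) = ⊤ := by
      rintro V'' e1 e2 rfl
      refine ⟨hA, eq_top_iff.2 (hgA.ge.trans ((Subring.closure_le).2 ?_))⟩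
      rintro _ (⟨t, rfl⟩ | ⟨u, rfl⟩)
      · exact Subring.subset_closure (Or.inl ⟨t, rfl⟩)
      · have hu : u ∈ Subring.closure _ := hgU'.ge (Subring.mem_top u)
        refine (Subring.closure_le (t := (Subring.closure _).comap
          ((pullback.fst f' ιk).appLE U' (pullback.fst f' ιk ⁻¹ᵁ U' ⊓ f'' ⁻¹ᵁ ⊤) inf_le_left).hom)).2 ?_ hu
        rintro _ (⟨t, rfl⟩ | ⟨t, rfl⟩)
        · refine Subring.subset_closure (Or.inl ⟨(ιk.appLE S₁ ⊤ hk).hom t, ?_⟩)
          refine congrArg (fun φ : Γ(S', S₁) ⟶ Γ(pullback f' ιk, pullback.fst f' ιk ⁻¹ᵁ U' ⊓ f'' ⁻¹ᵁ ⊤) => φ.hom t)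
            (a₁ := ιk.appLE S₁ ⊤ hk ≫ f''.appLE ⊤ _ e2)
            (a₂ := f'.appLE S₁ U' inf_le_right ≫ (pullback.fst f' ιk).appLE U' _ inf_le_left) ?_
          simp only [Scheme.Hom.appLE_comp_appLE, f'', pullback.condition]
        · refine Subring.subset_closure (Or.inr ⟨t, ?_⟩)
          refine congrArg (fun φ : Γ(X, U) ⟶ Γ(pullback f' ιk, pullback.fst f' ιk ⁻¹ᵁ U' ⊓ f'' ⁻¹ᵁ ⊤) => φ.hom t)
            (a₂ := h.appLE U U' inf_le_left ≫ (pullback.fst f' ιk).appLE U' _ inf_le_left) ?_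
          simp only [Scheme.Hom.appLE_comp_appLE, h'']
    exact key _ _ _ hV'
  let O'' := ((j ≫ π) ≫ q) ⁻¹ᵁ V ⊓ WidePullback.base (fun _ : Fin d => f'') ⁻¹ᵁ ⊤
  have hO''eq : O'' = e.hom ⁻¹ᵁ (pullback.fst _ ιk ⁻¹ᵁ O' ⊓ pullback.snd _ ιk ⁻¹ᵁ ⊤) := by
    refine TopologicalSpace.Opens.ext (Set.ext fun t => ⟨fun ht => ⟨⟨ht.1, ?_⟩, trivial⟩, fun ht => ⟨ht.1.1, trivial⟩⟩)
    show (j ≫ b') t ∈ S₁
    rw [hjb]
    exact hk trivial
  have hO''a : IsAffineOpen O'' := by
    rw [hO''eq]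
    exact (pullback_opens (IsPullback.of_hasPullback b' ιk) hS₁ hO' hT inf_le_right hk).1.preimage e.hom
  have hO''W : O'' ≤ (j ≫ r) ⁻¹ᵁ W := by
    intro t ht
    show j t ∈ r ⁻¹ᵁ W
    rw [hrW]
    exact (hO''eq.le ht).1
  have hxO : x'' ∈ O'' := by
    have h' : j x'' ∈ O' := hrW.le hyW
    exact ⟨h'.1, trivial⟩
  -- every value is in the image
  have hval : ∀ a : Γ(Y', W), ((SymProd.fibPow f'' d).evaluation O'' x'' hxO).hom (((j ≫ r).appLE W O'' hO''W).hom a) ∈
      (K.residueFieldMap x'').hom.fieldRange := by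
    intro a
    have hs : ∀ σ e', ((SymProd.permHom f'' d σ).appLE O'' O'' e').hom (((j ≫ r).appLE W O'' hO''W).hom a) =
        ((j ≫ r).appLE W O'' hO''W).hom a := by
      intro σ e'
      refine congrArg (fun φ : Γ(Y', W) ⟶ Γ(SymProd.fibPow f'' d, O'') => φ.hom a)
        (a₁ := (j ≫ r).appLE W O'' hO''W ≫ (SymProd.permHom f'' d σ).appLE O'' O'' e')
        (a₂ := (j ≫ r).appLE W O'' hO''W) ?_
      rw [Scheme.Hom.appLE_comp_appLE]
      congr 1
      rw [← Category.assoc, show SymProd.permHom f'' d σ ≫ j = j ≫ SymProd.permHom f' d σ from fibBC_perm f' ιk d σ,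
        Category.assoc]
      exact congrArg (j ≫ ·) (hr.inv ⟨σ⟩)
    have hmem := invariant_mem_closure w'' hq (j ≫ π) hπ'' hπb'' S₀ hS₀ ⊤ hT hk0 hgen'' V hV hV0 hO''a _ hs
    refine (Subring.closure_le (t := (K.residueFieldMap x'').hom.fieldRange.toSubring.comap
      ((SymProd.fibPow f'' d).evaluation O'' x'' hxO).hom)).2 ?_ hmem
    have hK : O'' ≤ K ⁻¹ᵁ Zo := hO''W
    have hKa : ∀ c, ((SymProd.fibPow f'' d).evaluation O'' x'' hxO).hom ((K.appLE Zo O'' hK).hom c) ∈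
        (K.residueFieldMap x'').hom.fieldRange := fun c => ⟨_, (eval_appLE K Zo O'' hK x'' hxO c).symm⟩
    rintro _ (⟨t, rfl⟩ | ⟨t, rfl⟩)
    · refine (show ((SymProd.fibPow f'' d).evaluation O'' x'' hxO).hom _ ∈ (K.residueFieldMap x'').hom.fieldRange from ?_)
      have hxk : (WidePullback.base (fun _ : Fin d => f'')) x'' ∈ (⊤ : (Spec (S'.residueField (s))).Opens) := trivial
      obtain ⟨y, hy⟩ := (ConcreteCategory.bijective_of_isIso (Scheme.ΓSpecIso (S'.residueField (s))).inv).2 t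
      subst hy
      obtain ⟨ca, cb, hcb, hc⟩ := exists_eval_frac hS₁ (s) hs1 y
      let Φ : S'.residueField (s) →+* (SymProd.fibPow f'' d).residueField x'' :=
        ((Scheme.ΓSpecIso (S'.residueField (s))).inv ≫
          (WidePullback.base (fun _ : Fin d => f'')).appLE ⊤ O'' inf_le_right ≫
          (SymProd.fibPow f'' d).evaluation O'' x'' hxO).hom
      have hΦ : ∀ c, Φ ((S'.evaluation S₁ (s) hs1).hom c) ∈ (K.residueFieldMap x'').hom.fieldRange := by
        intro c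
        have h1 : Φ ((S'.evaluation S₁ (s) hs1).hom c) =
            ((SymProd.fibPow f'' d).evaluation O'' x'' hxO).hom ((K.appLE Zo O'' hK).hom
              (((pullback.snd g gS).appLE S₁ Zo inf_le_right).hom c)) := by
          refine congrArg (fun φ : Γ(S', S₁) ⟶ (SymProd.fibPow f'' d).residueField x'' => φ.hom c)
            (a₁ := S'.evaluation S₁ (s) hs1 ≫ (Scheme.ΓSpecIso (S'.residueField (s))).inv ≫
              (WidePullback.base (fun _ : Fin d => f'')).appLE ⊤ O'' inf_le_right ≫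
              (SymProd.fibPow f'' d).evaluation O'' x'' hxO)
            (a₂ := (pullback.snd g gS).appLE S₁ Zo inf_le_right ≫ K.appLE Zo O'' hK ≫
              (SymProd.fibPow f'' d).evaluation O'' x'' hxO) ?_
          have h2 : S'.evaluation S₁ (s) hs1 ≫ (Scheme.ΓSpecIso (S'.residueField (s))).inv =
              ιk.appLE S₁ ⊤ hk := by
            have h3 : ιk = Spec.map (S'.evaluation S₁ (s) hs1) ≫ hS₁.fromSpec := by
              show Spec.map (S'.residue _) ≫ S'.fromSpecStalk _ = _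
              rw [← hS₁.fromSpecStalk_eq_fromSpecStalk hs1, IsAffineOpen.fromSpecStalk, ← Spec.map_comp_assoc]
              rfl
            simp only [h3]
            rw [← Scheme.Hom.appLE_comp_appLE (Spec.map _) hS₁.fromSpec S₁ ⊤ ⊤ (by simp) le_top,
              fromSpec_appLE_self, Scheme.ΓSpecIso_inv_naturality]
            congr 1
          rw [reassoc_of% h2, Scheme.Hom.appLE_comp_appLE_assoc, Scheme.Hom.appLE_comp_appLE_assoc]
          congr 1
          congr 1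
          simp only [K, Category.assoc, mb, pullback.lift_snd, hov]
          exact hjb.symm
        rw [h1]
        exact hKa _
      refine (show Φ y ∈ (K.residueFieldMap x'').hom.fieldRange from ?_)
      have hb0 : Φ ((S'.evaluation S₁ (s) hs1).hom cb) ≠ 0 := fun h0 => hcb ((map_eq_zero Φ).1 h0)
      have h4 : Φ y = Φ ((S'.evaluation S₁ (s) hs1).hom ca) / Φ ((S'.evaluation S₁ (s) hs1).hom cb) := by
        rw [eq_div_iff hb0, ← map_mul, hc]
      rw [h4]
      exact div_mem (hΦ ca) (hΦ cb)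
    · refine (show ((SymProd.fibPow f'' d).evaluation O'' x'' hxO).hom _ ∈ (K.residueFieldMap x'').hom.fieldRange from ?_)
      have h1 : (((j ≫ π) ≫ q).appLE V O'' inf_le_left).hom t =
          (K.appLE Zo O'' hK).hom (((pullback.fst g gS).appLE V Zo inf_le_left).hom t) := by
        refine congrArg (fun φ : Γ(Y, V) ⟶ Γ(SymProd.fibPow f'' d, O'') => φ.hom t)
          (a₂ := (pullback.fst g gS).appLE V Zo inf_le_left ≫ K.appLE Zo O'' hK) ?_
        rw [Scheme.Hom.appLE_comp_appLE]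
        congr 1
        simp only [K, Category.assoc, mb, pullback.lift_fst, hm1]
      rw [h1]
      exact hKa _
  -- conclude
  intro z
  have hev : ∀ a, (Y'.evaluation W (r (j x'')) hyW).hom a ∈ (mb.residueFieldMap (r (j x''))).hom.fieldRange := by
    intro a
    obtain ⟨t, ht⟩ := hval a
    refine ⟨t, ((j ≫ r).residueFieldMap x'').hom.injective ?_⟩
    refine Eq.trans ?_ (ht.trans (eval_appLE (j ≫ r) W O'' hO''W x'' hxO a))
    exact (congrArg (fun φ : (pullback g gS).residueField (K x'') ⟶ (SymProd.fibPow f'' d).residueField x'' => φ.hom t)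
      (Scheme.residueFieldMap_comp (j ≫ r) mb x'')).symm
  obtain ⟨a, b, hb, hab⟩ := exists_eval_frac hWa (r (j x'')) hyW z
  have : z ∈ (mb.residueFieldMap (r (j x''))).hom.fieldRange := by
    rw [(eq_div_iff hb).2 hab]
    exact div_mem (hev a) (hev b)
  exact this

end residue

end Groth.Agent.FlatSymLib
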