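import Groth.Agent.QuotLib.Affine
import Groth.Agent.QuotLib.Desc

/-! Invariant opens are saturated; quotients of isomorphic schemes are isomorphic. -/

set_option autoImplicit false
set_option backward.isDefEq.respectTransparency false
set_option backward.isDefEq.respectTransparency.types false
universe u
open CategoryTheory CategoryTheory.Limits AlgebraicGeometry

noncomputable section

namespace Groth.Agent.FlatSymLib

variable {X Y X' Y' : Scheme.{u}} {G : Type u} [Group G] [Finite G] {ρ : G →* Aut X} {p : X ⟶ Y}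
  {ρ' : G →* Aut X'} {p' : X' ⟶ Y'}

/-- An invariant open is the preimage of an open of the quotient. -/
theorem exists_open_preimage_eq (hp : SGA1.IsQuot ρ p) (O : X.Opens)
    (hO : ∀ g x, x ∈ O → (ρ g).hom x ∈ O) : ∃ F : Y.Opens, p ⁻¹ᵁ F = O := by
  haveI := QuotLib.isIntegralHom hp
  refine ⟨⟨(p.base '' (O : Set X)ᶜ)ᶜ, (p.isClosedMap _ O.2.isClosed_compl).isOpen_compl⟩, ?_⟩
  refine TopologicalSpace.Opens.ext (Set.ext fun z => ?_)
  refine ⟨fun h => by_contra fun hz => h ⟨z, hz, rfl⟩, fun hz hz' => ?_⟩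
  obtain ⟨z', hz'O, e⟩ := hz'
  obtain ⟨g, hg⟩ := QuotLib.exists_eq_of_base_eq hp e.symm
  exact hz'O (hg ▸ hO g z hz)

/-- Quotients of equivariantly isomorphic schemes are isomorphic. -/
theorem exists_iso_quot (hp : SGA1.IsQuot ρ p) (hp' : SGA1.IsQuot ρ' p') (e : X ≅ X')
    (he : ∀ g, (ρ g).hom ≫ e.hom = e.hom ≫ (ρ' g).hom) : ∃ j : Y ≅ Y', p ≫ j.hom = e.hom ≫ p' := by
  obtain ⟨a, ha, -⟩ := QuotLib.existsUnique_desc hp (e.hom ≫ p') (fun g => by
    rw [← Category.assoc, he, Category.assoc, hp'.inv])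
  obtain ⟨b, hb, -⟩ := QuotLib.existsUnique_desc hp' (e.inv ≫ p) (fun g => by
    have : (ρ' g).hom ≫ e.inv = e.inv ≫ (ρ g).hom := by
      rw [Iso.comp_inv_eq, Category.assoc, he, Iso.inv_hom_id_assoc]
    rw [← Category.assoc, this, Category.assoc, hp.inv])
  refine ⟨⟨a, b, QuotLib.eq_of_comp_eq hp ?_, QuotLib.eq_of_comp_eq hp' ?_⟩, ha⟩
  · rw [reassoc_of% ha, hb, Iso.hom_inv_id_assoc, Category.comp_id]
  · rw [reassoc_of% hb, ha, Iso.inv_hom_id_assoc, Category.comp_id]

end Groth.Agent.FlatSymLib
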