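import Groth.Agent.FlatSymLib.Compare
import Groth.Agent.FlatSymLib.QuotIso
import Groth.Agent.QuotLib.Reynolds

/-! The comparison of symmetric powers when the order of the group is invertible. -/

set_option autoImplicit false
set_option backward.isDefEq.respectTransparency false
set_option backward.isDefEq.respectTransparency.types false
set_option linter.style.haveILetI false
set_option maxHeartbeats 1000000
universe u
open CategoryTheory CategoryTheory.Limits AlgebraicGeometry TopologicalSpace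

noncomputable section

namespace Groth.Agent.FlatSymLib

variable {G : Type u} [Group G]

/-- A quotient of an isomorphic scheme. -/
theorem isQuot_source_iso {A A' B : Scheme.{u}} {ρ : G →* Aut A} {p : A ⟶ B} (hp : SGA1.IsQuot ρ p)
    (ρ' : G →* Aut A') (e : A' ≅ A) (he : ∀ a, (ρ' a).hom ≫ e.hom = e.hom ≫ (ρ a).hom) :
    SGA1.IsQuot ρ' (e.hom ≫ p) := by
  haveI := hp.affine
  have hinv : ∀ a, (ρ' a).hom ≫ e.hom ≫ p = e.hom ≫ p := fun a => by
    rw [← Category.assoc, he, Category.assoc, hp.inv]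
  have hbij : ∀ U, Function.Bijective (e.hom.app U).hom := fun U => ConcreteCategory.bijective_of_isIso _
  refine QuotLib.isQuot_of_basis hinv Set.univ (Opens.isBasis_iff_nbhd.2 fun {W} {x} hx => ⟨W, trivial, hx, le_rfl⟩)
    (fun V _ => ?_) (fun V _ s hs => ?_)
  · rw [Scheme.Hom.comp_app]
    exact (hbij _).1.comp (hp.injective V)
  · obtain ⟨t, rfl⟩ := (hbij (p ⁻¹ᵁ V)).2 s
    obtain ⟨v, rfl⟩ := (hp.range_iff V t).2 fun a => by
      refine (hbij (p ⁻¹ᵁ V)).1 (Eq.trans ?_ (hs a))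
      refine congrArg (fun φ : Γ(A, p ⁻¹ᵁ V) ⟶ Γ(A', e.hom ⁻¹ᵁ (p ⁻¹ᵁ V)) => φ.hom t)
        (a₁ := (ρ a).hom.appLE (p ⁻¹ᵁ V) (p ⁻¹ᵁ V) (SGA1.preimage_le_of_inv ρ p hp.inv a V) ≫ e.hom.app (p ⁻¹ᵁ V))
        (a₂ := e.hom.app (p ⁻¹ᵁ V) ≫ (ρ' a).hom.appLE (e.hom ⁻¹ᵁ (p ⁻¹ᵁ V)) (e.hom ⁻¹ᵁ (p ⁻¹ᵁ V))
          (SGA1.preimage_le_of_inv ρ' (e.hom ≫ p) hinv a V)) ?_
      simp only [← Scheme.Hom.appLE_eq_app, Scheme.Hom.appLE_comp_appLE]
      congr 1
      exact (he a).symm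
    exact ⟨v, by rw [Scheme.Hom.comp_app]; rfl⟩

/-- A quotient stays a quotient after a base change on which the order of the group is invertible. -/
theorem isQuot_baseChange_of_isUnit [Finite G] {P Y S S' : Scheme.{u}} {ρ : G →* Aut P} {q : P ⟶ Y}
    (hq : SGA1.IsQuot ρ q) (g : Y ⟶ S) (b : P ⟶ S) (hb : q ≫ g = b) (gS : S' ⟶ S)
    (hn : IsUnit ((Nat.card G : ℕ) : Γ(S', ⊤))) (ρ' : G →* Aut (pullback b gS))
    (h₁ : ∀ a, (ρ' a).hom ≫ pullback.fst b gS = pullback.fst b gS ≫ (ρ a).hom)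
    (h₂ : ∀ a, (ρ' a).hom ≫ pullback.snd b gS = pullback.snd b gS)
    (Q : pullback b gS ⟶ pullback g gS) (hQ₁ : Q ≫ pullback.fst g gS = pullback.fst b gS ≫ q)
    (hQ₂ : Q ≫ pullback.snd g gS = pullback.snd b gS) : SGA1.IsQuot ρ' Q := by
  have big : IsPullback (pullback.fst b gS) Q q (pullback.fst g gS) :=
    IsPullback.of_bot (by rw [hQ₂, hb]; exact IsPullback.of_hasPullback b gS) hQ₁.symm
      (IsPullback.of_hasPullback g gS)
  let T : S.Opens := S.basicOpen ((Nat.card G : ℕ) : Γ(S, ⊤))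
  have hT : gS ⁻¹ᵁ T = ⊤ := by
    rw [Scheme.preimage_basicOpen, map_natCast]
    exact Scheme.basicOpen_of_isUnit _ hn
  let U : Y.Opens := g ⁻¹ᵁ T
  have hr : Set.range (pullback.fst g gS) ⊆ Set.range U.ι := by
    rintro _ ⟨z, rfl⟩
    rw [Scheme.Opens.range_ι]
    show g (pullback.fst g gS z) ∈ T
    rw [← Scheme.Hom.comp_apply, pullback.condition, Scheme.Hom.comp_apply]
    exact hT.ge (Set.mem_univ _)
  let fY := IsOpenImmersion.lift U.ι (pullback.fst g gS) hr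
  have hfY : fY ≫ U.ι = pullback.fst g gS := IsOpenImmersion.lift_fac ..
  have hr' : Set.range (pullback.fst b gS) ⊆ Set.range (q ⁻¹ᵁ U).ι := by
    rintro _ ⟨z, rfl⟩
    rw [Scheme.Opens.range_ι]
    show q (pullback.fst b gS z) ∈ U
    rw [← Scheme.Hom.comp_apply, ← hQ₁, Scheme.Hom.comp_apply, ← SetLike.mem_coe, ← Scheme.Opens.range_ι]
    exact hr ⟨_, rfl⟩
  let fP := IsOpenImmersion.lift (q ⁻¹ᵁ U).ι (pullback.fst b gS) hr'
  have hfP : fP ≫ (q ⁻¹ᵁ U).ι = pullback.fst b gS := IsOpenImmersion.lift_fac ..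
  have sq : IsPullback fP Q (q ∣_ U) fY := by
    refine IsPullback.of_right ?_ ?_ (isPullback_morphismRestrict q U).flip
    · rw [hfP, hfY]; exact big
    · rw [← cancel_mono U.ι, Category.assoc, morphismRestrict_ι, reassoc_of% hfP, Category.assoc, hfY, hQ₁]
  have hρQ : ∀ a, (ρ' a).hom ≫ Q = Q := fun a => by
    apply pullback.hom_ext
    · rw [Category.assoc, hQ₁, reassoc_of% (h₁ a), hq.inv]
    · rw [Category.assoc, hQ₂, h₂]
  refine QuotLib.isQuot_of_isPullback (QuotLib.isQuot_restrict hq U) sq ρ' (fun a => ?_) hρQ ?_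
  · rw [← cancel_mono (q ⁻¹ᵁ U).ι, Category.assoc, hfP, Category.assoc, QuotLib.restrictAut_hom_ι,
      reassoc_of% hfP, h₁]
  · have hu : IsUnit ((Nat.card G : ℕ) : Γ(S, T)) := by
      have := RingedSpace.isUnit_res_basicOpen S.toLocallyRingedSpace.toRingedSpace ((Nat.card G : ℕ) : Γ(S, ⊤))
      simpa using this
    have := hu.map ((U.ι ≫ g).appLE T ⊤ (fun z _ => z.2)).hom
    rwa [map_natCast] at this

variable [Finite G] {P P' Y W : Scheme.{u}}

/-- Averaging: a quotient of a closed invariant subscheme embeds into the quotient. -/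
theorem isClosedImmersion_of_average {ρ : G →* Aut P} {q : P ⟶ Y} (hq : SGA1.IsQuot ρ q)
    (hn : IsUnit ((Nat.card G : ℕ) : Γ(Y, ⊤))) {ρ' : G →* Aut P'} {r : P' ⟶ W} (hr : SGA1.IsQuot ρ' r)
    (π : P' ⟶ P) [IsClosedImmersion π] (heq : ∀ a, (ρ' a).hom ≫ π = π ≫ (ρ a).hom)
    (m1 : W ⟶ Y) (hm1 : r ≫ m1 = π ≫ q) : IsClosedImmersion m1 := by
  classical
  haveI := Fintype.ofFinite G
  haveI := hq.affine
  refine IsZariskiLocalAtTarget.of_forall_exists_morphismRestrict (P := @IsClosedImmersion) fun y => ?_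
  obtain ⟨V, hV, hyV, -⟩ := exists_isAffineOpen_mem_and_subset (X := Y) (x := y) (U := ⊤) trivial
  refine ⟨V, hyV, ?_⟩
  have hrW : r ⁻¹ᵁ (m1 ⁻¹ᵁ V) = π ⁻¹ᵁ (q ⁻¹ᵁ V) := by
    rw [← Scheme.Hom.comp_preimage, hm1, Scheme.Hom.comp_preimage]
  haveI : IsAffine (r ⁻¹ᵁ (m1 ⁻¹ᵁ V)).toScheme := hrW ▸ (hV.preimage q).preimage π
  haveI : IsAffine (m1 ⁻¹ᵁ V).toScheme := QuotLib.isAffine_of_isQuot (QuotLib.isQuot_restrict hr (m1 ⁻¹ᵁ V))
  haveI : IsAffine V.toScheme := hV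
  refine IsClosedImmersion.of_surjective_of_isAffine (m1 ∣_ V) ?_
  suffices hsur : ∀ U, U = V → Function.Surjective (m1.app U).hom by
    rw [show (m1 ∣_ V).appTop = _ from morphismRestrict_appTop m1 V]
    exact (ConcreteCategory.bijective_of_isIso (W.presheaf.map (eqToHom _).op)).2.comp (hsur _ V.ι_image_top)
  rintro U rfl a
  let O := q ⁻¹ᵁ U
  let O' := π ⁻¹ᵁ O
  have hO'W : O' ≤ r ⁻¹ᵁ (m1 ⁻¹ᵁ U) := hrW.ge
  have hinj : Function.Injective (r.appLE (m1 ⁻¹ᵁ U) O' hO'W).hom := by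
    haveI : IsIso (P'.presheaf.map (homOfLE hO'W).op) := by
      rw [show homOfLE hO'W = eqToHom hrW.symm from rfl]
      infer_instance
    show Function.Injective (r.app (m1 ⁻¹ᵁ U) ≫ P'.presheaf.map (homOfLE hO'W).op).hom
    exact (ConcreteCategory.bijective_of_isIso (P'.presheaf.map (homOfLE hO'W).op)).1.comp (hr.injective _)
  obtain ⟨b, hb⟩ := Scheme.Hom.app_surjective π O (hV.preimage q) ((r.appLE (m1 ⁻¹ᵁ U) O' hO'W).hom a)
  have hO : ∀ g, O ≤ (ρ g).hom ⁻¹ᵁ O := fun g => SGA1.preimage_le_of_inv ρ q hq.inv g U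
  have hO' : ∀ g, O' ≤ (ρ' g).hom ⁻¹ᵁ O' := fun g z hz => by
    show ((ρ' g).hom ≫ π) z ∈ O
    rw [heq]
    exact hO g hz
  obtain ⟨c, hc⟩ := (QuotLib.isUnit_natCast_app hn U).exists_left_inv
  let av : Γ(P, O) := (q.app U).hom c * ∑ g, actOn ρ O hO g b
  obtain ⟨v, hv⟩ := (hq.range_iff U av).2 fun g => by
    have h : actOn ρ O hO g⁻¹ av = av := by
      simp only [av, map_mul, map_sum]
      congr 1
      · show ((ρ (g⁻¹)⁻¹).hom.appLE O O _).hom _ = _
        exact (hq.range_iff U _).1 ⟨c, rfl⟩ _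
      · refine Fintype.sum_equiv (Equiv.mulLeft g⁻¹) _ _ fun k => ?_
        show (actOn ρ O hO g⁻¹ * actOn ρ O hO k) b = actOn ρ O hO (g⁻¹ * k) b
        rw [map_mul]
    simp only [actOn_apply, inv_inv] at h
    exact h
  refine ⟨v, hinj ?_⟩
  have h1 : (r.appLE (m1 ⁻¹ᵁ U) O' hO'W).hom ((m1.app U).hom v) = (π.app O).hom av := by
    rw [← hv]
    refine congrArg (fun φ : Γ(Y, U) ⟶ Γ(P', O') => φ.hom v)
      (a₁ := m1.app U ≫ r.appLE (m1 ⁻¹ᵁ U) O' hO'W) (a₂ := q.app U ≫ π.app O) ?_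
    simp only [O, O', ← Scheme.Hom.appLE_eq_app, Scheme.Hom.appLE_comp_appLE, hm1]
  rw [h1]
  have hfix : ∀ g, (π.app O).hom (actOn ρ O hO g b) = (π.app O).hom b := by
    intro g
    have h2 := actOn_natural ρ heq (O := O) (hO := hO) (O' := O') (hO' := hO') le_rfl g b
    rw [Scheme.Hom.appLE_eq_app] at h2
    rw [← h2, hb, actOn_apply]
    refine congrArg (fun φ : Γ(W, m1 ⁻¹ᵁ U) ⟶ Γ(P', O') => φ.hom a)
      (a₁ := r.appLE (m1 ⁻¹ᵁ U) O' hO'W ≫ (ρ' g⁻¹).hom.appLE O' O' (hO' _)) ?_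
    rw [Scheme.Hom.appLE_comp_appLE]
    congr 1
    exact hr.inv _
  rw [← hb, map_mul, map_sum, Finset.sum_congr rfl fun g _ => hfix g, Finset.sum_const, Finset.card_univ,
    nsmul_eq_mul, ← Nat.card_eq_fintype_card, ← mul_assoc]
  have : (π.app O).hom ((q.app U).hom c) * ((Nat.card G : ℕ) : Γ(P', O')) = 1 := by
    rw [← map_natCast (π.app O).hom, ← map_mul, ← map_natCast (q.app U).hom, ← map_mul, hc, map_one, map_one]
  rw [this, one_mul]

/-- A closed immersion identifies its source with the closed subscheme cut out by its kernel. -/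
theorem isIso_of_ker_eq {A B : Scheme.{u}} (k : A ⟶ B) [IsClosedImmersion k] (I : B.IdealSheafData)
    (hI : I = k.ker) (m : A ⟶ I.subscheme) (hm : m ≫ I.subschemeι = k) : IsIso m := by
  subst hI
  have : m = k.toImage := by
    rw [← cancel_mono k.ker.subschemeι, hm]
    exact (k.toImage_imageι).symm
  rw [this]
  infer_instance

/-- A quotient map does not change kernels. -/
theorem ker_comp_quot {A B C : Scheme.{u}} {ρ : G →* Aut A} {r : A ⟶ B} (hr : SGA1.IsQuot ρ r) (k : B ⟶ C)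
    [QuasiCompact k] [QuasiCompact (r ≫ k)] : (r ≫ k).ker = k.ker := by
  refine Scheme.IdealSheafData.ext (funext fun U => ?_)
  rw [Scheme.Hom.ker_apply, Scheme.Hom.ker_apply]
  ext x
  simp only [RingHom.mem_ker, Scheme.Hom.comp_app]
  show (r.app _).hom ((k.app _).hom x) = 0 ↔ _
  exact map_eq_zero_iff _ (hr.injective _)

end Groth.Agent.FlatSymLib
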