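import Mathlib.RingTheory.Ideal.Quotient.Operations
import Mathlib.LinearAlgebra.Lagrange
import Mathlib.LinearAlgebra.Dual.Lemmas
import Mathlib.FieldTheory.IsAlgClosed.Basic

/-!
# Coordinates on a curve algebra near finitely many rational points

`C` is an algebra over an algebraically closed field whose rational points have one-dimensional
tangent spaces.
-/

noncomputable section

namespace Groth.Agent.FlatSymLib

variable {K : Type*} [Field K] {C : Type*} [CommRing C] [Algebra K C]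

/-- A point derivation at `φ`. -/
def IsDer (φ : C →ₐ[K] K) (d : C →ₗ[K] K) : Prop :=
  ∀ x y, d (x * y) = φ x * d y + φ y * d x

variable (K C) in
/-- Every rational point has a one-dimensional tangent space. -/
def IsCurve : Prop :=
  ∀ φ : C →ₐ[K] K, ∃ d : C →ₗ[K] K, IsDer φ d ∧ d ≠ 0 ∧ ∀ d', IsDer φ d' → ∃ a : K, d' = a • d

/-- The ideal of a rational point. -/
abbrev ptIdeal (φ : C →ₐ[K] K) : Ideal C := RingHom.ker φ

theorem sub_mem_ptIdeal (φ : C →ₐ[K] K) (x : C) : x - algebraMap K C (φ x) ∈ ptIdeal φ := by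
  simp [RingHom.mem_ker]

theorem ptIdeal_isMaximal (φ : C →ₐ[K] K) : (ptIdeal φ).IsMaximal :=
  RingHom.ker_isMaximal_of_surjective φ fun a => ⟨algebraMap K C a, φ.commutes a⟩

theorem ptIdeal_injective : Function.Injective (ptIdeal (K := K) (C := C)) := fun φ ψ h => by
  refine AlgHom.ext fun x => ?_
  have hm : x - algebraMap K C (φ x) ∈ ptIdeal ψ := h ▸ sub_mem_ptIdeal φ x
  rw [RingHom.mem_ker, map_sub, AlgHom.commutes, sub_eq_zero] at hm
  exact hm.symm

theorem IsDer.map_algebraMap {φ : C →ₐ[K] K} {d : C →ₗ[K] K} (hd : IsDer φ d) (a : K) :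
    d (algebraMap K C a) = 0 := by
  have h1 : d 1 = 0 := by
    have := hd 1 1
    simp only [mul_one, map_one, one_mul] at this
    linear_combination -this
  rw [Algebra.algebraMap_eq_smul_one, map_smul, h1, smul_zero]

theorem IsDer.map_sq {φ : C →ₐ[K] K} {d : C →ₗ[K] K} (hd : IsDer φ d) {x : C}
    (hx : x ∈ ptIdeal φ ^ 2) : d x = 0 := by
  rw [pow_two] at hx
  refine Submodule.mul_induction_on hx (fun a ha b hb => ?_) fun a b ha hb => by rw [map_add, ha, hb, add_zero]
  rw [hd, RingHom.mem_ker.1 ha, RingHom.mem_ker.1 hb, zero_mul, zero_mul, add_zero]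

theorem mem_sq_of_der_eq_zero {φ : C →ₐ[K] K} {d : C →ₗ[K] K}
    (huniq : ∀ d', IsDer φ d' → ∃ a : K, d' = a • d) {x : C} (hx : x ∈ ptIdeal φ) (hdx : d x = 0) :
    x ∈ ptIdeal φ ^ 2 := by
  by_contra hx2
  let W : Submodule K C := (ptIdeal φ ^ 2).restrictScalars K ⊔ Submodule.span K {1}
  have hxW : x ∉ W := by
    intro h
    obtain ⟨q, hq, r, hr, rfl⟩ := Submodule.mem_sup.1 h
    obtain ⟨a, rfl⟩ := Submodule.mem_span_singleton.1 hr
    have hq' : φ q = 0 := RingHom.mem_ker.1 (Ideal.pow_le_self two_ne_zero hq)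
    have ha : a = 0 := by simpa [hq'] using RingHom.mem_ker.1 hx
    exact hx2 (by simpa [ha] using hq)
  obtain ⟨g, hgx, hgW⟩ := Submodule.exists_le_ker_of_notMem hxW
  have hg1 : g 1 = 0 := hgW (Submodule.mem_sup_right (Submodule.mem_span_singleton_self 1))
  have hg : IsDer φ g := by
    intro a b
    have hm : (a - algebraMap K C (φ a)) * (b - algebraMap K C (φ b)) ∈ ptIdeal φ ^ 2 := by
      rw [pow_two]; exact Ideal.mul_mem_mul (sub_mem_ptIdeal φ a) (sub_mem_ptIdeal φ b)
    have h0 : g ((a - algebraMap K C (φ a)) * (b - algebraMap K C (φ b))) = 0 :=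
      hgW (Submodule.mem_sup_left (show _ ∈ (ptIdeal φ ^ 2).restrictScalars K from hm))
    have he : (a - algebraMap K C (φ a)) * (b - algebraMap K C (φ b)) =
        a * b - φ a • b - φ b • a + (φ a * φ b) • (1 : C) := by
      simp only [Algebra.smul_def, map_mul, mul_one]; ring
    rw [he, map_add, map_sub, map_sub, map_smul, map_smul, map_smul, hg1, smul_zero, add_zero] at h0
    simp only [smul_eq_mul] at h0
    linear_combination h0
  obtain ⟨a, rfl⟩ := huniq g hg
  exact hgx (by simp [hdx])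

theorem isCoprime_ptIdeal_pow {φ ψ : C →ₐ[K] K} (h : φ ≠ ψ) (a b : ℕ) :
    IsCoprime (ptIdeal φ ^ a) (ptIdeal ψ ^ b) := by
  haveI := ptIdeal_isMaximal φ
  haveI := ptIdeal_isMaximal ψ
  exact (Ideal.isCoprime_iff_sup_eq.2
    (Ideal.IsMaximal.coprime_of_ne inferInstance inferInstance fun e => h (ptIdeal_injective e))).pow

/-- The ideal of a finite set of points. -/
def setIdeal (P : Finset (C →ₐ[K] K)) : Ideal C := ∏ φ ∈ P, ptIdeal φ

theorem setIdeal_le {P : Finset (C →ₐ[K] K)} {φ : C →ₐ[K] K} (hφ : φ ∈ P) :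
    setIdeal P ≤ ptIdeal φ :=
  Ideal.prod_le_inf.trans (Finset.inf_le hφ)

theorem mem_setIdeal_pow {P : Finset (C →ₐ[K] K)} {N : ℕ} {x : C}
    (hx : ∀ φ ∈ P, x ∈ ptIdeal φ ^ N) : x ∈ setIdeal P ^ N := by
  classical
  rw [setIdeal, ← Finset.prod_pow]
  induction P using Finset.induction_on with
  | empty => simp
  | insert φ P hφP ih =>
    rw [Finset.prod_insert hφP, ← Ideal.inf_eq_mul_of_isCoprime]
    · exact ⟨hx φ (Finset.mem_insert_self φ P), ih fun ψ hψ => hx ψ (Finset.mem_insert_of_mem hψ)⟩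
    · exact IsCoprime.prod_right fun ψ hψ =>
        isCoprime_ptIdeal_pow (fun e : φ = ψ => hφP (e ▸ hψ)) N N

/-- An element which is a coordinate at each of finitely many points and separates them. -/
theorem exists_coord [Infinite K] (h : IsCurve K C) (P : Finset (C →ₐ[K] K)) :
    ∃ t : C, Set.InjOn (fun φ : C →ₐ[K] K => φ t) P ∧
      ∀ φ ∈ P, ∀ x ∈ ptIdeal φ, ∃ a : K, x - a • (t - algebraMap K C (φ t)) ∈ ptIdeal φ ^ 2 := by
  classical
  choose d hd hd0 huniq using h
  have hu : ∀ φ, ∃ x : C, d φ x = 1 ∧ φ x = 0 := by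
    intro φ
    obtain ⟨y, hy⟩ : ∃ y, d φ y ≠ 0 := by
      by_contra hne
      push Not at hne
      exact hd0 φ (LinearMap.ext hne)
    refine ⟨(d φ y)⁻¹ • (y - algebraMap K C (φ y)), ?_, by simp⟩
    rw [map_smul, map_sub, (hd φ).map_algebraMap, sub_zero, smul_eq_mul, inv_mul_cancel₀ hy]
  choose v hv1 hv0 using hu
  let val : P ↪ K := (Function.Embedding.trans (Fintype.equivFin P).toEmbedding
    ⟨fun i => Infinite.natEmbedding K i.1, fun i j hij => Fin.ext ((Infinite.natEmbedding K).injective hij)⟩)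
  obtain ⟨t, ht⟩ := Ideal.exists_forall_sub_mem_ideal (I := fun φ : P => ptIdeal φ.1 ^ 2)
    (fun φ ψ hne => isCoprime_ptIdeal_pow (fun e => hne (Subtype.ext e)) 2 2)
    (fun φ => algebraMap K C (val φ) + v φ.1)
  have hval : ∀ φ : P, φ.1 t = val φ ∧ d φ.1 t = 1 := by
    intro φ
    have h1 := RingHom.mem_ker.1 (Ideal.pow_le_self two_ne_zero (ht φ))
    have h2 := (hd φ.1).map_sq (ht φ)
    rw [map_sub, map_add, AlgHom.commutes, hv0, add_zero, sub_eq_zero] at h1
    rw [map_sub, map_add, (hd φ.1).map_algebraMap, hv1, zero_add, sub_eq_zero] at h2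
    exact ⟨h1, h2⟩
  refine ⟨t, fun φ hφ ψ hψ e => ?_, fun φ hφ x hx => ⟨d φ x, ?_⟩⟩
  · have := val.injective (((hval ⟨φ, hφ⟩).1.symm.trans e).trans (hval ⟨ψ, hψ⟩).1)
    exact congrArg Subtype.val this
  · refine mem_sq_of_der_eq_zero (huniq φ) ?_ ?_
    · rw [RingHom.mem_ker, map_sub, RingHom.mem_ker.1 hx, map_smul, map_sub, AlgHom.commutes]
      simp
    · rw [map_sub, map_smul, map_sub, (hd φ).map_algebraMap, (hval ⟨φ, hφ⟩).2, sub_zero,
        smul_eq_mul, mul_one, sub_self]

/-- Polynomials in a coordinate are dense near finitely many points. -/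
theorem exists_poly_approx (P : Finset (C →ₐ[K] K)) (t : C)
    (hinj : Set.InjOn (fun φ : C →ₐ[K] K => φ t) P)
    (hco : ∀ φ ∈ P, ∀ x ∈ ptIdeal φ, ∃ a : K, x - a • (t - algebraMap K C (φ t)) ∈ ptIdeal φ ^ 2)
    (c : C) : ∀ N : ℕ, ∃ q : Polynomial K, ∀ φ ∈ P, c - Polynomial.aeval t q ∈ ptIdeal φ ^ N := by
  classical
  intro N
  induction N with
  | zero => exact ⟨0, fun φ _ => by simp⟩
  | succ N ih =>
    obtain ⟨q, hq⟩ := ih
    have key : ∀ φ ∈ P, ∀ x ∈ ptIdeal φ ^ N,
        ∃ a : K, x - a • (t - algebraMap K C (φ t)) ^ N ∈ ptIdeal φ ^ (N + 1) := by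
      intro φ hφ x hx
      clear hq
      induction N generalizing x with
      | zero =>
        refine ⟨φ x, ?_⟩
        simpa [Algebra.smul_def] using sub_mem_ptIdeal φ x
      | succ N ihN =>
        rw [pow_succ] at hx
        refine Submodule.mul_induction_on hx (fun y hy z hz => ?_) fun y z hy hz => ?_
        · obtain ⟨a, ha⟩ := ihN y hy
          obtain ⟨b, hb⟩ := hco φ hφ z hz
          refine ⟨a * b, ?_⟩
          set w := t - algebraMap K C (φ t) with hw
          have hwm : w ∈ ptIdeal φ := by rw [hw]; exact sub_mem_ptIdeal φ t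
          have he : y * z - (a * b) • w ^ (N + 1) =
              (y - a • w ^ N) * z + (z - b • w) * (a • w ^ N) := by
            simp only [Algebra.smul_def, map_mul, pow_succ]; ring
          rw [he]
          refine add_mem ?_ ?_
          · rw [pow_succ]; exact Ideal.mul_mem_mul ha hz
          · rw [show N + 1 + 1 = 2 + N by omega, pow_add]
            exact Ideal.mul_mem_mul hb (by rw [Algebra.smul_def]; exact Ideal.mul_mem_left _ _ (Ideal.pow_mem_pow hwm N))
        · obtain ⟨a, ha⟩ := hy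
          obtain ⟨b, hb⟩ := hz
          refine ⟨a + b, ?_⟩
          rw [add_smul, add_sub_add_comm]
          exact add_mem ha hb
    choose a ha using fun φ : P => key φ.1 φ.2 _ (hq φ.1 φ.2)
    let π : P → Polynomial K := fun φ =>
      (Polynomial.X - Polynomial.C (φ.1 t))
    let Q : Polynomial K := ∏ φ : P, π φ
    let wv : P → K := fun φ => ∏ ψ ∈ Finset.univ.erase φ, (φ.1 t - ψ.1 t) ^ N
    have hwv : ∀ φ, wv φ ≠ 0 := by
      intro φ
      refine Finset.prod_ne_zero_iff.2 fun ψ hψ => pow_ne_zero _ (sub_ne_zero.2 fun e => ?_)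
      exact (Finset.mem_erase.1 hψ).1 (Subtype.ext (hinj ψ.2 φ.2 e.symm))
    let r : Polynomial K := Lagrange.interpolate Finset.univ (fun φ : P => φ.1 t) fun φ => a φ / wv φ
    have hr : ∀ φ : P, r.eval (φ.1 t) = a φ / wv φ := fun φ =>
      Lagrange.eval_interpolate_at_node _
        (fun ψ _ ψ' _ e => Subtype.ext (hinj ψ.2 ψ'.2 e)) (Finset.mem_univ φ)
    refine ⟨q + r * Q ^ N, fun φ hφ => ?_⟩
    let φ' : P := ⟨φ, hφ⟩
    let g : Polynomial K := r * (∏ ψ ∈ Finset.univ.erase φ', π ψ) ^ N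
    have hsplit : r * Q ^ N = π φ' ^ N * g := by
      simp only [g, Q]
      rw [← Finset.mul_prod_erase _ _ (Finset.mem_univ φ'), mul_pow]
      ring
    have hg : φ (Polynomial.aeval t g) = a φ' := by
      rw [← Polynomial.aeval_algHom_apply, Polynomial.coe_aeval_eq_eval]
      simp only [g, π, Polynomial.eval_mul, Polynomial.eval_pow, Polynomial.eval_prod,
        Polynomial.eval_sub, Polynomial.eval_X, Polynomial.eval_C, ← Finset.prod_pow]
      rw [hr φ']
      exact div_mul_cancel₀ _ (hwv φ')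
    have hπ : Polynomial.aeval t (π φ') = t - algebraMap K C (φ t) := by simp [π, φ']
    have he : c - Polynomial.aeval t (q + r * Q ^ N) =
        (c - Polynomial.aeval t q - a φ' • (t - algebraMap K C (φ t)) ^ N) -
          (t - algebraMap K C (φ t)) ^ N * (Polynomial.aeval t g - algebraMap K C (a φ')) := by
      rw [map_add, hsplit, map_mul, map_pow, hπ, Algebra.smul_def]
      ring
    rw [he]
    refine sub_mem (ha φ') ?_
    rw [pow_succ]
    refine Ideal.mul_mem_mul (Ideal.pow_mem_pow (sub_mem_ptIdeal φ t) N) ?_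
    rw [RingHom.mem_ker, map_sub, hg, AlgHom.commutes]
    simp

end Groth.Agent.FlatSymLib
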