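import Groth.Agent.FlatSymLib.Basic
import Mathlib.RingTheory.PiTensorProduct
import Mathlib.Algebra.Algebra.Subalgebra.Lattice

/-!
# Generators of the symmetric tensors of a flat algebra

The sum of all pure tensors with prescribed numbers of factors of prescribed values (and `1`
elsewhere) is a polynomial in the elementary symmetric tensors `σ_j(a)`; these sums span the
symmetric tensors when the algebra is flat.
-/

namespace Groth.Agent.FlatSymLib

open TensorProduct

variable {R : Type*} [CommRing R] {A : Type*} [CommRing A] [Algebra R A] {n : ℕ}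

/-- The number of times a value is taken. -/
def cnt {α : Type*} [DecidableEq α] (c : Fin n → α) (i : α) : ℕ :=
  (Finset.univ.filter fun x => c x = i).card

theorem cnt_comp {α : Type*} [DecidableEq α] (c : Fin n → α) (σ : Equiv.Perm (Fin n)) (i : α) :
    cnt (c ∘ σ) i = cnt c i :=
  Finset.card_equiv σ (by simp)

theorem exists_perm_of_cnt_eq {α : Type*} [DecidableEq α] (c d : Fin n → α)
    (h : ∀ i, cnt c i = cnt d i) : ∃ σ : Equiv.Perm (Fin n), c ∘ σ = d := by
  have e : ∀ i, {x // d x = i} ≃ {x // c x = i} := fun i =>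
    Fintype.equivOfCardEq (by simpa [Fintype.card_subtype, cnt] using (h i).symm)
  exact ⟨Equiv.ofFiberEquiv e, funext fun x => Equiv.ofFiberEquiv_map e x⟩

theorem card_eq_sum_cnt {ι : Type*} [Fintype ι] [DecidableEq ι] (c : Fin n → Option ι)
    (I : Finset (Fin n)) :
    (I.filter fun x => c x ≠ none).card = ∑ i, (I.filter fun x => c x = some i).card := by
  rw [← Finset.card_biUnion]
  · congr 1
    ext x
    cases hcx : c x <;> simp [hcx]
  · intro i _ j _ hij
    rw [Function.onFun, Finset.disjoint_filter]
    intro x _ hi hj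
    exact hij (Option.some.inj (hi.symm.trans hj))

variable (R) in
/-- The value of a colouring: the pure tensor with `a i` at the places of colour `i`, `1` elsewhere. -/
noncomputable def term {ι : Type*} (a : ι → A) (c : Fin n → Option ι) : ⨂[R] _ : Fin n, A :=
  PiTensorProduct.tprod R fun x => (c x).elim 1 a

variable (R n) in
/-- The sum of the pure tensors with `ν i` factors equal to `a i`, and `1` elsewhere. -/
noncomputable def esum {ι : Type*} [Fintype ι] [DecidableEq ι] (ν : ι → ℕ) (a : ι → A) :
    ⨂[R] _ : Fin n, A :=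
  ∑ c ∈ Finset.univ.filter (fun c : Fin n → Option ι => ∀ i, cnt c (some i) = ν i), term R a c

variable (R n A) in
/-- The elementary symmetric tensors. -/
def elemSet : Set (⨂[R] _ : Fin n, A) :=
  {t | ∃ (a : A) (j : ℕ), t = ∑ I ∈ (Finset.univ : Finset (Fin n)).powersetCard j,
    PiTensorProduct.tprod R (fun i : Fin n => if i ∈ I then a else (1 : A))}

/-- Sums of pure tensors of prescribed type are polynomials in elementary symmetric tensors. -/
theorem esum_mem (N : ℕ) : ∀ {ι : Type} [Fintype ι] [DecidableEq ι] (ν : ι → ℕ) (a : ι → A),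
    ∑ i, ν i = N → esum R n ν a ∈ Algebra.adjoin R (elemSet R A n) := by
  classical
  induction N using Nat.strong_induction_on with
  | _ N ih => ?_
  intro ι _ _ ν a hN
  by_cases h0 : ∃ i₀, ν i₀ ≠ 0
  swap
  · push Not at h0
    have h : esum R n ν a = 1 := by
      rw [esum, Finset.sum_eq_single (fun _ => none)]
      · simp [term, PiTensorProduct.one_def, Pi.one_def]
      · intro c hc hne
        refine absurd (funext fun x => ?_) hne
        cases hcx : c x with
        | none => rfl
        | some i =>
          have h1 := (Finset.mem_filter.1 hc).2 i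
          rw [h0 i, cnt, Finset.card_eq_zero, Finset.filter_eq_empty_iff] at h1
          exact absurd hcx (h1 (Finset.mem_univ x))
      · intro h
        simp [cnt, h0] at h
    rw [h]
    exact one_mem _
  obtain ⟨i₀, hi₀⟩ := h0
  let ν' : ι → ℕ := Function.update ν i₀ 0
  have hN' : ∑ i, ν' i < N := by
    rw [← hN]
    refine Finset.sum_lt_sum (fun i _ => ?_) ⟨i₀, Finset.mem_univ _, ?_⟩
    · by_cases h : i = i₀ <;> simp [ν', h]
    · simpa [ν'] using Nat.pos_of_ne_zero hi₀
  let T : Finset ((Fin n → Option ι) × Finset (Fin n)) :=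
    (Finset.univ.filter fun c : Fin n → Option ι => ∀ i, cnt c (some i) = ν' i) ×ˢ
      (Finset.univ : Finset (Fin n)).powersetCard (ν i₀)
  have hT : ∀ {p}, p ∈ T ↔ (∀ i, cnt p.1 (some i) = ν' i) ∧ p.2.card = ν i₀ := by
    intro p
    simp [T]
  let g : (Fin n → Option ι) × Finset (Fin n) → Fin n → Option (ι ⊕ ι) := fun p x =>
    if x ∈ p.2 then some ((p.1 x).elim (Sum.inl i₀) Sum.inr) else (p.1 x).map Sum.inl
  let a' : ι ⊕ ι → A := Sum.elim a fun i => a i * a i₀
  have hprod : esum R n ν' a * (∑ I ∈ (Finset.univ : Finset (Fin n)).powersetCard (ν i₀),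
      PiTensorProduct.tprod R (fun x : Fin n => if x ∈ I then a i₀ else (1 : A))) =
        ∑ p ∈ T, term R a' (g p) := by
    rw [esum, Finset.sum_mul_sum, ← Finset.sum_product']
    refine Finset.sum_congr rfl fun p _ => ?_
    rw [term, term, PiTensorProduct.tprod_mul_tprod]
    congr 1
    funext x
    rw [Pi.mul_apply]
    by_cases hx : x ∈ p.2 <;> cases hp : p.1 x <;> simp [g, a', hx, hp]
  have hne : ∀ {p}, p ∈ T → ∀ x, p.1 x ≠ some i₀ := by
    intro p hp x hx
    have h := (hT.1 hp).1 i₀
    simp only [ν', Function.update_self, cnt, Finset.card_eq_zero, Finset.filter_eq_empty_iff] at h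
    exact h (Finset.mem_univ x) hx
  have hginj : Set.InjOn g T := by
    intro p hp q hq h
    have hx : ∀ x, (x ∈ p.2 ↔ x ∈ q.2) ∧ p.1 x = q.1 x := by
      intro x
      have h' := congrFun h x
      have hp' := hne hp x
      have hq' := hne hq x
      by_cases h1 : x ∈ p.2 <;> by_cases h2 : x ∈ q.2 <;>
        cases h3 : p.1 x <;> cases h4 : q.1 x <;> simp_all [g]
    exact Prod.ext (funext fun x => (hx x).2) (Finset.ext fun x => (hx x).1)
  -- the disjoint part
  let T₀ := T.filter fun p => ∀ x ∈ p.2, p.1 x = none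
  have hT₀ : ∑ p ∈ T₀, term R a' (g p) = esum R n ν a := by
    refine Finset.sum_nbij' (fun p x => if x ∈ p.2 then some i₀ else p.1 x)
      (fun c => (fun x => if c x = some i₀ then none else c x,
        Finset.univ.filter fun x => c x = some i₀)) ?_ ?_ ?_ ?_ ?_
    · intro p hp
      obtain ⟨hpT, hp0⟩ := Finset.mem_filter.1 hp
      simp only [Finset.mem_filter, Finset.mem_univ, true_and]
      intro i
      by_cases hi : i = i₀
      · rw [hi, ← (hT.1 hpT).2, cnt]
        congr 1
        ext x
        have := hne hpT x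
        by_cases hx : x ∈ p.2 <;> simp [hx, this]
      · have h := (hT.1 hpT).1 i
        simp only [ν', Function.update_of_ne hi] at h
        rw [← h, cnt, cnt]
        congr 1
        ext x
        by_cases hx : x ∈ p.2 <;> simp [hx, hp0 x, Ne.symm hi]
    · intro c hc
      have hc' := (Finset.mem_filter.1 hc).2
      simp only [T₀, Finset.mem_filter]
      refine ⟨hT.2 ⟨fun i => ?_, hc' i₀⟩, fun x hx => by simp_all⟩
      by_cases hi : i = i₀
      · rw [hi, cnt]
        simp only [ν', Function.update_self, Finset.card_eq_zero, Finset.filter_eq_empty_iff]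
        intro x _
        split_ifs with h <;> simp [h]
      · simp only [ν', Function.update_of_ne hi]
        rw [← hc' i, cnt, cnt]
        congr 1
        ext x
        by_cases hx : c x = some i₀ <;> simp [hx, Ne.symm hi]
    · intro p hp
      obtain ⟨hpT, hp0⟩ := Finset.mem_filter.1 hp
      refine Prod.ext (funext fun x => ?_) (Finset.ext fun x => ?_)
      · have := hne hpT x
        by_cases hx : x ∈ p.2 <;> simp [hx, hp0 x, this]
      · have := hne hpT x
        by_cases hx : x ∈ p.2 <;> simp [hx, this]
    · intro c _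
      funext x
      by_cases hx : c x = some i₀ <;> simp [hx]
    · intro p hp
      obtain ⟨hpT, hp0⟩ := Finset.mem_filter.1 hp
      simp only [term]
      congr 1
      funext x
      by_cases hx : x ∈ p.2
      · simp [g, a', hx, hp0 x hx]
      · cases h : p.1 x <;> simp [g, a', hx, h]
  -- the overlapping part
  let T₁ := T.filter fun p => ¬ ∀ x ∈ p.2, p.1 x = none
  have hT₁ : ∑ p ∈ T₁, term R a' (g p) ∈ Algebra.adjoin R (elemSet R A n) := by
    rw [← Finset.sum_image (s := T₁) (g := g) (f := fun c => term R a' c)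
      (hginj.mono (Finset.coe_subset.2 (Finset.filter_subset _ _)))]
    let κ : (Fin n → Option (ι ⊕ ι)) → (ι ⊕ ι → ℕ) := fun c i => cnt c (some i)
    rw [← Finset.sum_fiberwise_of_maps_to
      (fun c hc => Finset.mem_image_of_mem κ hc) (fun c => term R a' c)]
    refine sum_mem fun μ hμ => ?_
    obtain ⟨c₀, hc₀, rfl⟩ := Finset.mem_image.1 hμ
    obtain ⟨p, hp, rfl⟩ := Finset.mem_image.1 hc₀
    obtain ⟨hpT, hp1⟩ := Finset.mem_filter.1 hp
    have hfib : (T₁.image g).filter (fun c => κ c = κ (g p)) =
        Finset.univ.filter (fun c : Fin n → Option (ι ⊕ ι) => ∀ i, cnt c (some i) = κ (g p) i) := by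
      ext c
      simp only [Finset.mem_filter, Finset.mem_univ, true_and]
      refine ⟨fun h i => congrFun h.2 i, fun h => ⟨?_, funext h⟩⟩
      obtain ⟨σ, rfl⟩ := exists_perm_of_cnt_eq (g p) c (fun i => by
        cases i with
        | some i => exact (h i).symm
        | none =>
          have h1 := card_eq_sum_cnt (g p) Finset.univ
          have h2 := card_eq_sum_cnt c Finset.univ
          have h3 := Finset.card_filter_add_card_filter_not (s := Finset.univ) (fun x => g p x = none)
          have h4 := Finset.card_filter_add_card_filter_not (s := Finset.univ) (fun x => c x = none)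
          have h5 : ∑ i, cnt c (some i) = ∑ i, cnt (g p) (some i) :=
            Finset.sum_congr rfl fun i _ => h i
          simp only [cnt] at h5 ⊢
          simp only [ne_eq] at h1 h2
          omega)
      refine Finset.mem_image.2 ⟨(p.1 ∘ σ, Finset.univ.filter fun x => σ x ∈ p.2),
        Finset.mem_filter.2 ⟨hT.2 ⟨fun i => ?_, ?_⟩, fun hall => hp1 fun x hx => ?_⟩, ?_⟩
      · rw [cnt_comp]; exact (hT.1 hpT).1 i
      · rw [← (hT.1 hpT).2]; exact Finset.card_equiv σ (by simp)
      · simpa using hall (σ.symm x) (by simpa using hx)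
      · funext x
        simp [g]
    rw [hfib]
    refine ih (∑ i, κ (g p) i) ?_ (κ (g p)) a' rfl
    -- fewer coloured places
    rw [← hN]
    have h1 : ∑ i, κ (g p) i = (Finset.univ.filter fun x => g p x ≠ none).card :=
      (card_eq_sum_cnt (g p) Finset.univ).symm
    have h2 : Finset.univ.filter (fun x => g p x ≠ none) =
        Finset.univ.filter (fun x => p.1 x ≠ none) ∪ p.2 := by
      ext x
      by_cases hx : x ∈ p.2 <;> simp [g, hx]
    have h3 : (Finset.univ.filter fun x => p.1 x ≠ none).card = ∑ i, ν' i := by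
      rw [card_eq_sum_cnt]
      exact Finset.sum_congr rfl fun i _ => (hT.1 hpT).1 i
    have h4 : 0 < (Finset.univ.filter (fun x => p.1 x ≠ none) ∩ p.2).card := by
      push Not at hp1
      obtain ⟨x, hx, hx'⟩ := hp1
      exact Finset.card_pos.2 ⟨x, by simp [hx, hx']⟩
    have h5 := Finset.card_union_add_card_inter (Finset.univ.filter fun x => p.1 x ≠ none) p.2
    have h6 : ∑ i, ν i = ∑ i, ν' i + ν i₀ := by
      rw [← Finset.add_sum_erase _ _ (Finset.mem_univ i₀), ← Finset.add_sum_erase _ ν' (Finset.mem_univ i₀),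
        Finset.sum_congr rfl (g := ν') fun i hi => (Function.update_of_ne (Finset.ne_of_mem_erase hi) _ _).symm]
      simp only [ν', Function.update_self]
      omega
    have h7 := (hT.1 hpT).2
    rw [h1, h2]
    omega
  have hsplit := Finset.sum_filter_add_sum_filter_not T (fun p => ∀ x ∈ p.2, p.1 x = none)
    (fun p => term R a' (g p))
  have hmem : ∑ p ∈ T, term R a' (g p) ∈ Algebra.adjoin R (elemSet R A n) := by
    rw [← hprod]
    exact mul_mem (ih _ hN' ν' a rfl) (Algebra.subset_adjoin ⟨a i₀, ν i₀, rfl⟩)
  have : esum R n ν a = ∑ p ∈ T, term R a' (g p) - ∑ p ∈ T₁, term R a' (g p) := by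
    rw [eq_sub_iff_add_eq, ← hT₀]
    exact hsplit
  rw [this]
  exact sub_mem hmem hT₁

/-- Elementary symmetric tensors are symmetric. -/
theorem elemSet_subset_inv {t : ⨂[R] _ : Fin n, A} (ht : t ∈ elemSet R A n) : t ∈ inv R A n := by
  obtain ⟨a, j, rfl⟩ := ht
  refine mem_inv.2 fun σ => ?_
  simp only [map_sum, PiTensorProduct.reindex_tprod]
  refine Finset.sum_equiv σ.finsetCongr (fun I => ?_) (fun I _ => ?_)
  · simp [Finset.mem_powersetCard]
  · congr 1
    funext i
    simp

/-- Symmetric tensors of a flat algebra are polynomials in elementary symmetric tensors. -/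
theorem inv_le_adjoin [Module.Flat R A] {t : ⨂[R] _ : Fin n, A} (ht : t ∈ inv R A n) :
    t ∈ Algebra.adjoin R (elemSet R A n) := by
  classical
  obtain ⟨m, u, y, hy, huy, -⟩ := exists_inv_lift (fun _ : Fin 1 => t) (fun _ => ht) 0 (by simp)
  let B := Basis.piTensorProduct fun _ : Fin n => Pi.basisFun R (Fin m)
  have hB : ∀ (σ : Equiv.Perm (Fin n)) f,
      PiTensorProduct.reindex R (fun _ : Fin n => Fin m → R) σ (B f) = B (f ∘ σ.symm) := by
    intro σ f
    simp only [B, Basis.piTensorProduct_apply, PiTensorProduct.reindex_tprod, Function.comp_apply]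
  have hcoef : ∀ (σ : Equiv.Perm (Fin n)) f, B.repr (y 0) (f ∘ σ) = B.repr (y 0) f := by
    intro σ f
    have h : ((Finsupp.lapply (f ∘ σ.symm.symm)) ∘ₗ B.repr.toLinearMap) =
        (Finsupp.lapply f ∘ₗ B.repr.toLinearMap) ∘ₗ
          (PiTensorProduct.reindex R (fun _ : Fin n => Fin m → R) σ).toLinearMap := by
      refine B.ext fun g => ?_
      simp only [LinearMap.comp_apply, LinearEquiv.coe_coe, hB, B.repr_self, Finsupp.lapply_apply,
        Finsupp.single_apply]
      refine if_congr ⟨fun hg => ?_, fun hg => ?_⟩ rfl rfl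
      · subst hg; ext i; simp
      · subst hg; ext i; simp
    have := LinearMap.congr_fun h (y 0)
    simp only [LinearMap.comp_apply, LinearEquiv.coe_coe, Finsupp.lapply_apply, Equiv.symm_symm,
      mem_inv.1 (hy 0) σ] at this
    exact this
  rw [← huy 0, ← B.sum_repr (y 0), map_sum]
  let κ : (Fin n → Fin m) → (Fin m → ℕ) := fun f i => cnt f i
  rw [← Finset.sum_fiberwise_of_maps_to (t := Finset.univ.image κ)
    (fun f hf => Finset.mem_image_of_mem κ hf)]
  refine sum_mem fun μ hμ => ?_
  obtain ⟨f₀, -, rfl⟩ := Finset.mem_image.1 hμ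
  have hc : ∀ f ∈ Finset.univ.filter (fun f => κ f = κ f₀),
      pw n u (B.repr (y 0) f • B f) =
        B.repr (y 0) f₀ • term R (fun i => u (Pi.basisFun R (Fin m) i)) (fun x => some (f x)) := by
    intro f hf
    obtain ⟨σ, rfl⟩ := exists_perm_of_cnt_eq f₀ f (fun i =>
      (congrFun (Finset.mem_filter.1 hf).2 i).symm)
    simp [hcoef, B, Basis.piTensorProduct_apply, term]
  rw [Finset.sum_congr rfl hc, ← Finset.smul_sum]
  refine Subalgebra.smul_mem _ ?_ _
  suffices h : ∑ f ∈ Finset.univ.filter (fun f => κ f = κ f₀),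
      term R (fun i => u (Pi.basisFun R (Fin m) i)) (fun x => some (f x)) =
        esum R n (κ f₀) fun i => u (Pi.basisFun R (Fin m) i) by
    rw [h]
    exact esum_mem _ _ _ rfl
  have hsome : ∀ {c : Fin n → Option (Fin m)}, (∀ i, cnt c (some i) = κ f₀ i) → ∀ x, c x ≠ none := by
    intro c hc x hx
    have h1 := card_eq_sum_cnt c Finset.univ
    have h2 := card_eq_sum_cnt (fun x => some (f₀ x)) Finset.univ
    have h3 : ∑ i, cnt c (some i) = ∑ i, cnt f₀ i := Finset.sum_congr rfl fun i _ => hc i
    simp only [cnt] at h3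
    simp only [ne_eq, reduceCtorEq, not_false_eq_true, Finset.filter_true, Finset.card_univ,
      Fintype.card_fin, Option.some.injEq] at h2
    have h4 : (Finset.univ.filter fun x => c x ≠ none).card < (Finset.univ : Finset (Fin n)).card :=
      Finset.card_lt_card (Finset.filter_ssubset.2 ⟨x, Finset.mem_univ x, by simp [hx]⟩)
    simp only [Finset.card_univ, Fintype.card_fin] at h4
    omega
  refine Finset.sum_nbij (fun f x => some (f x)) ?_ ?_ ?_ (fun f _ => rfl)
  · intro f hf
    replace hf := (Finset.mem_filter.1 (Finset.mem_coe.1 hf)).2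
    simp only [Finset.mem_coe, Finset.mem_filter, Finset.mem_univ, true_and]
    intro i
    rw [← hf]
    simp [κ, cnt]
  · intro f _ g _ h
    exact funext fun x => Option.some.inj (congrFun h x)
  · intro c hc
    simp only [Finset.mem_coe, Finset.mem_filter, Finset.mem_univ, true_and] at hc
    choose f hf using fun x => Option.ne_none_iff_exists'.1 (hsome hc x)
    refine ⟨f, ?_, funext fun x => (hf x).symm⟩
    simp only [Finset.mem_coe, Finset.mem_filter, Finset.mem_univ, true_and]
    funext i
    rw [← hc i]
    simp [κ, cnt, hf]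

end Groth.Agent.FlatSymLib
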