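import Groth.Agent.FlatSymLib.ModelBC
import Groth.Agent.FlatSymLib.Gen
import Groth.Agent.FlatSymLib.CurveAlg
import Groth.Agent.CotTLib.Field
import Mathlib.RingTheory.MvPolynomial.Symmetric.FundamentalTheorem
import Mathlib.RingTheory.Filtration
import Mathlib.RingTheory.Adjoin.Tower
import Mathlib.RingTheory.Ideal.GoingUp

/-!
# Symmetric powers of smooth curves over an algebraically closed field are regular
-/

set_option autoImplicit false
universe u
open TensorProduct IsLocalRing

noncomputable section

namespace Groth.Agent.FlatSymLib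

variable (A B : Type u) [CommRing A] [CommRing B] [Algebra A B] (n : ℕ)
  (K : Type u) [Field K] [Algebra A K]

/-- The fibre power over a point. -/
abbrev TK : Type u := K ⊗[A] T A B n

/-- The symmetric power over a point. -/
abbrev RK : Type u := K ⊗[A] SymTen.TS A B n

/-- The factors of the fibre power over a point. -/
def sng (i : Fin n) : K ⊗[A] B →ₐ[K] TK A B n K :=
  Algebra.TensorProduct.map (AlgHom.id K K)
    (PiTensorProduct.singleAlgHom (R := A) (A := fun _ : Fin n => B) i)

/-- The map to the fibre power over a point. -/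
def incl : RK A B n K →ₐ[K] TK A B n K :=
  Algebra.TensorProduct.map (AlgHom.id K K) (SymTen.TS A B n).val

/-- The permutations of the factors over a point. -/
def actK (σ : Equiv.Perm (Fin n)) : TK A B n K →ₐ[K] TK A B n K :=
  Algebra.TensorProduct.map (AlgHom.id K K) (SymTen.perm A B n σ)

/-- The elementary symmetric functions of an element. -/
def esymK (j : ℕ) (c : K ⊗[A] B) : TK A B n K :=
  ∑ I ∈ (Finset.univ : Finset (Fin n)).powersetCard j, ∏ i ∈ I, sng A B n K i c

variable {A B n K}

theorem actK_sng (σ : Equiv.Perm (Fin n)) (i : Fin n) (c : K ⊗[A] B) :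
    actK A B n K σ (sng A B n K i c) = sng A B n K (σ i) c := by
  induction c using TensorProduct.induction_on with
  | zero => simp
  | tmul a b =>
    simp only [actK, sng, Algebra.TensorProduct.map_tmul, AlgHom.id_apply, perm_singleAlgHom]
  | add x y hx hy => simp only [map_add, hx, hy]

theorem tkHom_ext {Q : Type u} [CommRing Q] [Algebra K Q] {f g : TK A B n K →ₐ[K] Q}
    (h : ∀ i c, f (sng A B n K i c) = g (sng A B n K i c)) : f = g := by
  letI : Algebra A Q := Algebra.compHom Q (algebraMap A K)
  haveI : IsScalarTower A K Q := .of_algebraMap_eq' rfl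
  refine (Algebra.TensorProduct.liftEquivRight (R := A) (S := K) (B := T A B n) Q).symm.injective ?_
  exact PiTensorProduct.algHom_ext fun i => AlgHom.ext fun b => h i (1 ⊗ₜ b)

theorem exists_tkHom {Q : Type u} [CommRing Q] [Algebra K Q] (F : Fin n → (K ⊗[A] B →ₐ[K] Q)) :
    ∃ f : TK A B n K →ₐ[K] Q, ∀ i c, f (sng A B n K i c) = F i c := by
  letI : Algebra A Q := Algebra.compHom Q (algebraMap A K)
  haveI : IsScalarTower A K Q := .of_algebraMap_eq' rfl
  let b : Fin n → (B →ₐ[A] Q) := fun i =>
    ((F i).restrictScalars A).comp Algebra.TensorProduct.includeRight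
  let φ : T A B n →ₐ[A] Q := PiTensorProduct.liftAlgHom
    ((MultilinearMap.mkPiAlgebra A (Fin n) Q).compLinearMap fun i => (b i).toLinearMap)
    (by simp) (fun x y => by simp [Finset.prod_mul_distrib])
  have hφ : ∀ i x, φ (PiTensorProduct.singleAlgHom (R := A) (A := fun _ : Fin n => B) i x) = b i x := by
    intro i x
    change PiTensorProduct.lift ((MultilinearMap.mkPiAlgebra A (Fin n) Q).compLinearMap
      fun i => (b i).toLinearMap) (PiTensorProduct.tprod A (Pi.mulSingle i x)) = b i x
    simp only [PiTensorProduct.lift.tprod, MultilinearMap.compLinearMap_apply,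
      MultilinearMap.mkPiAlgebra_apply, AlgHom.toLinearMap_apply]
    rw [Finset.prod_eq_single i]
    · simp
    · intro j _ hj
      simp [Pi.mulSingle_eq_of_ne hj]
    · simp
  let f : TK A B n K →ₐ[K] Q := Algebra.TensorProduct.lift (Algebra.ofId K Q) φ fun _ _ => .all _ _
  refine ⟨f, fun i c => ?_⟩
  have h : f.comp (sng A B n K i) = F i := by
    refine (Algebra.TensorProduct.liftEquivRight (R := A) (S := K) (B := B) Q).symm.injective ?_
    refine AlgHom.ext fun x => ?_
    show f (sng A B n K i (1 ⊗ₜ x)) = F i (1 ⊗ₜ x)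
    simp only [sng, f, Algebra.TensorProduct.map_tmul, AlgHom.id_apply, Algebra.TensorProduct.lift_tmul,
      map_one, one_mul, hφ]
    rfl
  exact DFunLike.congr_fun h c

theorem tprod_ite_eq_prod (I : Finset (Fin n)) (b : B) :
    PiTensorProduct.tprod A (fun i : Fin n => if i ∈ I then b else (1 : B)) =
      ∏ i ∈ I, PiTensorProduct.singleAlgHom (R := A) (A := fun _ : Fin n => B) i b := by
  classical
  induction I using Finset.induction_on with
  | empty => simp [PiTensorProduct.one_def, Pi.one_def]
  | insert a s has ih =>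
    rw [Finset.prod_insert has, ← ih, PiTensorProduct.singleAlgHom_apply,
      PiTensorProduct.tprod_mul_tprod]
    congr 1
    funext i
    by_cases hi : i = a
    · subst hi; simp [has]
    · simp [hi, Pi.mulSingle_eq_of_ne hi]

theorem one_tmul_elem (b : B) (j : ℕ) :
    (1 : K) ⊗ₜ[A] (∑ I ∈ (Finset.univ : Finset (Fin n)).powersetCard j,
      PiTensorProduct.tprod A (fun i : Fin n => if i ∈ I then b else (1 : B))) =
        esymK A B n K j (1 ⊗ₜ b) := by
  rw [tmul_sum, esymK]
  refine Finset.sum_congr rfl fun I _ => ?_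
  rw [tprod_ite_eq_prod]
  have := map_prod (Algebra.TensorProduct.includeRight : T A B n →ₐ[A] TK A B n K)
    (fun i => PiTensorProduct.singleAlgHom (R := A) (A := fun _ : Fin n => B) i b) I
  simp only [sng, Algebra.TensorProduct.map_tmul, AlgHom.id_apply]
  exact this

theorem actK_esymK (σ : Equiv.Perm (Fin n)) (j : ℕ) (c : K ⊗[A] B) :
    actK A B n K σ (esymK A B n K j c) = esymK A B n K j c := by
  simp only [esymK, map_sum, map_prod, actK_sng]
  refine Finset.sum_equiv σ.finsetCongr (fun I => ?_) (fun I _ => ?_)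
  · simp [Finset.mem_powersetCard]
  · simp [Finset.prod_map]

theorem actK_incl (σ : Equiv.Perm (Fin n)) (r : RK A B n K) :
    actK A B n K σ (incl A B n K r) = incl A B n K r := by
  induction r using TensorProduct.induction_on with
  | zero => simp
  | tmul a t =>
    simp only [incl, actK, Algebra.TensorProduct.map_tmul, AlgHom.id_apply, Subalgebra.coe_val,
      SymTen.perm_apply, t.2 σ]
  | add x y hx hy => simp only [map_add, hx, hy]

variable [Module.Flat A B]

theorem incl_injective : Function.Injective (incl A B n K) := by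
  have hTS : Subalgebra.toSubmodule (SymTen.TS A B n) = inv A B n :=
    Submodule.ext fun t => (mem_inv (R := A) (M := B) (t := t)).symm
  let el : SymTen.TS A B n ≃ₗ[A] inv A B n := LinearEquiv.ofEq _ _ hTS
  have hlin : (TensorProduct.comm A K (T A B n)).toLinearMap ∘ₗ
      ((incl A B n K).restrictScalars A).toLinearMap =
      (inv A B n).subtype.rTensor K ∘ₗ (el.rTensor K).toLinearMap ∘ₗ
        (TensorProduct.comm A K (SymTen.TS A B n)).toLinearMap :=
    TensorProduct.ext' fun a t => rfl
  intro x y hxy
  refine (TensorProduct.comm A K (SymTen.TS A B n)).injective ((el.rTensor K).injective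
    (inv_rTensor_injective (R := A) (M := B) (n := n) (N := K) ?_))
  exact ((LinearMap.congr_fun hlin x).symm.trans
    (congrArg (TensorProduct.comm A K (T A B n)) hxy)).trans (LinearMap.congr_fun hlin y)

theorem mem_range_incl {x : TK A B n K} (h : ∀ σ, actK A B n K σ x = x) :
    x ∈ (incl A B n K).range := by
  have hTS : Subalgebra.toSubmodule (SymTen.TS A B n) = inv A B n :=
    Submodule.ext fun t => (mem_inv (R := A) (M := B) (t := t)).symm
  let el : SymTen.TS A B n ≃ₗ[A] inv A B n := LinearEquiv.ofEq _ _ hTS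
  obtain ⟨z, hz⟩ := mem_range_inv_rTensor (TensorProduct.comm A K (T A B n) x) fun σ => by
    have hl : (PiTensorProduct.reindex A (fun _ : Fin n => B) σ).toLinearMap.rTensor K ∘ₗ
        (TensorProduct.comm A K (T A B n)).toLinearMap =
        (TensorProduct.comm A K (T A B n)).toLinearMap ∘ₗ
          ((actK A B n K σ).restrictScalars A).toLinearMap :=
      TensorProduct.ext' fun a t => by simp [actK, SymTen.perm_apply]
    exact (LinearMap.congr_fun hl x).trans (congrArg _ (h σ))
  refine ⟨(TensorProduct.comm A K (SymTen.TS A B n)).symm ((el.rTensor K).symm z), ?_⟩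
  have hlin : (TensorProduct.comm A K (T A B n)).toLinearMap ∘ₗ
      ((incl A B n K).restrictScalars A).toLinearMap =
      (inv A B n).subtype.rTensor K ∘ₗ (el.rTensor K).toLinearMap ∘ₗ
        (TensorProduct.comm A K (SymTen.TS A B n)).toLinearMap :=
    TensorProduct.ext' fun a t => rfl
  refine (TensorProduct.comm A K (T A B n)).injective ((LinearMap.congr_fun hlin _).trans ?_)
  show (inv A B n).subtype.rTensor K (el.rTensor K (TensorProduct.comm A K (SymTen.TS A B n)
    ((TensorProduct.comm A K (SymTen.TS A B n)).symm ((el.rTensor K).symm z)))) = _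
  rw [LinearEquiv.apply_symm_apply, LinearEquiv.apply_symm_apply]
  exact hz

theorem esymK_mem_range (j : ℕ) (c : K ⊗[A] B) : esymK A B n K j c ∈ (incl A B n K).range :=
  mem_range_incl fun σ => actK_esymK σ j c

theorem range_incl_le :
    (incl A B n K).range ≤ Algebra.adjoin K {x | ∃ (j : ℕ) (c : K ⊗[A] B), x = esymK A B n K j c} := by
  rintro _ ⟨r, rfl⟩
  induction r using TensorProduct.induction_on with
  | zero => simp
  | add x y hx hy => rw [map_add]; exact add_mem hx hy
  | tmul a t =>
    let G := Algebra.adjoin K {x | ∃ (j : ℕ) (c : K ⊗[A] B), x = esymK A B n K j c}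
    have h1 : Algebra.adjoin A (elemSet A B n) ≤
        (G.restrictScalars A).comap (Algebra.TensorProduct.includeRight : T A B n →ₐ[A] TK A B n K) := by
      refine Algebra.adjoin_le ?_
      rintro _ ⟨b, j, rfl⟩
      show (1 : K) ⊗ₜ[A] _ ∈ G
      rw [one_tmul_elem]
      exact Algebra.subset_adjoin ⟨j, _, rfl⟩
    have h2 : (1 : K) ⊗ₜ[A] (t : T A B n) ∈ G :=
      h1 (inv_le_adjoin (mem_inv.2 t.2))
    show incl A B n K (a ⊗ₜ t) ∈ G
    have : incl A B n K (a ⊗ₜ t) = a • ((1 : K) ⊗ₜ[A] (t : T A B n)) := by
      simp [incl, smul_tmul']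
    rw [this]
    exact G.smul_mem h2 a

/-- The polynomial vanishing at all the factors of an element. -/
theorem exists_monic (c : K ⊗[A] B) :
    ∃ p : Polynomial (RK A B n K), p.Monic ∧
      p.map (incl A B n K).toRingHom = ∏ i : Fin n, (Polynomial.X - Polynomial.C (sng A B n K i c)) := by
  let P := ∏ i : Fin n, (Polynomial.X - Polynomial.C (sng A B n K i c))
  have hP : P.Monic := Polynomial.monic_prod_of_monic _ _ fun i _ => Polynomial.monic_X_sub_C _
  have hl : P ∈ Polynomial.lifts (incl A B n K).toRingHom := by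
    rw [Polynomial.lifts_iff_coeff_lifts]
    intro k
    obtain ⟨r, hr⟩ := mem_range_incl (x := P.coeff k) fun σ => by
      have hmap : P.map (actK A B n K σ).toRingHom = P := by
        simp only [P, Polynomial.map_prod, Polynomial.map_sub, Polynomial.map_X, Polynomial.map_C]
        refine Fintype.prod_equiv σ _ _ fun i => ?_
        rw [show (actK A B n K σ).toRingHom (sng A B n K i c) = sng A B n K (σ i) c from actK_sng σ i c]
      conv_rhs => rw [← hmap, Polynomial.coeff_map]
      rfl
    exact ⟨r, hr⟩
  rcases subsingleton_or_nontrivial (TK A B n K) with hS | hS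
  · exact ⟨1, Polynomial.monic_one, Subsingleton.elim _ _⟩
  obtain ⟨p, hp, -, hm⟩ := Polynomial.lifts_and_degree_eq_and_monic hl hP
  exact ⟨p, hm, hp⟩

theorem isIntegral_incl : (incl A B n K).toRingHom.IsIntegral := by
  intro x
  induction x using TensorProduct.induction_on with
  | zero => exact RingHom.isIntegralElem_zero _
  | add x y hx hy => exact RingHom.IsIntegralElem.add _ hx hy
  | tmul a t =>
    induction t using PiTensorProduct.induction_on with
    | smul_tprod r f =>
      have e : a ⊗ₜ[A] (r • PiTensorProduct.tprod A f) =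
          (r • a) ⊗ₜ[A] (1 : T A B n) * ∏ i, sng A B n K i (1 ⊗ₜ f i) := by
        have h1 : PiTensorProduct.tprod A f =
            ∏ i, PiTensorProduct.singleAlgHom (R := A) (A := fun _ : Fin n => B) i (f i) := by
          have := map_prod (PiTensorProduct.tprodMonoidHom A (A := fun _ : Fin n => B))
            (fun i => Pi.mulSingle i (f i)) Finset.univ
          rw [Finset.univ_prod_mulSingle] at this
          exact this
        have h2 : ∏ i, sng A B n K i (1 ⊗ₜ f i) = (1 : K) ⊗ₜ[A] PiTensorProduct.tprod A f := by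
          rw [h1]
          have := map_prod (Algebra.TensorProduct.includeRight : T A B n →ₐ[A] TK A B n K)
            (fun i => PiTensorProduct.singleAlgHom (R := A) (A := fun _ : Fin n => B) i (f i))
            Finset.univ
          simp only [sng, Algebra.TensorProduct.map_tmul, AlgHom.id_apply]
          exact this.symm
        rw [h2, Algebra.TensorProduct.tmul_mul_tmul, mul_one, one_mul, smul_tmul]
      rw [e]
      refine RingHom.IsIntegralElem.mul _ ?_ ?_
      · have : (r • a) ⊗ₜ[A] (1 : T A B n) = incl A B n K ((r • a) ⊗ₜ 1) := by simp [incl]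
        rw [this]
        exact RingHom.isIntegralElem_map _
      · refine Finset.prod_induction _ _ (fun x y => RingHom.IsIntegralElem.mul _)
          (RingHom.isIntegralElem_one _) fun i _ => ?_
        obtain ⟨p, hm, hp⟩ := exists_monic (A := A) (B := B) (n := n) (K := K) (1 ⊗ₜ f i)
        refine ⟨p, hm, ?_⟩
        rw [← Polynomial.eval_map, hp, Polynomial.eval_prod]
        exact Finset.prod_eq_zero (Finset.mem_univ i) (by simp)
    | add x y hx hy => rw [tmul_add]; exact RingHom.IsIntegralElem.add _ hx hy

omit [Module.Flat A B] in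
/-- The elementary symmetric functions of a polynomial in `t` are polynomials in those of `t`. -/
theorem esymK_aeval_mem (t : K ⊗[A] B) (q : Polynomial K) (j : ℕ) :
    esymK A B n K j (Polynomial.aeval t q) ∈
      Algebra.adjoin K (Set.range fun i : Fin n => esymK A B n K (i + 1) t) := by
  let F : MvPolynomial (Fin n) K := ∑ I ∈ (Finset.univ : Finset (Fin n)).powersetCard j,
    ∏ i ∈ I, Polynomial.aeval (MvPolynomial.X i) q
  have hF : F.IsSymmetric := by
    intro e
    simp only [F, map_sum, map_prod, ← Polynomial.aeval_algHom_apply, MvPolynomial.rename_X]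
    refine Finset.sum_equiv e.finsetCongr (fun I => ?_) (fun I _ => ?_)
    · simp [Finset.mem_powersetCard]
    · simp [Finset.prod_map]
  obtain ⟨g, hg⟩ := MvPolynomial.esymmAlgHom_surjective (R := K) (σ := Fin n) (n := n)
    (by simp) ⟨F, (MvPolynomial.mem_symmetricSubalgebra F).2 hF⟩
  let ev : MvPolynomial (Fin n) K →ₐ[K] TK A B n K := MvPolynomial.aeval fun i => sng A B n K i t
  have hev : ev F = esymK A B n K j (Polynomial.aeval t q) := by
    simp only [F, esymK, map_sum, map_prod, ← Polynomial.aeval_algHom_apply, ev,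
      MvPolynomial.aeval_X]
  have hg' : F = MvPolynomial.aeval (fun i : Fin n => MvPolynomial.esymm (Fin n) K (i + 1)) g := by
    rw [← MvPolynomial.esymmAlgHom_apply (σ := Fin n), hg]
  rw [← hev, hg', ← AlgHom.comp_apply, MvPolynomial.comp_aeval]
  have hes : (fun i : Fin n => ev (MvPolynomial.esymm (Fin n) K (i + 1))) =
      fun i : Fin n => esymK A B n K (i + 1) t := by
    funext i
    simp [ev, MvPolynomial.esymm, esymK]
  rw [hes, Algebra.adjoin_range_eq_range_aeval]
  exact ⟨g, rfl⟩

omit [Module.Flat A B] in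
theorem finiteType_TK [Algebra.FiniteType K (K ⊗[A] B)] : Algebra.FiniteType K (TK A B n K) := by
  classical
  obtain ⟨s, hs⟩ := Algebra.FiniteType.out (R := K) (A := K ⊗[A] B)
  refine ⟨⟨Finset.univ.biUnion fun i => s.image (sng A B n K i), top_le_iff.1 ?_⟩⟩
  let G := Algebra.adjoin K (↑(Finset.univ.biUnion fun i => s.image (sng A B n K i)) : Set (TK A B n K))
  have hmem : ∀ i c, sng A B n K i c ∈ G := by
    intro i c
    have : (⊤ : Subalgebra K (K ⊗[A] B)) ≤ G.comap (sng A B n K i) := by
      rw [← hs]
      refine Algebra.adjoin_le fun x hx => Algebra.subset_adjoin ?_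
      exact Finset.mem_coe.2 (Finset.mem_biUnion.2
        ⟨i, Finset.mem_univ i, Finset.mem_image_of_mem _ (Finset.mem_coe.1 hx)⟩)
    exact this Algebra.mem_top
  obtain ⟨f, hf⟩ := exists_tkHom (A := A) (B := B) (n := n) (K := K) (Q := G)
    fun i => (sng A B n K i).codRestrict G (hmem i)
  have hid : G.val.comp f = AlgHom.id K _ := tkHom_ext fun i c => by
    simp [hf i c]
  intro x _
  have := DFunLike.congr_fun hid x
  simp only [AlgHom.comp_apply, Subalgebra.coe_val, AlgHom.id_apply] at this
  rw [← this]
  exact (f x).2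

/-- The fibre power is module finite over the symmetric power. -/
theorem finite_incl [Algebra.FiniteType K (K ⊗[A] B)] :
    (incl A B n K).toRingHom.Finite := by
  classical
  haveI := finiteType_TK (A := A) (B := B) (n := n) (K := K)
  letI alg : Algebra (RK A B n K) (TK A B n K) := (incl A B n K).toRingHom.toAlgebra
  haveI : IsScalarTower K (RK A B n K) (TK A B n K) :=
    .of_algebraMap_eq fun a => ((incl A B n K).commutes a).symm
  haveI : Algebra.IsIntegral (RK A B n K) (TK A B n K) := ⟨isIntegral_incl⟩
  haveI : Algebra.FiniteType (RK A B n K) (TK A B n K) :=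
    Algebra.FiniteType.of_restrictScalars_finiteType K _ _
  exact Algebra.IsIntegral.finite

theorem finiteType_RK [Algebra.FiniteType K (K ⊗[A] B)] : Algebra.FiniteType K (RK A B n K) := by
  haveI hft := finiteType_TK (A := A) (B := B) (n := n) (K := K)
  letI alg : Algebra (RK A B n K) (TK A B n K) := (incl A B n K).toRingHom.toAlgebra
  haveI : IsScalarTower K (RK A B n K) (TK A B n K) :=
    .of_algebraMap_eq fun a => ((incl A B n K).commutes a).symm
  haveI : Algebra.IsIntegral (RK A B n K) (TK A B n K) := ⟨isIntegral_incl⟩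
  haveI hfin : Module.Finite (RK A B n K) (TK A B n K) := finite_incl
  exact ⟨fg_of_fg_of_fg K (RK A B n K) (TK A B n K) hft.out Module.Finite.fg_top
    (incl_injective (A := A) (B := B) (n := n) (K := K))⟩

omit [Module.Flat A B] in
theorem exists_point [IsAlgClosed K] [Algebra.FiniteType K (TK A B n K)]
    (q : Ideal (TK A B n K)) (hq : q.IsMaximal) :
    ∃ e : TK A B n K →ₐ[K] K, RingHom.ker e = q := by
  haveI := hq
  letI := Ideal.Quotient.field q
  haveI : Algebra.FiniteType K (TK A B n K ⧸ q) :=
    .of_surjective (Ideal.Quotient.mkₐ K q) Ideal.Quotient.mk_surjective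
  haveI : Module.Finite K (TK A B n K ⧸ q) := finite_of_finite_type_of_isJacobsonRing K _
  let eq' : K ≃ₐ[K] TK A B n K ⧸ q := AlgEquiv.ofBijective (Algebra.ofId K _)
    IsAlgClosed.algebraMap_bijective_of_isIntegral
  refine ⟨eq'.symm.toAlgHom.comp (Ideal.Quotient.mkₐ K q), ?_⟩
  ext x
  simp [RingHom.mem_ker, Ideal.Quotient.eq_zero_iff_mem]

/-- The points over a point of the symmetric power have the same components. -/
theorem map_setIdeal_le_radical [IsAlgClosed K] [DecidableEq (K ⊗[A] B →ₐ[K] K)]
    [Algebra.FiniteType K (K ⊗[A] B)] (e : TK A B n K →ₐ[K] K) (m : Ideal (RK A B n K))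
    [m.IsMaximal] (hem : (RingHom.ker e).comap (incl A B n K).toRingHom = m) :
    (⨆ i, (setIdeal (Finset.univ.image fun i => e.comp (sng A B n K i))).map (sng A B n K i).toRingHom) ≤
      (m.map (incl A B n K).toRingHom).radical := by
  haveI := finiteType_TK (A := A) (B := B) (n := n) (K := K)
  letI alg : Algebra (RK A B n K) (TK A B n K) := (incl A B n K).toRingHom.toAlgebra
  haveI : IsScalarTower K (RK A B n K) (TK A B n K) :=
    .of_algebraMap_eq fun a => ((incl A B n K).commutes a).symm
  haveI : Algebra.IsIntegral (RK A B n K) (TK A B n K) := ⟨isIntegral_incl⟩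
  let φ : Fin n → (K ⊗[A] B →ₐ[K] K) := fun i => e.comp (sng A B n K i)
  let P : Finset (K ⊗[A] B →ₐ[K] K) := Finset.univ.image φ
  show _ ≤ (m.map (algebraMap (RK A B n K) (TK A B n K))).radical
  rw [Ideal.radical_eq_sInf]
  refine le_sInf fun q hq => ?_
  obtain ⟨hle, hqp⟩ := hq
  haveI := hqp
  have hqm : q.comap (algebraMap (RK A B n K) (TK A B n K)) = m :=
    (Ideal.IsMaximal.eq_of_le inferInstance (Ideal.IsPrime.ne_top' (I := q.comap _))
      (Ideal.map_le_iff_le_comap.1 hle)).symm
  haveI hqmax : q.IsMaximal := Ideal.isMaximal_of_isIntegral_of_isMaximal_comap q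
    (by rw [hqm]; infer_instance)
  obtain ⟨e', he'⟩ := exists_point q hqmax
  have heq : ∀ r : RK A B n K, e' (incl A B n K r) = e (incl A B n K r) := by
    intro r
    have h1 : ∀ (f : TK A B n K →ₐ[K] K), (RingHom.ker f).comap (algebraMap (RK A B n K) _) = m →
        r - algebraMap K _ (f (incl A B n K r)) ∈ m := by
      intro f hf
      rw [← hf, Ideal.mem_comap, RingHom.mem_ker, map_sub, map_sub,
        ← IsScalarTower.algebraMap_apply, AlgHom.commutes]
      exact sub_self _
    have h2 := sub_mem (h1 e hem) (h1 e' (by rw [he']; exact hqm))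
    rw [sub_sub_sub_cancel_left, ← map_sub] at h2
    by_contra hne
    exact Ideal.IsMaximal.ne_top ‹m.IsMaximal› (Ideal.eq_top_of_isUnit_mem _ h2
      ((sub_ne_zero.2 hne).isUnit.map _))
  have hmemP : ∀ i, e'.comp (sng A B n K i) ∈ P := by
    intro i
    by_contra hnot
    obtain ⟨c, hc⟩ := Ideal.exists_forall_sub_mem_ideal
      (I := fun o : Option P => o.elim (ptIdeal (e'.comp (sng A B n K i))) fun ψ => ptIdeal ψ.1)
      (fun o o' hne => by
        have key : ∀ {a b : K ⊗[A] B →ₐ[K] K}, a ≠ b → IsCoprime (ptIdeal a) (ptIdeal b) :=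
          fun h => by simpa using isCoprime_ptIdeal_pow h 1 1
        rcases o with _ | ψ <;> rcases o' with _ | ψ'
        · exact absurd rfl hne
        · exact key fun h => hnot (h ▸ ψ'.2)
        · exact key fun h => hnot (h ▸ ψ.2)
        · exact key fun h => hne (congrArg some (Subtype.ext h)))
      (fun o => o.elim 1 fun _ => 0)
    have hci : e' (sng A B n K i c) = 1 := by
      have := RingHom.mem_ker.1 (hc none)
      simpa [sub_eq_zero] using this
    have hck : ∀ k, e (sng A B n K k c) = 0 := by
      intro k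
      have := RingHom.mem_ker.1 (hc (some ⟨φ k, Finset.mem_image_of_mem φ (Finset.mem_univ k)⟩))
      simpa [φ] using this
    obtain ⟨p, -, hp⟩ := exists_monic (A := A) (B := B) (n := n) (K := K) c
    have hpe : ∀ f : TK A B n K →ₐ[K] K, (p.map (incl A B n K).toRingHom).map f.toRingHom =
        ∏ k : Fin n, (Polynomial.X - Polynomial.C (f (sng A B n K k c))) := by
      intro f
      rw [hp]
      simp [Polynomial.map_prod]
    have hpp : (p.map (incl A B n K).toRingHom).map e'.toRingHom =
        (p.map (incl A B n K).toRingHom).map e.toRingHom := by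
      ext k
      simp only [Polynomial.coeff_map]
      exact heq _
    rw [hpe, hpe] at hpp
    have := congrArg (Polynomial.eval 1) hpp
    rw [Polynomial.eval_prod, Finset.prod_eq_zero (Finset.mem_univ i) (by simp [hci])] at this
    simp [Polynomial.eval_prod, hck] at this
  refine iSup_le fun i => Ideal.map_le_iff_le_comap.2 fun x hx => ?_
  have := setIdeal_le (hmemP i) hx
  rw [Ideal.mem_comap, ← he']
  exact this

/-- Artin–Rees for a finite injective map. -/
theorem exists_pow_comap_le {R S : Type*} [CommRing R] [IsNoetherianRing R] [CommRing S] [Algebra R S]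
    [Module.Finite R S] (hinj : Function.Injective (algebraMap R S)) (m : Ideal R) :
    ∃ k, ∀ r, algebraMap R S r ∈ m.map (algebraMap R S) ^ k → r ∈ m ^ 2 := by
  obtain ⟨k₀, hk₀⟩ := Ideal.exists_pow_inf_eq_pow_smul m (LinearMap.range (Algebra.linearMap R S))
  refine ⟨k₀ + 2, fun r hr => ?_⟩
  have h1 : (Algebra.linearMap R S) r ∈
      m ^ (k₀ + 2) • (⊤ : Submodule R S) ⊓ LinearMap.range (Algebra.linearMap R S) := by
    refine ⟨?_, ⟨r, rfl⟩⟩
    rw [Ideal.smul_top_eq_map, Ideal.map_pow]
    exact hr
  rw [hk₀ (k₀ + 2) (Nat.le_add_right _ _), show k₀ + 2 - k₀ = 2 by omega] at h1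
  have h2 : (Algebra.linearMap R S) r ∈ m ^ 2 • LinearMap.range (Algebra.linearMap R S) :=
    Submodule.smul_mono le_rfl inf_le_right h1
  rw [← Submodule.map_top, ← Submodule.map_smul''] at h2
  obtain ⟨r', hr', hrr'⟩ := h2
  rw [smul_eq_mul, Ideal.mul_top] at hr'
  exact hinj hrr' ▸ hr'

omit [Module.Flat A B] in
theorem sum_prod_sub_mem {ι S : Type*} [CommRing S] (J : Ideal S) (s : Finset (Finset ι)) (f g : ι → S)
    (h : ∀ i, f i - g i ∈ J) : (∑ I ∈ s, ∏ i ∈ I, f i) - (∑ I ∈ s, ∏ i ∈ I, g i) ∈ J := by
  rw [← Ideal.Quotient.eq]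
  simp only [map_sum, map_prod]
  exact Finset.sum_congr rfl fun I _ => Finset.prod_congr rfl fun i _ => Ideal.Quotient.eq.2 (h i)

/-- Modulo the square of a point, the elementary symmetric functions of a coordinate generate. -/
theorem exists_gen [IsAlgClosed K] [DecidableEq (K ⊗[A] B →ₐ[K] K)] [Algebra.FiniteType K (K ⊗[A] B)]
    (hC : IsCurve K (K ⊗[A] B)) (e : TK A B n K →ₐ[K] K) (m : Ideal (RK A B n K))
    [m.IsMaximal] (hem : (RingHom.ker e).comap (incl A B n K).toRingHom = m) :
    ∃ gen : Fin n → RK A B n K, (∀ i, gen i ∈ m) ∧ m ≤ Ideal.span (Set.range gen) ⊔ m ^ 2 := by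
  haveI := finiteType_TK (A := A) (B := B) (n := n) (K := K)
  haveI := finiteType_RK (A := A) (B := B) (n := n) (K := K)
  letI alg : Algebra (RK A B n K) (TK A B n K) := (incl A B n K).toRingHom.toAlgebra
  haveI : IsScalarTower K (RK A B n K) (TK A B n K) :=
    .of_algebraMap_eq fun a => ((incl A B n K).commutes a).symm
  haveI : Algebra.IsIntegral (RK A B n K) (TK A B n K) := ⟨isIntegral_incl⟩
  haveI : Module.Finite (RK A B n K) (TK A B n K) := finite_incl
  haveI : IsNoetherianRing (TK A B n K) := Algebra.FiniteType.isNoetherianRing K _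
  haveI : IsNoetherianRing (RK A B n K) := Algebra.FiniteType.isNoetherianRing K _
  let φ : Fin n → (K ⊗[A] B →ₐ[K] K) := fun i => e.comp (sng A B n K i)
  let P : Finset (K ⊗[A] B →ₐ[K] K) := Finset.univ.image φ
  obtain ⟨t, htinj, htco⟩ := exists_coord hC P
  let J : Ideal (TK A B n K) := ⨆ i, (setIdeal P).map (sng A B n K i).toRingHom
  have hJ : J ≤ (m.map (algebraMap (RK A B n K) (TK A B n K))).radical :=
    map_setIdeal_le_radical e m hem
  obtain ⟨L, hL⟩ := Ideal.exists_pow_le_of_le_radical_of_fg hJ (IsNoetherian.noetherian J)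
  obtain ⟨k, hAR⟩ := exists_pow_comap_le (R := RK A B n K) (S := TK A B n K)
    (incl_injective (A := A) (B := B) (n := n) (K := K)) m
  choose E hE using fun i : Fin n => esymK_mem_range (A := A) (B := B) (K := K) (i + 1) t
  let gen : Fin n → RK A B n K := fun i => E i - algebraMap K _ (e (incl A B n K (E i)))
  have hgen : ∀ i, gen i ∈ m := by
    intro i
    rw [← hem, Ideal.mem_comap, RingHom.mem_ker]
    show e (incl A B n K (gen i)) = 0
    simp only [gen, map_sub, AlgHom.commutes, Algebra.algebraMap_self, RingHom.id_apply, sub_self]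
  let S := (Algebra.adjoin K (Set.range gen)).map (Ideal.Quotient.mkₐ K (m ^ 2))
  have hgenS : ∀ i, Ideal.Quotient.mkₐ K (m ^ 2) (E i) ∈ S := by
    intro i
    refine ⟨gen i + algebraMap K _ (e (incl A B n K (E i))), ?_, by simp [gen]⟩
    exact add_mem (Algebra.subset_adjoin ⟨i, rfl⟩) (Subalgebra.algebraMap_mem _ _)
  have hall : ∀ r : RK A B n K, Ideal.Quotient.mkₐ K (m ^ 2) r ∈ S := by
    let U := (S.comap (Ideal.Quotient.mkₐ K (m ^ 2))).map (incl A B n K)
    have hU : ∀ (j : ℕ) (c : K ⊗[A] B), esymK A B n K j c ∈ U := by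
      intro j c
      obtain ⟨q, hq⟩ := exists_poly_approx P t htinj htco c (L * k)
      obtain ⟨r₁, hr₁⟩ := esymK_mem_range (A := A) (B := B) (n := n) (K := K) j c
      have hsub : Algebra.adjoin K (Set.range fun i : Fin n => esymK A B n K (i + 1) t) ≤ U := by
        refine Algebra.adjoin_le ?_
        rintro _ ⟨i, rfl⟩
        exact ⟨E i, hgenS i, hE i⟩
      obtain ⟨r₂, hr₂, hr₂e⟩ := hsub (esymK_aeval_mem t q j)
      refine ⟨r₁, ?_, hr₁⟩
      have hd : r₁ - r₂ ∈ m ^ 2 := by
        refine hAR _ ?_
        rw [map_sub]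
        refine Ideal.pow_right_mono hL k ?_
        rw [← pow_mul]
        change algebraMap (RK A B n K) (TK A B n K) r₁ = _ at hr₁
        change algebraMap (RK A B n K) (TK A B n K) r₂ = _ at hr₂e
        rw [hr₁, hr₂e]
        refine sum_prod_sub_mem (J ^ (L * k)) _ _ _ fun i => ?_
        rw [← map_sub]
        have h1 : sng A B n K i (c - Polynomial.aeval t q) ∈
            ((setIdeal P) ^ (L * k)).map (sng A B n K i).toRingHom :=
          Ideal.mem_map_of_mem _ (mem_setIdeal_pow hq)
        rw [Ideal.map_pow] at h1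
        exact Ideal.pow_right_mono (le_iSup (fun i => (setIdeal P).map (sng A B n K i).toRingHom) i) _ h1
      show Ideal.Quotient.mkₐ K (m ^ 2) r₁ ∈ S
      have : Ideal.Quotient.mkₐ K (m ^ 2) r₁ = Ideal.Quotient.mkₐ K (m ^ 2) r₂ :=
        Ideal.Quotient.eq.2 hd
      rw [this]
      exact hr₂
    have hle : (incl A B n K).range ≤ U :=
      (range_incl_le (A := A) (B := B) (n := n) (K := K)).trans
        (Algebra.adjoin_le (by rintro _ ⟨j, c, rfl⟩; exact hU j c))
    intro r
    obtain ⟨r', hr', hrr'⟩ := hle ⟨r, rfl⟩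
    exact incl_injective (A := A) (B := B) (n := n) (K := K) hrr' ▸ hr'
  let χ : RK A B n K →ₐ[K] K := e.comp (incl A B n K)
  have hχ : RingHom.ker χ = m := by
    rw [← hem]
    rfl
  have hm : m ≤ Ideal.span (Set.range gen) ⊔ m ^ 2 := by
    intro x hx
    obtain ⟨y, hy, hxy⟩ := hall x
    have hy' : y - algebraMap K _ (χ y) ∈ Ideal.span (Set.range gen) := by
      clear hxy
      induction hy using Algebra.adjoin_induction with
      | mem w hw =>
        obtain ⟨i, rfl⟩ := hw
        have : χ (gen i) = 0 := by
          rw [← RingHom.mem_ker, hχ]; exact hgen i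
        simpa [this] using Ideal.subset_span (Set.mem_range_self i)
      | algebraMap a =>
        simp only [AlgHom.commutes, Algebra.algebraMap_self, RingHom.id_apply, sub_self]
        exact zero_mem _
      | add a b _ _ ha hb =>
        rw [map_add, map_add, add_sub_add_comm]
        exact add_mem ha hb
      | mul a b _ _ ha hb =>
        have : a * b - algebraMap K _ (χ (a * b)) = (a - algebraMap K _ (χ a)) * b +
            algebraMap K _ (χ a) * (b - algebraMap K _ (χ b)) := by
          simp only [map_mul]; ring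
        rw [this]
        exact add_mem (Ideal.mul_mem_right _ _ ha) (Ideal.mul_mem_left _ _ hb)
    have hd : x - y ∈ m ^ 2 := Ideal.Quotient.eq.1 hxy.symm
    have hy0 : χ y = 0 := by
      have h1 : χ (x - y) = 0 := by
        rw [← RingHom.mem_ker, hχ]; exact Ideal.pow_le_self two_ne_zero hd
      have h2 : χ x = 0 := by rw [← RingHom.mem_ker, hχ]; exact hx
      rwa [map_sub, h2, zero_sub, neg_eq_zero] at h1
    rw [hy0, map_zero, sub_zero] at hy'
    exact Submodule.mem_sup.2 ⟨y, hy', x - y, hd, by ring⟩
  exact ⟨gen, hgen, hm⟩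

omit [Module.Flat A B] in
/-- The fibre power of a curve has dimension at least `n` at each point. -/
theorem le_dim [IsAlgClosed K] [Algebra.FiniteType K (K ⊗[A] B)] [Algebra.FormallySmooth K (TK A B n K)]
    (hC : IsCurve K (K ⊗[A] B)) (e : TK A B n K →ₐ[K] K) (z : Ideal (TK A B n K)) [z.IsPrime]
    (he : RingHom.ker e = z) [z.IsMaximal] :
    (n : WithBot ℕ∞) ≤ ringKrullDim (Localization.AtPrime z) := by
  classical
  haveI := finiteType_TK (A := A) (B := B) (n := n) (K := K)
  haveI : IsNoetherianRing (TK A B n K) := Algebra.FiniteType.isNoetherianRing K _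
  haveI : IsRegularLocalRing (Localization.AtPrime z) := CotTLib.regular_of_formallySmooth (k := K) z
  let φ : Fin n → (K ⊗[A] B →ₐ[K] K) := fun i => e.comp (sng A B n K i)
  suffices h : n ≤ (maximalIdeal (Localization.AtPrime z)).spanFinrank by
    have hd := (inferInstance : IsRegularLocalRing (Localization.AtPrime z)).spanFinrank_maximalIdeal
    calc (n : WithBot ℕ∞) ≤ ((maximalIdeal (Localization.AtPrime z)).spanFinrank : WithBot ℕ∞) :=
          Nat.cast_le.2 h
      _ = _ := by convert hd
  obtain ⟨g, hgc, hgspan⟩ := Submodule.FG.exists_span_set_encard_eq_spanFinrank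
    (IsNoetherian.noetherian (maximalIdeal (Localization.AtPrime z)))
  choose d hd hd0 _huniq using fun i => hC (φ i)
  choose w hw using fun i => show ∃ x, d i x ≠ 0 by
    by_contra hne
    push Not at hne
    exact hd0 i (LinearMap.ext hne)
  let D : ∀ (i : Fin n) (k : Fin n), K ⊗[A] B →ₐ[K] TrivSqZeroExt K K := fun i k =>
    AlgHom.ofLinearMap
      ((TrivSqZeroExt.inlAlgHom K K K).toLinearMap ∘ₗ (φ k).toLinearMap +
        (if k = i then (TrivSqZeroExt.inrHom K K).restrictScalars K ∘ₗ d k else 0))
      (by
        have h1 : d k 1 = 0 := by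
          have := IsDer.map_algebraMap (hd k) (1 : K)
          rwa [map_one] at this
        split_ifs <;> simp [h1])
      (fun x y => by
        split_ifs <;> ext <;> simp [hd k x y]
        ring)
  choose δ hδ using fun i => exists_tkHom (A := A) (B := B) (n := n) (K := K) (D i)
  have hfst : ∀ i x, (δ i x).fst = e x := by
    intro i
    have : (TrivSqZeroExt.fstHom K K K).comp (δ i) = e := tkHom_ext fun k c => by
      simp only [AlgHom.comp_apply, hδ]
      simp only [D, AlgHom.ofLinearMap_apply]
      split_ifs <;> simp [φ]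
    exact fun x => DFunLike.congr_fun this x
  have hunit : ∀ (i : Fin n) (y : z.primeCompl), IsUnit ((δ i).toRingHom y) := by
    intro i y
    rw [TrivSqZeroExt.isUnit_iff_isUnit_fst]
    refine isUnit_iff_ne_zero.2 fun h => y.2 ?_
    have hy : (y : TK A B n K) ∈ RingHom.ker e := by
      rw [RingHom.mem_ker, ← hfst i]
      exact h
    exact he.le hy
  let δ' : Fin n → (Localization.AtPrime z →+* TrivSqZeroExt K K) := fun i =>
    IsLocalization.lift (hunit i)
  have hδ' : ∀ i x, δ' i (algebraMap _ _ x) = δ i x := fun i x => IsLocalization.lift_eq _ _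
  have hsame : ∀ i j x, (δ' i x).fst = (δ' j x).fst := by
    intro i j
    have : (TrivSqZeroExt.fstHom K K K).toRingHom.comp (δ' i) =
        (TrivSqZeroExt.fstHom K K K).toRingHom.comp (δ' j) :=
      IsLocalization.ringHom_ext z.primeCompl (RingHom.ext fun x => by
        simp [hδ', hfst])
    exact fun x => DFunLike.congr_fun this x
  have hfst0 : ∀ i, ∀ x ∈ maximalIdeal (Localization.AtPrime z), (δ' i x).fst = 0 := by
    intro i x hx
    rw [← Localization.AtPrime.map_eq_maximalIdeal] at hx
    refine Submodule.span_induction (p := fun x _ => (δ' i x).fst = 0) ?_ (by simp)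
      (fun a b _ _ ha hb => by simp [ha, hb]) (fun a b _ hb => by simp [hb]) hx
    rintro _ ⟨y, hy, rfl⟩
    rw [hδ', hfst, ← RingHom.mem_ker, he]
    exact hy
  let v : Localization.AtPrime z → (Fin n → K) := fun x i => (δ' i x).snd
  have hv : ∀ x ∈ maximalIdeal (Localization.AtPrime z), v x ∈ Submodule.span K (v '' g) := by
    intro x hx
    rw [← hgspan] at hx
    have hsub : Submodule.span (Localization.AtPrime z) g ≤ maximalIdeal (Localization.AtPrime z) :=
      le_of_eq hgspan
    induction hx using Submodule.span_induction with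
    | mem y hy => exact Submodule.subset_span ⟨y, hy, rfl⟩
    | zero =>
      rw [show v 0 = 0 by funext i; simp [v]]
      exact zero_mem _
    | add a b _ _ ha hb =>
      rw [show v (a + b) = v a + v b by funext i; simp [v]]
      exact add_mem ha hb
    | smul a y hy ih =>
      rcases isEmpty_or_nonempty (Fin n) with h | ⟨⟨i₀⟩⟩
      · rw [Subsingleton.elim (v (a • y)) 0]
        exact zero_mem _
      · rw [show v (a • y) = (δ' i₀ a).fst • v y by
          funext i
          simp [v, hfst0 i y (hsub hy), hsame i i₀ a]]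
        exact Submodule.smul_mem _ _ ih
  have hbasis : ∀ i, Pi.single i (1 : K) ∈ Submodule.span K (v '' g) := by
    intro i
    let u := w i - algebraMap K _ (φ i (w i))
    have hu : algebraMap (TK A B n K) (Localization.AtPrime z) (sng A B n K i u) ∈
        maximalIdeal (Localization.AtPrime z) := by
      rw [← Localization.AtPrime.map_eq_maximalIdeal]
      refine Ideal.mem_map_of_mem _ ?_
      rw [← he, RingHom.mem_ker]
      simp [u, φ, -Algebra.TensorProduct.algebraMap_apply]
    have hvu : v (algebraMap (TK A B n K) (Localization.AtPrime z) (sng A B n K i u)) =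
        d i (w i) • Pi.single i (1 : K) := by
      funext k
      simp only [v, hδ', hδ, D, AlgHom.ofLinearMap_apply]
      by_cases hik : i = k
      · subst hik
        simp [u, IsDer.map_algebraMap (hd i), -Algebra.TensorProduct.algebraMap_apply]
      · simp [hik, Ne.symm hik]
    have := hv _ hu
    rw [hvu] at this
    simpa [smul_smul, inv_mul_cancel₀ (hw i)] using Submodule.smul_mem _ (d i (w i))⁻¹ this
  have hfin : g.Finite := by
    rw [← Set.encard_ne_top_iff, hgc]
    exact ENat.coe_ne_top _
  have htop : (⊤ : Submodule K (Fin n → K)) ≤ Submodule.span K (v '' g) := by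
    rw [← (Pi.basisFun K (Fin n)).span_eq, Submodule.span_le]
    rintro _ ⟨i, rfl⟩
    simpa using hbasis i
  haveI := (hfin.image v).fintype
  have h1 := finrank_span_le_card (R := K) (v '' g)
  rw [top_le_iff.1 htop, finrank_top, Module.finrank_pi, Fintype.card_fin,
    ← Set.ncard_eq_toFinset_card'] at h1
  refine (h1.trans (Set.ncard_image_le hfin)).trans (le_of_eq ?_)
  rw [Set.ncard_def, hgc]
  rfl

theorem regular_RK [IsAlgClosed K] [Algebra.FiniteType K (K ⊗[A] B)]
    [Algebra.FormallySmooth K (TK A B n K)] (hC : IsCurve K (K ⊗[A] B))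
    (m : Ideal (RK A B n K)) [m.IsMaximal] : IsRegularLocalRing (Localization.AtPrime m) := by
  classical
  haveI := finiteType_TK (A := A) (B := B) (n := n) (K := K)
  haveI := finiteType_RK (A := A) (B := B) (n := n) (K := K)
  letI alg : Algebra (RK A B n K) (TK A B n K) := (incl A B n K).toRingHom.toAlgebra
  haveI : IsScalarTower K (RK A B n K) (TK A B n K) :=
    .of_algebraMap_eq fun a => ((incl A B n K).commutes a).symm
  haveI : Algebra.IsIntegral (RK A B n K) (TK A B n K) := ⟨isIntegral_incl⟩
  haveI : IsNoetherianRing (RK A B n K) := Algebra.FiniteType.isNoetherianRing K _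
  -- a point above `m`
  obtain ⟨z, hzmax, hzm⟩ := Ideal.exists_ideal_over_maximal_of_isIntegral (S := TK A B n K) m (by
    rw [show RingHom.ker (algebraMap (RK A B n K) (TK A B n K)) = ⊥ from
      (RingHom.injective_iff_ker_eq_bot _).1 (incl_injective (A := A) (B := B) (n := n) (K := K))]
    exact bot_le)
  haveI := hzmax
  haveI hzp : z.IsPrime := hzmax.isPrime
  obtain ⟨e, he⟩ := exists_point z hzmax
  obtain ⟨gen, hgen, hm⟩ := exists_gen hC e m (by rw [he]; exact hzm)
  -- in the localisation
  let Rm := Localization.AtPrime m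
  have hmax : maximalIdeal Rm ≤ Ideal.span (Set.range fun i => algebraMap (RK A B n K) Rm (gen i)) := by
    refine Submodule.le_of_le_smul_of_le_jacobson_bot (R := Rm) (M := Rm)
      (IsNoetherian.noetherian (maximalIdeal Rm))
      (IsLocalRing.maximalIdeal_le_jacobson _) ?_
    rw [← Localization.AtPrime.map_eq_maximalIdeal, smul_eq_mul, ← pow_two, ← Ideal.map_pow]
    refine (Ideal.map_mono hm).trans ?_
    rw [Ideal.map_sup, Ideal.map_span, ← Set.range_comp]
    rfl
  refine IsRegularLocalRing.of_spanFinrank_maximalIdeal_le Rm ?_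
  have hgen_le : Ideal.span (Set.range fun i => algebraMap (RK A B n K) Rm (gen i)) ≤ maximalIdeal Rm := by
    rw [Ideal.span_le, ← Localization.AtPrime.map_eq_maximalIdeal]
    rintro _ ⟨i, rfl⟩
    exact Ideal.mem_map_of_mem _ (hgen i)
  have hspan : (maximalIdeal Rm).spanFinrank ≤ n := by
    rw [le_antisymm hmax hgen_le]
    refine (Submodule.spanFinrank_span_le_ncard_of_finite (Set.finite_range _)).trans ?_
    rw [← Set.image_univ]
    exact (Set.ncard_image_le Set.finite_univ).trans (by simp)
  refine le_trans (Nat.cast_le.2 hspan) ?_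
  rw [IsLocalization.AtPrime.ringKrullDim_eq_height m Rm]
  refine (le_dim hC e z he).trans ?_
  rw [IsLocalization.AtPrime.ringKrullDim_eq_height z (Localization.AtPrime z), WithBot.coe_le_coe]
  have hmono : StrictMono (PrimeSpectrum.comap (algebraMap (RK A B n K) (TK A B n K))) := by
    intro a b hab
    exact (Ideal.IsIntegral.comap_lt_comap (R := RK A B n K) (show a.asIdeal < b.asIdeal from hab))
  have hh := Order.height_le_height_apply_of_strictMono _ hmono ⟨z, hzp⟩
  rw [← PrimeSpectrum.height_eq_orderHeight, ← PrimeSpectrum.height_eq_orderHeight] at hh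
  rw [← hzm]
  exact hh

end Groth.Agent.FlatSymLib
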