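import Groth.Agent.FlatSymLib.CurveReg
import Groth.Agent.FlatLocus.DescentPoint
import Mathlib.RingTheory.Smooth.Fiber
import Mathlib.RingTheory.RingHom.StandardSmooth
import Mathlib.RingTheory.RingHom.Smooth

/-!
# Symmetric powers of smooth curve algebras are smooth
-/

set_option autoImplicit false
universe u
open TensorProduct

noncomputable section

namespace Groth.Agent.FlatSymLib

variable {A B : Type u} [CommRing A] [CommRing B] [Algebra A B] {n : ℕ}

/-- Tensor powers of formally smooth algebras are formally smooth. -/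
theorem formallySmooth_T [Algebra.FormallySmooth A B] : Algebra.FormallySmooth A (T A B n) := by
  refine Algebra.FormallySmooth.of_comp_surjective fun Q _ _ I hI f => ?_
  choose g hg using fun i : Fin n => Algebra.FormallySmooth.comp_surjective A B I hI
    (f.comp (PiTensorProduct.singleAlgHom (R := A) (A := fun _ : Fin n => B) i))
  let φ : T A B n →ₐ[A] Q := PiTensorProduct.liftAlgHom
    ((MultilinearMap.mkPiAlgebra A (Fin n) Q).compLinearMap fun i => (g i).toLinearMap)
    (by simp) (fun x y => by simp [Finset.prod_mul_distrib])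
  refine ⟨φ, PiTensorProduct.algHom_ext fun i => ?_⟩
  rw [← hg i, AlgHom.comp_assoc]
  congr 1
  refine AlgHom.ext fun x => ?_
  change PiTensorProduct.lift ((MultilinearMap.mkPiAlgebra A (Fin n) Q).compLinearMap
    fun i => (g i).toLinearMap) (PiTensorProduct.tprod A (Pi.mulSingle i x)) = g i x
  simp only [PiTensorProduct.lift.tprod, MultilinearMap.compLinearMap_apply,
    MultilinearMap.mkPiAlgebra_apply, AlgHom.toLinearMap_apply]
  rw [Finset.prod_eq_single i]
  · simp
  · intro j _ hj
    simp [Pi.mulSingle_eq_of_ne hj]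
  · simp

/-- A point derivation of `B` over `A` with values in a field. -/
def IsDerA {K : Type u} [Field K] [Algebra A K] (φ : B →ₐ[A] K) (d : B →ₗ[A] K) : Prop :=
  ∀ x y, d (x * y) = φ x * d y + φ y * d x

/-- All geometric points have one-dimensional relative tangent spaces. -/
def IsCurveOver (A B : Type u) [CommRing A] [CommRing B] [Algebra A B] : Prop :=
  ∀ (K : Type u) [Field K] [Algebra A K] (φ : B →ₐ[A] K),
    ∃ d : B →ₗ[A] K, IsDerA φ d ∧ d ≠ 0 ∧ ∀ d', IsDerA φ d' → ∃ a : K, d' = a • d

theorem IsDerA.map_algebraMap {K : Type u} [Field K] [Algebra A K] {φ : B →ₐ[A] K} {d : B →ₗ[A] K}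
    (hd : IsDerA φ d) (a : A) : d (algebraMap A B a) = 0 := by
  have h1 : d 1 = 0 := by
    have := hd 1 1
    simp only [mul_one, map_one, one_mul] at this
    linear_combination -this
  rw [Algebra.algebraMap_eq_smul_one, map_smul, h1, smul_zero]

/-- The homomorphism to dual numbers of a derivation. -/
def dualHom {K : Type u} [Field K] [Algebra A K] (φ : B →ₐ[A] K) (d : B →ₗ[A] K) (hd : IsDerA φ d) :
    B →ₐ[A] TrivSqZeroExt K K :=
  AlgHom.ofLinearMap
    ((TrivSqZeroExt.inlAlgHom A K K).toLinearMap ∘ₗ φ.toLinearMap +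
      (TrivSqZeroExt.inrHom K K).restrictScalars A ∘ₗ d)
    (by
      have h1 : d 1 = 0 := by simpa using hd.map_algebraMap (1 : A)
      simp [h1])
    (fun x y => by
      ext <;> simp [hd x y]
      ring)

theorem fst_dualHom {K : Type u} [Field K] [Algebra A K] (φ : B →ₐ[A] K) (d : B →ₗ[A] K)
    (hd : IsDerA φ d) (x : B) : (dualHom φ d hd x).fst = φ x := by simp [dualHom]

theorem snd_dualHom {K : Type u} [Field K] [Algebra A K] (φ : B →ₐ[A] K) (d : B →ₗ[A] K)
    (hd : IsDerA φ d) (x : B) : (dualHom φ d hd x).snd = d x := by simp [dualHom]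

theorem ker_fst_sq (K : Type u) [Field K] : (RingHom.ker (TrivSqZeroExt.fstHom K K K)) ^ 2 = ⊥ := by
  rw [eq_bot_iff, pow_two, Ideal.mul_le]
  intro a ha b hb
  rw [RingHom.mem_ker] at ha hb
  change a.fst = 0 at ha
  change b.fst = 0 at hb
  rw [Ideal.mem_bot]
  ext <;> simp [ha, hb]

/-- Étale algebras over the affine line are curves. -/
theorem isCurveOver_of_etale (h : MvPolynomial (Fin 1) A →ₐ[A] B) (hh : h.toRingHom.Etale) :
    IsCurveOver A B := by
  intro K _ _ φ
  letI := h.toRingHom.toAlgebra
  haveI : IsScalarTower A (MvPolynomial (Fin 1) A) B := .of_algebraMap_eq fun a => (h.commutes a).symm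
  haveI : Algebra.Etale (MvPolynomial (Fin 1) A) B := hh
  -- homomorphisms to dual numbers over `φ` are determined by the value at the variable
  have huniq : ∀ f g : B →ₐ[A] TrivSqZeroExt K K, (∀ x, (f x).fst = (g x).fst) →
      f (h (MvPolynomial.X 0)) = g (h (MvPolynomial.X 0)) → f = g := by
    intro f g hfg hX
    have hc : f.comp h = g.comp h := MvPolynomial.algHom_ext fun i => by
      rw [Subsingleton.elim i 0]; exact hX
    letI : Algebra (MvPolynomial (Fin 1) A) (TrivSqZeroExt K K) := (f.comp h).toRingHom.toAlgebra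
    let f' : B →ₐ[MvPolynomial (Fin 1) A] TrivSqZeroExt K K :=
      { f.toRingHom with commutes' := fun p => rfl }
    let g' : B →ₐ[MvPolynomial (Fin 1) A] TrivSqZeroExt K K :=
      { g.toRingHom with commutes' := fun p => (DFunLike.congr_fun hc p).symm }
    have hI := ker_fst_sq K
    have := Algebra.FormallyUnramified.comp_injective (RingHom.ker (TrivSqZeroExt.fstHom K K K))
      hI (a₁ := f') (a₂ := g') (AlgHom.ext fun x => by
        refine Ideal.Quotient.eq.2 ?_
        rw [RingHom.mem_ker, map_sub, sub_eq_zero]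
        exact hfg x)
    exact AlgHom.ext fun x => DFunLike.congr_fun this x
  let a := φ (h (MvPolynomial.X 0))
  let ψ : MvPolynomial (Fin 1) A →ₐ[A] TrivSqZeroExt K K :=
    MvPolynomial.aeval fun _ => TrivSqZeroExt.inl a + TrivSqZeroExt.inr 1
  obtain ⟨f, hf, hfX⟩ : ∃ f : B →ₐ[A] TrivSqZeroExt K K,
      (∀ x, (f x).fst = φ x) ∧ f (h (MvPolynomial.X 0)) = TrivSqZeroExt.inl a + TrivSqZeroExt.inr 1 := by
    letI : Algebra (MvPolynomial (Fin 1) A) (TrivSqZeroExt K K) := ψ.toRingHom.toAlgebra
    haveI : IsScalarTower A (MvPolynomial (Fin 1) A) (TrivSqZeroExt K K) :=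
      .of_algebraMap_eq fun c => (ψ.commutes c).symm
    letI : Algebra (MvPolynomial (Fin 1) A) K := (φ.comp h).toRingHom.toAlgebra
    have hfs : ((TrivSqZeroExt.fstHom K K K).restrictScalars A).comp ψ = φ.comp h :=
      MvPolynomial.algHom_ext fun i => by rw [Subsingleton.elim i 0]; simp [ψ, a]
    let fstP : TrivSqZeroExt K K →ₐ[MvPolynomial (Fin 1) A] K :=
      { (TrivSqZeroExt.fstHom K K K).toRingHom with
        commutes' := fun p => DFunLike.congr_fun hfs p }
    let φP : B →ₐ[MvPolynomial (Fin 1) A] K := { φ.toRingHom with commutes' := fun p => rfl }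
    have hsurj : Function.Surjective fstP := fun c => ⟨TrivSqZeroExt.inl c, TrivSqZeroExt.fst_inl K c⟩
    have hnil : IsNilpotent (RingHom.ker (fstP : TrivSqZeroExt K K →+* K)) := ⟨2, ker_fst_sq K⟩
    let f := Algebra.FormallySmooth.liftOfSurjective φP fstP hsurj hnil
    refine ⟨f.restrictScalars A, fun x => ?_, ?_⟩
    · exact Algebra.FormallySmooth.liftOfSurjective_apply φP fstP hsurj hnil x
    · show f (algebraMap (MvPolynomial (Fin 1) A) B (MvPolynomial.X 0)) = _
      rw [f.commutes]
      exact MvPolynomial.aeval_X _ _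
  let d : B →ₗ[A] K := ((TrivSqZeroExt.sndHom K K).restrictScalars A).comp f.toLinearMap
  have hd : IsDerA φ d := fun x y => by
    show (f (x * y)).snd = _
    simp [d, hf]
    ring
  refine ⟨d, hd, fun h0 => ?_, fun d' hd' => ⟨d' (h (MvPolynomial.X 0)), ?_⟩⟩
  · have : d (h (MvPolynomial.X 0)) = 1 := by simp [d, hfX]
    rw [h0, LinearMap.zero_apply] at this
    exact zero_ne_one this
  · have hd'' : IsDerA φ (d' (h (MvPolynomial.X 0)) • d) := fun x y => by
      simp only [LinearMap.smul_apply, smul_eq_mul, hd x y]; ring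
    have := huniq (dualHom φ d' hd') (dualHom φ _ hd'') (fun x => by rw [fst_dualHom, fst_dualHom]) (by
      ext
      · rw [fst_dualHom, fst_dualHom]
      · rw [snd_dualHom, snd_dualHom]
        simp [d, hfX])
    refine LinearMap.ext fun x => ?_
    rw [← snd_dualHom φ d' hd' x, this, snd_dualHom]

/-- The curve condition is local. -/
theorem isCurveOver_of_span (s : Set B) (hs : Ideal.span s = ⊤)
    (h : ∀ r ∈ s, IsCurveOver A (Localization.Away r)) : IsCurveOver A B := by
  intro K _ _ φ
  obtain ⟨r, hr, hφr⟩ : ∃ r ∈ s, φ r ≠ 0 := by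
    by_contra hne
    push Not at hne
    have : (1 : B) ∈ RingHom.ker φ := by
      have : Ideal.span s ≤ RingHom.ker φ := Ideal.span_le.2 fun r hr => hne r hr
      exact this (hs ▸ Submodule.mem_top)
    simp [RingHom.mem_ker] at this
  have hu : ∀ y : Submonoid.powers r, IsUnit (φ y) := by
    rintro ⟨_, k, rfl⟩
    rw [map_pow]
    exact hφr.isUnit.pow k
  let φ' : Localization.Away r →ₐ[A] K := IsLocalization.liftAlgHom (f := φ) hu
  have hφ' : ∀ x, φ' (algebraMap B _ x) = φ x := fun x => IsLocalization.lift_eq _ _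
  obtain ⟨d', hd', hd'0, huniq⟩ := h r hr K φ'
  let d : B →ₗ[A] K := d'.comp (IsScalarTower.toAlgHom A B (Localization.Away r)).toLinearMap
  have hd : IsDerA φ d := fun x y => by
    show d' (algebraMap B _ (x * y)) = _
    rw [map_mul, hd', hφ', hφ']
    rfl
  have hdet : ∀ e : Localization.Away r →ₗ[A] K, IsDerA φ' e →
      (∀ x, e (algebraMap B _ x) = 0) → e = 0 := by
    intro e he h0
    refine LinearMap.ext fun x => ?_
    obtain ⟨⟨a, y⟩, hay⟩ := IsLocalization.surj (Submonoid.powers r) x
    have := congrArg e hay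
    rw [he, h0, h0, hφ', mul_zero, zero_add] at this
    exact (mul_eq_zero.1 this).resolve_left (hu y).ne_zero
  refine ⟨d, hd, fun h0 => hd'0 (hdet d' hd' fun x => LinearMap.congr_fun h0 x), fun e he => ?_⟩
  have hu' : ∀ y : Submonoid.powers r, IsUnit (dualHom φ e he y) := fun y => by
    rw [TrivSqZeroExt.isUnit_iff_isUnit_fst, fst_dualHom]
    exact hu y
  let g : Localization.Away r →ₐ[A] TrivSqZeroExt K K := IsLocalization.liftAlgHom (f := dualHom φ e he) hu'
  have hg : ∀ x, g (algebraMap B _ x) = dualHom φ e he x := fun x => IsLocalization.lift_eq _ _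
  have hgfst : ∀ x, (g x).fst = φ' x := by
    have : ((TrivSqZeroExt.fstHom K K K).restrictScalars A).comp g = φ' :=
      AlgHom.coe_ringHom_injective (IsLocalization.ringHom_ext (Submonoid.powers r) (RingHom.ext fun x => by
        simp [hg, hφ', fst_dualHom]))
    exact fun x => DFunLike.congr_fun this x
  obtain ⟨a, ha⟩ := huniq (((TrivSqZeroExt.sndHom K K).restrictScalars A).comp g.toLinearMap) fun x y => by
    show (g (x * y)).snd = _
    simp [hgfst]
    ring
  refine ⟨a, LinearMap.ext fun x => ?_⟩
  have := LinearMap.congr_fun ha (algebraMap B _ x)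
  simpa [hg, snd_dualHom, d] using this

theorem isCurve_of_isCurveOver {K : Type u} [Field K] [Algebra A K] (h : IsCurveOver A B) :
    IsCurve K (K ⊗[A] B) := by
  intro φ
  let φB : B →ₐ[A] K := (φ.restrictScalars A).comp Algebra.TensorProduct.includeRight
  obtain ⟨d, hd, hd0, huniq⟩ := h K φB
  let D : K ⊗[A] B →ₐ[K] TrivSqZeroExt K K :=
    Algebra.TensorProduct.lift (Algebra.ofId K _) (dualHom φB d hd) fun _ _ => .all _ _
  have hDfst : ∀ c, (D c).fst = φ c := by
    have : (TrivSqZeroExt.fstHom K K K).comp D = φ :=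
      (Algebra.TensorProduct.liftEquivRight (R := A) (S := K) (B := B) K).symm.injective
        (AlgHom.ext fun x => by simp [D, fst_dualHom, φB])
    exact fun c => DFunLike.congr_fun this c
  let dC : K ⊗[A] B →ₗ[K] K := (TrivSqZeroExt.sndHom K K).comp D.toLinearMap
  refine ⟨dC, fun x y => ?_, fun h0 => hd0 (LinearMap.ext fun x => ?_), fun d' hd' => ?_⟩
  · show (D (x * y)).snd = _
    simp [dC, hDfst]
    ring
  · simpa [dC, D, snd_dualHom] using LinearMap.congr_fun h0 (1 ⊗ₜ x)
  · let dB : B →ₗ[A] K :=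
      (d'.restrictScalars A).comp (Algebra.TensorProduct.includeRight : B →ₐ[A] K ⊗[A] B).toLinearMap
    obtain ⟨a, ha⟩ := huniq dB fun x y => by
      show d' (1 ⊗ₜ (x * y)) = _
      rw [← one_mul (1 : K), ← Algebra.TensorProduct.tmul_mul_tmul, hd']
      simp [dB, φB]
    refine ⟨a, LinearMap.ext fun c => ?_⟩
    induction c using TensorProduct.induction_on with
    | zero => simp
    | add x y hx hy => simp only [map_add, hx, hy]
    | tmul k b =>
      have h1 : d' (1 ⊗ₜ b) = a * d b := by simpa [dB] using LinearMap.congr_fun ha b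
      have h2 : dC (1 ⊗ₜ b) = d b := by simp [dC, D, snd_dualHom]
      have h3 : k ⊗ₜ[A] b = k • ((1 : K) ⊗ₜ[A] b) := by simp [smul_tmul']
      rw [h3, map_smul, map_smul, LinearMap.smul_apply, h1, h2, smul_eq_mul, smul_eq_mul, smul_eq_mul]

/-- Smoothness over a field can be checked after extending the field. -/
theorem formallySmooth_of_algClosure (k K F : Type u) [Field k] [Field K] [Algebra k K] [CommRing F]
    [Algebra k F] [Algebra.FinitePresentation k F] [Algebra.FormallySmooth K (K ⊗[k] F)] :
    Algebra.FormallySmooth k F := by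
  haveI : Algebra.FinitePresentation K (K ⊗[k] F) := inferInstance
  rw [← Algebra.smoothLocus_eq_univ_iff]
  refine Set.eq_univ_of_forall fun q => ?_
  letI : Algebra F (K ⊗[k] F) := Algebra.TensorProduct.rightAlgebra
  haveI : Module.FaithfullyFlat F (K ⊗[k] F) := Module.FaithfullyFlat.of_linearEquiv F (F ⊗[k] K)
    ({ __ := Algebra.TensorProduct.comm k K F
       map_smul' := fun b x => by
         simp [Algebra.smul_def, RingHom.algebraMap_toAlgebra,
           Algebra.TensorProduct.algebraMap_apply] } : K ⊗[k] F ≃ₗ[F] F ⊗[k] K)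
  obtain ⟨q2, rfl⟩ := PrimeSpectrum.comap_surjective_of_faithfullyFlat (A := F) (B := K ⊗[k] F) q
  exact FlatLocus.isSmoothAt_of_baseChange K q2 (by
    rw [Algebra.smoothLocus_eq_univ_iff.mpr inferInstance]; trivial)

/-- The symmetric tensors of a smooth curve algebra form a smooth algebra. -/
theorem smooth_TS [IsNoetherianRing A] [Algebra.Smooth A B] (hB : IsCurveOver A B)
    [Algebra.FiniteType A (SymTen.TS A B n)] : Algebra.Smooth A (SymTen.TS A B n) := by
  haveI : Module.Flat A (SymTen.TS A B n) := flat_TS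
  haveI : Algebra.FinitePresentation A (SymTen.TS A B n) :=
    Algebra.FinitePresentation.of_finiteType.1 inferInstance
  haveI : Algebra.FormallySmooth A (T A B n) := formallySmooth_T
  refine Algebra.Smooth.of_formallySmooth_fiber fun p _ => ?_
  let κ := p.ResidueField
  let K := AlgebraicClosure κ
  let F := κ ⊗[A] SymTen.TS A B n
  let e : K ⊗[κ] F ≃ₐ[K] RK A B n K :=
    Algebra.TensorProduct.cancelBaseChange A κ K K (SymTen.TS A B n)
  haveI : Algebra.FiniteType K (RK A B n K) := finiteType_RK
  haveI : Algebra.FormallySmooth K (RK A B n K) :=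
    CotTLib.formallySmooth_of_regular fun m _ => regular_RK (isCurve_of_isCurveOver hB) m
  haveI : Algebra.FormallySmooth K (K ⊗[κ] F) := Algebra.FormallySmooth.of_equiv e.symm
  haveI : Algebra.FinitePresentation κ F := inferInstance
  haveI : Algebra.FinitePresentation K (K ⊗[κ] F) := inferInstance
  exact formallySmooth_of_algClosure κ K F

end Groth.Agent.FlatSymLib
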