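import Groth.Agent.FlatSymLib.CurveSmooth
import Groth.Agent.SymPolyLib.Esymm
import Groth.Agent.RegLocal.Basic
import Groth.Agent.FlatLocus.FibProj
import Groth.Agent.FlatGenStable.Reduced
import Groth.Agent.NeronEtLib.Alg

/-!
# The map to the symmetric power of a smooth curve algebra is finite flat of degree `n!`

Over a rational point of the symmetric power the fibre of `T → TS` is, through a coordinate at the
finitely many points involved, the splitting algebra of a polynomial of degree `n`.
-/

set_option autoImplicit false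
set_option backward.isDefEq.respectTransparency false
set_option backward.isDefEq.respectTransparency.types false
set_option linter.style.haveILetI false

universe u
open TensorProduct IsLocalRing

noncomputable section

namespace Groth.Agent.FlatSymLib

/-! ### Coordinates give truncated polynomial rings -/

section Coord

open Polynomial

variable {K : Type u} [Field K] {C : Type u} [CommRing C] [Algebra K C]

/-- The powers of a coordinate at a point are independent. -/
theorem pow_dvd_of_aeval_mem [IsNoetherianRing C] (h : IsCurve K C) (φ : C →ₐ[K] K)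
    [(ptIdeal φ).IsPrime] [IsDomain (Localization.AtPrime (ptIdeal φ))] (t : C)
    (hco : ∀ x ∈ ptIdeal φ, ∃ a : K, x - a • (t - algebraMap K C (φ t)) ∈ ptIdeal φ ^ 2)
    (g : K[X]) (N : ℕ) (hg : Polynomial.aeval t g ∈ ptIdeal φ ^ N) :
    (Polynomial.X - Polynomial.C (φ t)) ^ N ∣ g := by
  set a := φ t
  set w := t - algebraMap K C a with hw
  let L := Localization.AtPrime (ptIdeal φ)
  set π : L := algebraMap C L w
  have hwm : w ∈ ptIdeal φ := sub_mem_ptIdeal φ t
  have hπm : π ∈ maximalIdeal L := by
    rw [← Localization.AtPrime.map_eq_maximalIdeal]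
    exact Ideal.mem_map_of_mem _ hwm
  have hmax : maximalIdeal L ≤ Ideal.span {π} := by
    refine Submodule.le_of_le_smul_of_le_jacobson_bot (R := L) (M := L)
      (IsNoetherian.noetherian (maximalIdeal L)) (IsLocalRing.maximalIdeal_le_jacobson _) ?_
    have hm : ptIdeal φ ≤ Ideal.span {w} ⊔ ptIdeal φ ^ 2 := fun x hx => by
      obtain ⟨b, hb⟩ := hco x hx
      exact Submodule.mem_sup.2 ⟨b • w, by
        rw [Algebra.smul_def]; exact Ideal.mul_mem_left _ _ (Ideal.mem_span_singleton_self _),
        _, hb, by abel⟩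
    rw [← Localization.AtPrime.map_eq_maximalIdeal, smul_eq_mul, ← pow_two, ← Ideal.map_pow]
    refine (Ideal.map_mono hm).trans ?_
    rw [Ideal.map_sup, Ideal.map_span, Set.image_singleton]
  have hπ0 : π ≠ 0 := by
    intro h0
    obtain ⟨s, hs⟩ := (IsLocalization.map_eq_zero_iff (ptIdeal φ).primeCompl L w).1 h0
    obtain ⟨d, hd, hd0, -⟩ := h φ
    have hs0 : φ s.1 ≠ 0 := fun he => s.2 he
    have hdw : d w = 0 := by
      have := hd s.1 w
      rw [hs, map_zero, RingHom.mem_ker.1 hwm, zero_mul, add_zero] at this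
      exact (mul_eq_zero.1 this.symm).resolve_left hs0
    refine hd0 (LinearMap.ext fun x => ?_)
    obtain ⟨b, hb⟩ := hco _ (sub_mem_ptIdeal φ x)
    have := hd.map_sq hb
    rw [map_sub, map_sub, hd.map_algebraMap, map_smul, hdw, smul_zero, sub_zero, sub_zero] at this
    simpa using this
  suffices hj : ∀ j ≤ N, (Polynomial.X - Polynomial.C a) ^ j ∣ g from hj N le_rfl
  intro j
  induction j with
  | zero => simp
  | succ j ih =>
    intro hjN
    obtain ⟨g₁, rfl⟩ := ih (Nat.le_of_succ_le hjN)
    by_cases hroot : g₁.IsRoot a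
    · rw [pow_succ]
      exact mul_dvd_mul_left _ (Polynomial.dvd_iff_isRoot.2 hroot)
    · exfalso
      have hu : IsUnit (algebraMap C L (Polynomial.aeval t g₁)) :=
        IsLocalization.map_units L (⟨Polynomial.aeval t g₁, fun hmem => hroot (by
          have := RingHom.mem_ker.1 hmem
          rwa [← Polynomial.aeval_algHom_apply, Polynomial.coe_aeval_eq_eval] at this)⟩ :
            (ptIdeal φ).primeCompl)
      have hmem : π ^ j * algebraMap C L (Polynomial.aeval t g₁) ∈ maximalIdeal L ^ (j + 1) := by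
        refine Ideal.pow_le_pow_right hjN ?_
        rw [← Localization.AtPrime.map_eq_maximalIdeal, ← Ideal.map_pow, ← map_pow, ← map_mul]
        refine Ideal.mem_map_of_mem _ ?_
        simpa [hw] using hg
      have := Ideal.pow_right_mono hmax (j + 1) hmem
      rw [Ideal.span_singleton_pow, Ideal.mem_span_singleton'] at this
      obtain ⟨v, hv⟩ := this
      rw [pow_succ, ← mul_assoc, mul_comm v, mul_assoc] at hv
      have he := mul_left_cancel₀ (pow_ne_zero j hπ0) hv
      rw [← he] at hu
      exact (IsLocalRing.mem_maximalIdeal π).1 hπm (isUnit_of_mul_isUnit_right hu)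

/-- The polynomial whose roots are the values of `t` at the points of `P`, with multiplicity `N`. -/
def ptPoly (P : Finset (C →ₐ[K] K)) (t : C) (N : ℕ) : K[X] :=
  ∏ φ ∈ P, (Polynomial.X - Polynomial.C (φ t)) ^ N

/-- A separating coordinate identifies the truncations of a curve at finitely many points with
truncated polynomial rings. -/
theorem exists_coord_hom [IsNoetherianRing C] (h : IsCurve K C)
    (hdom : ∀ (φ : C →ₐ[K] K) [(ptIdeal φ).IsPrime], IsDomain (Localization.AtPrime (ptIdeal φ)))
    (P : Finset (C →ₐ[K] K)) (t : C) (hinj : Set.InjOn (fun φ : C →ₐ[K] K => φ t) P)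
    (hco : ∀ φ ∈ P, ∀ x ∈ ptIdeal φ, ∃ a : K, x - a • (t - algebraMap K C (φ t)) ∈ ptIdeal φ ^ 2)
    (N : ℕ) :
    ∃ θ : C →ₐ[K] K[X] ⧸ Ideal.span {ptPoly P t N}, θ t = Ideal.Quotient.mk _ Polynomial.X ∧
      ∀ c, ∃ q : K[X], θ c = Ideal.Quotient.mk _ q ∧ c - Polynomial.aeval t q ∈ setIdeal P ^ N := by
  classical
  let f := ptPoly P t N
  let J : Ideal C := setIdeal P ^ N
  have hf : Polynomial.aeval t f ∈ J := by
    refine mem_setIdeal_pow fun φ hφ => ?_
    simp only [f, ptPoly]
    rw [← Finset.mul_prod_erase _ _ hφ, map_mul, map_pow]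
    refine Ideal.mul_mem_right _ _ (Ideal.pow_mem_pow ?_ N)
    simp [RingHom.mem_ker]
  let Φ : K[X] ⧸ Ideal.span {f} →ₐ[K] C ⧸ J :=
    Ideal.Quotient.liftₐ _ ((Ideal.Quotient.mkₐ K J).comp (Polynomial.aeval t)) (by
      intro x hx
      obtain ⟨y, rfl⟩ := Ideal.mem_span_singleton'.1 hx
      exact Ideal.Quotient.eq_zero_iff_mem.2 (by rw [map_mul]; exact Ideal.mul_mem_left _ _ hf))
  have hΦ : ∀ q, Φ (Ideal.Quotient.mk _ q) = Ideal.Quotient.mk J (Polynomial.aeval t q) := fun q => rfl
  have hbij : Function.Bijective Φ := by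
    refine ⟨(injective_iff_map_eq_zero Φ).2 fun x hx => ?_, fun y => ?_⟩
    · obtain ⟨g, rfl⟩ := Ideal.Quotient.mk_surjective x
      rw [hΦ, Ideal.Quotient.eq_zero_iff_mem] at hx
      rw [Ideal.Quotient.eq_zero_iff_mem, Ideal.mem_span_singleton]
      refine Finset.prod_dvd_of_coprime (fun φ hφ ψ hψ hne => ?_) fun φ hφ => ?_
      · exact (Polynomial.isCoprime_X_sub_C_of_isUnit_sub
          (sub_ne_zero.2 fun e => hne (hinj hφ hψ e)).isUnit).pow
      · haveI := (ptIdeal_isMaximal φ).isPrime
        haveI := hdom φ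
        exact pow_dvd_of_aeval_mem h φ t (hco φ hφ) g N (Ideal.pow_right_mono (setIdeal_le hφ) N hx)
    · obtain ⟨c, rfl⟩ := Ideal.Quotient.mk_surjective y
      obtain ⟨q, hq⟩ := exists_poly_approx P t hinj hco c N
      exact ⟨Ideal.Quotient.mk _ q, (hΦ q).trans (Ideal.Quotient.eq.2 (by
        rw [← neg_sub]; exact neg_mem (mem_setIdeal_pow hq))).symm.symm⟩
  let Φe := AlgEquiv.ofBijective Φ hbij
  have hkey : ∀ c q, c - Polynomial.aeval t q ∈ J →
      Φe.symm (Ideal.Quotient.mkₐ K J c) = Ideal.Quotient.mk _ q := by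
    intro c q hcq
    rw [AlgEquiv.symm_apply_eq]
    exact (Ideal.Quotient.eq.2 hcq).trans (hΦ q).symm
  refine ⟨Φe.symm.toAlgHom.comp (Ideal.Quotient.mkₐ K J), hkey t _ (by simp), fun c => ?_⟩
  obtain ⟨q, hq⟩ := exists_poly_approx P t hinj hco c N
  exact ⟨q, hkey c q (mem_setIdeal_pow hq), mem_setIdeal_pow hq⟩

end Coord

/-! ### The fibre algebra -/

section Fibre

variable {K : Type u} [Field K] {n : ℕ}

/-- The equations prescribing the elementary symmetric functions of `a`. -/
def fibIdeal (a : Fin n → K) : Ideal (MvPolynomial (Fin n) K) :=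
  Ideal.span (Set.range fun i : Fin n => MvPolynomial.esymm (Fin n) K ((i : ℕ) + 1) -
    MvPolynomial.C (MvPolynomial.aeval a (MvPolynomial.esymm (Fin n) K ((i : ℕ) + 1))))

theorem finrank_fibQuot (a : Fin n → K) :
    Module.Finite K (MvPolynomial (Fin n) K ⧸ fibIdeal a) ∧
      Module.finrank K (MvPolynomial (Fin n) K ⧸ fibIdeal a) = n.factorial := by
  obtain ⟨b⟩ := SymPolyLib.exists_basis_esymm n
    (fun i : Fin n => MvPolynomial.aeval a (MvPolynomial.esymm (Fin n) K ((i : ℕ) + 1)))
  exact ⟨Module.Finite.of_basis b, (Module.finrank_eq_card_basis b).trans (Fintype.card_fin _)⟩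

/-- A symmetric polynomial is constant on the fibre. -/
theorem mk_symm_eq (a : Fin n → K) {F : MvPolynomial (Fin n) K} (hF : F.IsSymmetric) :
    Ideal.Quotient.mk (fibIdeal a) F =
      algebraMap K _ (MvPolynomial.aeval a F) := by
  obtain ⟨g, hg⟩ := MvPolynomial.esymmAlgHom_surjective (R := K) (σ := Fin n) (n := n)
    (by simp) ⟨F, (MvPolynomial.mem_symmetricSubalgebra F).2 hF⟩
  have hg' : F = MvPolynomial.aeval (fun i : Fin n => MvPolynomial.esymm (Fin n) K (i + 1)) g := by
    rw [← MvPolynomial.esymmAlgHom_apply (σ := Fin n), hg]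
  subst hg'
  let c : Fin n → K := fun i => MvPolynomial.aeval a (MvPolynomial.esymm (Fin n) K (i + 1))
  have h1 : ∀ g, MvPolynomial.aeval a (MvPolynomial.aeval (fun i : Fin n => MvPolynomial.esymm (Fin n) K (i + 1)) g) =
      MvPolynomial.aeval c g := fun g => by
    rw [← AlgHom.comp_apply, MvPolynomial.comp_aeval]
  rw [h1]
  have h2 : (Ideal.Quotient.mkₐ K (fibIdeal a)).comp
      (MvPolynomial.aeval fun i : Fin n => MvPolynomial.esymm (Fin n) K (i + 1)) =
      (Algebra.ofId K _).comp (MvPolynomial.aeval c) := by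
    refine MvPolynomial.algHom_ext fun i => ?_
    simp only [AlgHom.comp_apply, MvPolynomial.aeval_X]
    exact Ideal.Quotient.eq.2 (Ideal.subset_span ⟨i, rfl⟩)
  exact DFunLike.congr_fun h2 g

/-- Every coordinate is a root of the polynomial with roots `a`. -/
theorem mk_root (a : Fin n → K) (i : Fin n) :
    Polynomial.aeval (Ideal.Quotient.mk (fibIdeal a) (MvPolynomial.X i))
      (∏ j : Fin n, (Polynomial.X - Polynomial.C (a j))) = 0 := by
  let c : Fin n → K := fun i => MvPolynomial.aeval a (MvPolynomial.esymm (Fin n) K (i + 1))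
  have hd := SymPolyLib.deg_polyOf c
  have hI : SymPolyLib.splitIdeal n (SymPolyLib.polyOf c) = fibIdeal a := SymPolyLib.splitIdeal_polyOf c
  have h1 := (SymPolyLib.le_ker_iff hd (MvPolynomial.aeval a).toRingHom).1 (by
    rw [hI, fibIdeal, Ideal.span_le]
    rintro _ ⟨k, rfl⟩
    rw [SetLike.mem_coe, RingHom.mem_ker]
    simp)
  have h2 := (SymPolyLib.le_ker_iff hd (Ideal.Quotient.mk (fibIdeal a))).1
    (by rw [hI, Ideal.mk_ker])
  have hc1 : (MvPolynomial.aeval a).toRingHom.comp MvPolynomial.C = RingHom.id K :=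
    RingHom.ext fun x => by simp
  rw [hc1, Polynomial.map_id] at h1
  simp only [AlgHom.toRingHom_eq_coe, RingHom.coe_coe, MvPolynomial.aeval_X] at h1
  rw [Polynomial.aeval_def, ← Polynomial.eval_map, h1]
  change ((SymPolyLib.polyOf c).map ((Ideal.Quotient.mk (fibIdeal a)).comp MvPolynomial.C)).eval _ = 0
  rw [← h2, Polynomial.eval_prod]
  exact Finset.prod_eq_zero (Finset.mem_univ i) (by simp)

end Fibre

/-! ### The fibre over a rational point -/

section Point

variable {A B : Type u} [CommRing A] [CommRing B] [Algebra A B] {n : ℕ}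
  {K : Type u} [Field K] [Algebra A K]

/-- The factors generate. -/
theorem mem_of_sng (G : Subalgebra K (TK A B n K)) (h : ∀ i c, sng A B n K i c ∈ G) (x : TK A B n K) :
    x ∈ G := by
  induction x using TensorProduct.induction_on with
  | zero => exact zero_mem _
  | add x y hx hy => exact add_mem hx hy
  | tmul a t =>
    induction t using PiTensorProduct.induction_on with
    | smul_tprod r f =>
      have e : a ⊗ₜ[A] (r • PiTensorProduct.tprod A f) =
          algebraMap K (TK A B n K) (r • a) * ∏ i, sng A B n K i (1 ⊗ₜ f i) := by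
        have h1 : PiTensorProduct.tprod A f =
            ∏ i, PiTensorProduct.singleAlgHom (R := A) (A := fun _ : Fin n => B) i (f i) := by
          have := map_prod (PiTensorProduct.tprodMonoidHom A (A := fun _ : Fin n => B))
            (fun i => Pi.mulSingle i (f i)) Finset.univ
          rw [Finset.univ_prod_mulSingle] at this
          exact this
        have h2 : ∏ i, sng A B n K i (1 ⊗ₜ f i) = (1 : K) ⊗ₜ[A] PiTensorProduct.tprod A f := by
          rw [h1]
          have := map_prod (Algebra.TensorProduct.includeRight : T A B n →ₐ[A] TK A B n K)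
            (fun i => PiTensorProduct.singleAlgHom (R := A) (A := fun _ : Fin n => B) i (f i))
            Finset.univ
          simp only [sng, Algebra.TensorProduct.map_tmul, AlgHom.id_apply]
          exact this.symm
        rw [h2, Algebra.TensorProduct.algebraMap_apply, Algebra.TensorProduct.tmul_mul_tmul,
          Algebra.algebraMap_self_apply, mul_one, one_mul, smul_tmul]
      rw [e]
      exact mul_mem (G.algebraMap_mem _) (prod_mem fun i _ => h i _)
    | add x y hx hy => rw [tmul_add]; exact add_mem hx hy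

variable [Module.Flat A B]

/-- The fibre of the fibre power over a rational point of the symmetric power has dimension `n!`. -/
theorem finrank_quot_point [IsAlgClosed K] [Algebra.FiniteType K (K ⊗[A] B)]
    (hC : IsCurve K (K ⊗[A] B))
    (hdom : ∀ (φ : K ⊗[A] B →ₐ[K] K) [(ptIdeal φ).IsPrime],
      IsDomain (Localization.AtPrime (ptIdeal φ)))
    (χ : RK A B n K →ₐ[K] K) :
    Module.finrank K (TK A B n K ⧸ (RingHom.ker χ).map (incl A B n K).toRingHom) = n.factorial := by
  classical
  haveI := finiteType_TK (A := A) (B := B) (n := n) (K := K)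
  haveI : IsNoetherianRing (TK A B n K) := Algebra.FiniteType.isNoetherianRing K _
  haveI : IsNoetherianRing (K ⊗[A] B) := Algebra.FiniteType.isNoetherianRing K _
  let m := RingHom.ker χ
  haveI hmmax : m.IsMaximal :=
    RingHom.ker_isMaximal_of_surjective χ fun a => ⟨algebraMap K _ a, χ.commutes a⟩
  letI alg : Algebra (RK A B n K) (TK A B n K) := (incl A B n K).toRingHom.toAlgebra
  haveI : Algebra.IsIntegral (RK A B n K) (TK A B n K) := ⟨isIntegral_incl⟩
  obtain ⟨z, hzmax, hzm⟩ := Ideal.exists_ideal_over_maximal_of_isIntegral (S := TK A B n K) m (by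
    rw [show RingHom.ker (algebraMap (RK A B n K) (TK A B n K)) = ⊥ from
      (RingHom.injective_iff_ker_eq_bot _).1 (incl_injective (A := A) (B := B) (n := n) (K := K))]
    exact bot_le)
  obtain ⟨e, he⟩ := exists_point z hzmax
  have hem : (RingHom.ker e).comap (incl A B n K).toRingHom = m := by rw [he]; exact hzm
  have heχ : ∀ r, e (incl A B n K r) = χ r := by
    intro r
    have h1 : r - algebraMap K _ (χ r) ∈ m := by
      show χ (r - algebraMap K _ (χ r)) = 0
      rw [map_sub, AlgHom.commutes, Algebra.algebraMap_self_apply, sub_self]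
    rw [← hem, Ideal.mem_comap, RingHom.mem_ker] at h1
    change e (incl A B n K (r - algebraMap K _ (χ r))) = 0 at h1
    rw [map_sub, map_sub, AlgHom.commutes, AlgHom.commutes, sub_eq_zero] at h1
    exact h1
  let φ : Fin n → (K ⊗[A] B →ₐ[K] K) := fun i => e.comp (sng A B n K i)
  let P : Finset (K ⊗[A] B →ₐ[K] K) := Finset.univ.image φ
  have hφP : ∀ i, φ i ∈ P := fun i => Finset.mem_image_of_mem φ (Finset.mem_univ i)
  obtain ⟨t, htinj, htco⟩ := exists_coord hC P
  let a : Fin n → K := fun i => φ i t
  let I : Ideal (TK A B n K) := m.map (incl A B n K).toRingHom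
  letI : CommRing (TK A B n K ⧸ I) := Ideal.Quotient.commRing I
  let mkD : TK A B n K →ₐ[K] TK A B n K ⧸ I := Ideal.Quotient.mkₐ K I
  obtain ⟨hQfin, hQrank⟩ := finrank_fibQuot a
  -- the coordinates span
  let ev : MvPolynomial (Fin n) K →ₐ[K] TK A B n K := MvPolynomial.aeval fun i => sng A B n K i t
  have hmc : ∀ r : RK A B n K, mkD (incl A B n K r) = algebraMap K (TK A B n K ⧸ I) (χ r) := by
    intro r
    rw [← AlgHom.commutes mkD, ← (incl A B n K).commutes]
    refine Ideal.Quotient.eq.2 ?_
    rw [← map_sub]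
    exact Ideal.mem_map_of_mem (incl A B n K).toRingHom
      (show χ (r - algebraMap K _ (χ r)) = 0 by
        rw [map_sub, AlgHom.commutes, Algebra.algebraMap_self_apply, sub_self])
  have hker : fibIdeal a ≤ RingHom.ker (mkD.comp ev) := by
    rw [fibIdeal, Ideal.span_le]
    rintro _ ⟨k, rfl⟩
    obtain ⟨r, hr⟩ := esymK_mem_range (A := A) (B := B) (n := n) (K := K) ((k : ℕ) + 1) t
    change incl A B n K r = _ at hr
    have hev : ev (MvPolynomial.esymm (Fin n) K ((k : ℕ) + 1)) = incl A B n K r := by
      rw [hr]; simp [ev, MvPolynomial.esymm, esymK]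
    have hea : MvPolynomial.aeval a (MvPolynomial.esymm (Fin n) K ((k : ℕ) + 1)) = χ r := by
      rw [← heχ, ← hev, ← AlgHom.comp_apply, MvPolynomial.comp_aeval]
      rfl
    rw [SetLike.mem_coe, RingHom.mem_ker, map_sub, AlgHom.comp_apply, hev, hmc, hea,
      ← MvPolynomial.algebraMap_eq, AlgHom.commutes, sub_self]
  let Ψ : MvPolynomial (Fin n) K ⧸ fibIdeal a →ₐ[K] TK A B n K ⧸ I := Ideal.Quotient.liftₐ _ (mkD.comp ev) fun x hx => hker hx
  have hΨ : ∀ F, Ψ (Ideal.Quotient.mk _ F) = mkD (ev F) := fun F => rfl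
  have hJ : (⨆ i, (setIdeal P).map (sng A B n K i).toRingHom) ≤
      (m.map (incl A B n K).toRingHom).radical := map_setIdeal_le_radical e m hem
  obtain ⟨L, hL⟩ := Ideal.exists_pow_le_of_le_radical_of_fg hJ (IsNoetherian.noetherian _)
  have hΨs : Function.Surjective Ψ := by
    intro y
    obtain ⟨x, rfl⟩ := Ideal.Quotient.mk_surjective y
    refine (mem_of_sng ((Ψ.range).comap mkD) (fun i c => ?_) x : _)
    obtain ⟨q, hq⟩ := exists_poly_approx P t htinj htco c L
    refine ⟨Polynomial.aeval (Ideal.Quotient.mk (fibIdeal a) (MvPolynomial.X i)) q, ?_⟩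
    show Ψ _ = mkD (sng A B n K i c)
    rw [← Polynomial.aeval_algHom_apply, hΨ]
    simp only [ev, MvPolynomial.aeval_X]
    rw [← AlgHom.comp_apply, Polynomial.aeval_algHom_apply, AlgHom.comp_apply]
    refine Ideal.Quotient.eq.2 (hL ?_)
    rw [← neg_sub, ← map_sub]
    refine neg_mem ?_
    have h1 : sng A B n K i (c - Polynomial.aeval t q) ∈
        ((setIdeal P) ^ L).map (sng A B n K i).toRingHom :=
      Ideal.mem_map_of_mem _ (mem_setIdeal_pow hq)
    rw [Ideal.map_pow] at h1
    exact Ideal.pow_right_mono (le_iSup (fun i => (setIdeal P).map (sng A B n K i).toRingHom) i) _ h1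
  haveI : Module.Finite K (TK A B n K ⧸ I) := Module.Finite.of_surjective Ψ.toLinearMap hΨs
  -- the coordinates are independent
  obtain ⟨θ, hθt, hθ⟩ := exists_coord_hom hC hdom P t htinj htco n
  have hroot : ∀ i : Fin n,
      Polynomial.aeval (Ideal.Quotient.mk (fibIdeal a) (MvPolynomial.X i)) (ptPoly P t n) = 0 := by
    intro i
    have hdvd : (∏ j : Fin n, (Polynomial.X - Polynomial.C (a j))) ∣ ptPoly P t n := by
      rw [Finset.prod_comp (fun ψ : K ⊗[A] B →ₐ[K] K => Polynomial.X - Polynomial.C (ψ t)) φ]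
      refine Finset.prod_dvd_prod_of_dvd _ _ fun ψ _ => pow_dvd_pow _ ?_
      exact (Finset.card_le_univ _).trans (Fintype.card_fin n).le
    obtain ⟨g, hg⟩ := hdvd
    rw [hg, map_mul, mk_root, zero_mul]
  let F : Fin n → (K ⊗[A] B →ₐ[K] MvPolynomial (Fin n) K ⧸ fibIdeal a) := fun i =>
    (Ideal.Quotient.liftₐ (Ideal.span {ptPoly P t n})
      (Polynomial.aeval (Ideal.Quotient.mk (fibIdeal a) (MvPolynomial.X i))) (by
        intro x hx
        obtain ⟨y, rfl⟩ := Ideal.mem_span_singleton'.1 hx
        rw [map_mul, hroot, mul_zero])).comp θ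
  have hF : ∀ i c q, θ c = Ideal.Quotient.mk _ q →
      F i c = Polynomial.aeval (Ideal.Quotient.mk (fibIdeal a) (MvPolynomial.X i)) q := by
    intro i c q hq
    simp only [F, AlgHom.comp_apply, hq]
    rfl
  obtain ⟨ψ, hψ⟩ := exists_tkHom (A := A) (B := B) (n := n) (K := K) F
  have hψt : ∀ i, ψ (sng A B n K i t) = Ideal.Quotient.mk (fibIdeal a) (MvPolynomial.X i) := by
    intro i
    rw [hψ, hF i t _ hθt, Polynomial.aeval_X]
  have hψinv : ∀ r, ψ (incl A B n K r) = algebraMap K (MvPolynomial (Fin n) K ⧸ fibIdeal a) (χ r) := by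
    let G : Subalgebra K (TK A B n K) :=
      AlgHom.equalizer ψ ((Algebra.ofId K (MvPolynomial (Fin n) K ⧸ fibIdeal a)).comp e)
    have hG : (incl A B n K).range ≤ G := by
      refine range_incl_le.trans (Algebra.adjoin_le ?_)
      rintro _ ⟨j, c, rfl⟩
      show ψ (esymK A B n K j c) = algebraMap K (MvPolynomial (Fin n) K ⧸ fibIdeal a) (e (esymK A B n K j c))
      obtain ⟨q, hq, hq'⟩ := hθ c
      let S : MvPolynomial (Fin n) K := ∑ I ∈ (Finset.univ : Finset (Fin n)).powersetCard j,
        ∏ i ∈ I, Polynomial.aeval (MvPolynomial.X i) q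
      have hS : S.IsSymmetric := by
        intro p
        simp only [S, map_sum, map_prod, ← Polynomial.aeval_algHom_apply, MvPolynomial.rename_X]
        refine Finset.sum_equiv p.finsetCongr (fun I => ?_) (fun I _ => ?_)
        · simp [Finset.mem_powersetCard]
        · simp [Finset.prod_map]
      have h1 : ψ (esymK A B n K j c) = Ideal.Quotient.mk (fibIdeal a) S := by
        simp only [esymK, S, map_sum, map_prod, hψ, hF _ c q hq]
        refine Finset.sum_congr rfl fun I _ => Finset.prod_congr rfl fun i _ => ?_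
        exact Polynomial.aeval_algHom_apply (Ideal.Quotient.mkₐ K (fibIdeal a)) (MvPolynomial.X i) q
      have h2 : ∀ i, e (sng A B n K i c) = Polynomial.aeval (a i) q := by
        intro i
        have hpos : n ≠ 0 := (Nat.zero_lt_of_lt i.2).ne'
        have hmem := setIdeal_le (hφP i) (Ideal.pow_le_self hpos hq')
        rw [RingHom.mem_ker, map_sub, ← Polynomial.aeval_algHom_apply, sub_eq_zero] at hmem
        exact hmem
      rw [h1, mk_symm_eq a hS]
      congr 1
      simp only [esymK, S, map_sum, map_prod, h2]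
      refine Finset.sum_congr rfl fun I _ => Finset.prod_congr rfl fun i _ => ?_
      rw [← Polynomial.aeval_algHom_apply, MvPolynomial.aeval_X]
    intro r
    rw [← heχ]
    exact hG ⟨r, rfl⟩
  let ψD : (TK A B n K ⧸ I) →ₐ[K] MvPolynomial (Fin n) K ⧸ fibIdeal a := Ideal.Quotient.liftₐ _ ψ (fun x hx => by
    have : m.map (incl A B n K).toRingHom ≤ RingHom.ker ψ := by
      rw [Ideal.map_le_iff_le_comap]
      intro r hr
      rw [Ideal.mem_comap, RingHom.mem_ker]
      show ψ (incl A B n K r) = 0
      rw [hψinv, RingHom.mem_ker.1 hr, map_zero]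
    exact this hx)
  have hψs : Function.Surjective ψD := by
    intro y
    obtain ⟨G, rfl⟩ := Ideal.Quotient.mk_surjective y
    refine ⟨mkD (ev G), ?_⟩
    show ψ (ev G) = _
    have : ψ.comp ev = Ideal.Quotient.mkₐ K (fibIdeal a) :=
      MvPolynomial.algHom_ext fun i => by simp [ev, hψt]
    exact DFunLike.congr_fun this G
  refine le_antisymm (hQrank ▸ ?_) (hQrank ▸ ?_)
  · exact LinearMap.finrank_le_finrank_of_surjective (f := Ψ.toLinearMap) hΨs
  · exact LinearMap.finrank_le_finrank_of_surjective (f := ψD.toLinearMap) hψs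

end Point

/-! ### Degree -/

section Abstract

variable (A R T' K : Type u) [CommRing A] [CommRing R] [CommRing T'] [Algebra A R] [Algebra A T']
  [Algebra R T'] [IsScalarTower A R T'] [Field K] [Algebra A K] [Algebra R K] [IsScalarTower A R K]

/-- The fibre of `R → T'` at a `K`-point, computed after extending scalars to `K`. -/
theorem finrank_quot_eq_tensor (χ : K ⊗[A] R →ₐ[K] K) (hχ : ∀ r, χ ((1 : K) ⊗ₜ r) = algebraMap R K r)
    (i : K ⊗[A] R →ₐ[K] K ⊗[A] T') (hi : ∀ r, i ((1 : K) ⊗ₜ r) = (1 : K) ⊗ₜ algebraMap R T' r) :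
    Module.finrank K ((K ⊗[A] T') ⧸ (RingHom.ker χ).map i.toRingHom) =
      Module.finrank K (K ⊗[R] T') := by
  let I := (RingHom.ker χ).map i.toRingHom
  let g : K ⊗[A] T' →ₐ[K] K ⊗[R] T' :=
    Algebra.TensorProduct.lift (Algebra.ofId K _)
      ((Algebra.TensorProduct.includeRight : T' →ₐ[R] K ⊗[R] T').restrictScalars A)
      fun _ _ => .all _ _
  have hg : ∀ x, g (i x) = algebraMap K _ (χ x) := by
    intro x
    have : g.comp i = (Algebra.ofId K _).comp χ := by
      refine Algebra.TensorProduct.ext_ring (AlgHom.ext fun r => ?_)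
      show g (i ((1 : K) ⊗ₜ r)) = algebraMap K _ (χ ((1 : K) ⊗ₜ r))
      rw [hi, hχ, Algebra.TensorProduct.algebraMap_apply, Algebra.algebraMap_self_apply]
      show g ((1 : K) ⊗ₜ algebraMap R T' r) = _
      simp only [g, Algebra.TensorProduct.lift_tmul, map_one, one_mul]
      show (1 : K) ⊗ₜ[R] algebraMap R T' r = _
      rw [Algebra.algebraMap_eq_smul_one, ← TensorProduct.smul_tmul, Algebra.smul_def, mul_one]
    exact DFunLike.congr_fun this x
  have hgI : ∀ x ∈ I, g x = 0 := by
    intro x hx
    have : I ≤ RingHom.ker g := Ideal.map_le_iff_le_comap.2 fun r hr => by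
      rw [Ideal.mem_comap, RingHom.mem_ker]
      show g (i r) = 0
      rw [hg, RingHom.mem_ker.1 hr, map_zero]
    exact this hx
  let mkI : K ⊗[A] T' →ₐ[K] (K ⊗[A] T') ⧸ I := Ideal.Quotient.mkₐ K I
  haveI : IsScalarTower R K ((K ⊗[A] T') ⧸ I) := inferInstance
  let fTa : T' →ₐ[R] (K ⊗[A] T') ⧸ I :=
    { mkI.toRingHom.comp (Algebra.TensorProduct.includeRight : T' →ₐ[A] K ⊗[A] T').toRingHom with
      commutes' := fun s => by
        show mkI ((1 : K) ⊗ₜ[A] algebraMap R T' s) = algebraMap K _ (algebraMap R K s)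
        rw [← hi, ← hχ, ← AlgHom.commutes mkI, ← i.commutes]
        refine Ideal.Quotient.eq.2 ?_
        rw [← map_sub]
        exact Ideal.mem_map_of_mem i.toRingHom (by rw [RingHom.mem_ker, map_sub, AlgHom.commutes, Algebra.algebraMap_self_apply, sub_self]) }
  let h : K ⊗[R] T' →ₐ[K] (K ⊗[A] T') ⧸ I :=
    Algebra.TensorProduct.lift (Algebra.ofId K _) fTa fun _ _ => .all _ _
  refine ((AlgEquiv.ofAlgHom h (Ideal.Quotient.liftₐ I g hgI) ?_ ?_).toLinearEquiv.finrank_eq).symm
  · refine Ideal.Quotient.algHom_ext K ?_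
    refine Algebra.TensorProduct.ext_ring (AlgHom.ext fun x => ?_)
    show h (g ((1 : K) ⊗ₜ x)) = mkI ((1 : K) ⊗ₜ x)
    simp [g, h, fTa]
  · refine Algebra.TensorProduct.ext_ring (AlgHom.ext fun x => ?_)
    show Ideal.Quotient.liftₐ I g hgI (h ((1 : K) ⊗ₜ x)) = (1 : K) ⊗ₜ x
    simp only [h, Algebra.TensorProduct.lift_tmul, map_one, one_mul]
    show g ((1 : K) ⊗ₜ x) = _
    simp [g]

omit [Algebra A R] [Algebra A T'] [IsScalarTower A R T'] [Algebra A K] [Algebra R K] [IsScalarTower A R K] in
/-- Fibre dimensions do not change under extension of the field. -/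
theorem finrank_tensor_ext (L : Type u) [Field L] [Algebra R L] [Algebra R K] [Algebra L K]
    [IsScalarTower R L K] : Module.finrank L (L ⊗[R] T') = Module.finrank K (K ⊗[R] T') := by
  exact (Module.finrank_baseChange (R := K) (S := L) (M' := L ⊗[R] T')).symm.trans
    (AlgebraTensorModule.cancelBaseChange R L K K T').finrank_eq

omit [Algebra A R] [Algebra A T'] [IsScalarTower A R T'] [Algebra A K] [Algebra R K] [IsScalarTower A R K] in
/-- Constant fibre dimension gives flatness after a reduced base change. -/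
theorem flat_baseChange_of_fibre_rank (F : Type u) [CommRing F] [IsReduced F] [Algebra R F]
    [Module.Finite R T'] (m : ℕ)
    (h : ∀ (L : Type u) [Field L] [Algebra R L], Module.finrank L (L ⊗[R] T') = m) :
    Module.Flat F (F ⊗[R] T') := by
  haveI : Module.Projective F (F ⊗[R] T') := by
    refine FlatGenStable.projective_of_isLocallyConstant_fibre (R := F) (M := F ⊗[R] T') ?_
    refine (IsLocallyConstant.iff_eventually_eq _).2 fun P => Filter.Eventually.of_forall fun P' => ?_
    have h : ∀ Q : PrimeSpectrum F, Module.finrank Q.asIdeal.ResidueField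
        (Q.asIdeal.ResidueField ⊗[F] (F ⊗[R] T')) = m := fun Q => by
      rw [(AlgebraTensorModule.cancelBaseChange R F Q.asIdeal.ResidueField
        Q.asIdeal.ResidueField T').finrank_eq]
      exact h _
    exact (h P').trans (h P).symm
  infer_instance

end Abstract

section Degree

variable {A B : Type u} [CommRing A] [CommRing B] [Algebra A B] {n : ℕ}

set_option synthInstance.maxHeartbeats 80000 in
theorem finrank_tensor_algClosed [Algebra.Smooth A B] [Module.Flat A B] (hB : IsCurveOver A B)
    (K : Type u) [Field K] [IsAlgClosed K] [Algebra A K] [Algebra (SymTen.TS A B n) K]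
    [IsScalarTower A (SymTen.TS A B n) K] :
    Module.finrank K (K ⊗[SymTen.TS A B n] T A B n) = n.factorial := by
  let χ : RK A B n K →ₐ[K] K :=
    Algebra.TensorProduct.lift (AlgHom.id K K) (IsScalarTower.toAlgHom A (SymTen.TS A B n) K)
      fun _ _ => .all _ _
  have hdom : ∀ (φ : K ⊗[A] B →ₐ[K] K) [(ptIdeal φ).IsPrime],
      IsDomain (Localization.AtPrime (ptIdeal φ)) := fun φ _ => by
    haveI := CotTLib.regular_of_formallySmooth (k := K) (ptIdeal φ)
    exact RegLocal.isDomain _
  rw [← finrank_quot_point (n := n) (isCurve_of_isCurveOver hB) hdom χ]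
  exact (finrank_quot_eq_tensor A (SymTen.TS A B n) (T A B n) K χ (fun r => by simp [χ])
    (incl A B n K) (fun r => by simp [incl])).symm

set_option synthInstance.maxHeartbeats 80000 in
/-- All the fibres of `TS → T` have dimension `n!`. -/
theorem finrank_tensor_field [Algebra.Smooth A B] [Module.Flat A B] (hB : IsCurveOver A B)
    (L : Type u) [Field L] [Algebra (SymTen.TS A B n) L] :
    Module.finrank L (L ⊗[SymTen.TS A B n] T A B n) = n.factorial := by
  let K := AlgebraicClosure L
  letI : Algebra A K := ((algebraMap (SymTen.TS A B n) K).comp (algebraMap A (SymTen.TS A B n))).toAlgebra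
  haveI : IsScalarTower A (SymTen.TS A B n) K := .of_algebraMap_eq' rfl
  exact (finrank_tensor_ext (SymTen.TS A B n) (T A B n) K L).trans (finrank_tensor_algClosed hB K)

set_option synthInstance.maxHeartbeats 80000 in
/-- `T` is flat over `TS`. -/
theorem flat_val [IsNoetherianRing A] [Algebra.Smooth A B] [Module.Flat A B] (hB : IsCurveOver A B)
    [Algebra.FiniteType A (SymTen.TS A B n)] [Module.Finite (SymTen.TS A B n) (T A B n)] :
    Module.Flat (SymTen.TS A B n) (T A B n) := by
  haveI := smooth_TS (n := n) hB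
  haveI : IsNoetherianRing (SymTen.TS A B n) := Algebra.FiniteType.isNoetherianRing A _
  haveI : Module.FinitePresentation (SymTen.TS A B n) (T A B n) :=
    Module.finitePresentation_of_finite _ _
  haveI : Module.Flat A (T A B n) := flat_pow n
  refine FlatLocus.flat_of_flat_fibres (A := A) fun p _ => ?_
  let F := SymTen.TS A B n ⊗[A] p.ResidueField
  haveI : IsReduced F := by
    haveI : IsReduced (p.ResidueField ⊗[A] SymTen.TS A B n) :=
      NeronEtLib.isReduced_of_smooth p.ResidueField _
    exact isReduced_of_injective (Algebra.TensorProduct.comm A (SymTen.TS A B n) p.ResidueField).toRingEquiv.toRingHom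
      (Algebra.TensorProduct.comm A (SymTen.TS A B n) p.ResidueField).injective
  exact flat_baseChange_of_fibre_rank (SymTen.TS A B n) (T A B n) F n.factorial
    fun L _ _ => finrank_tensor_field hB L

theorem rankAtStalk_val [Algebra.Smooth A B] [Module.Flat A B] (hB : IsCurveOver A B)
    [Module.Finite (SymTen.TS A B n) (T A B n)] [Module.Flat (SymTen.TS A B n) (T A B n)]
    (p : PrimeSpectrum (SymTen.TS A B n)) : Module.rankAtStalk (T A B n) p = n.factorial := by
  rw [Module.rankAtStalk_eq]
  exact finrank_tensor_field hB p.asIdeal.ResidueField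

end Degree

end Groth.Agent.FlatSymLib
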