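import Groth.Agent.S1166
import Groth.Agent.S1167
import Groth.Agent.S1169
import Groth.Agent.S1173
import Groth.Agent.S1181
import Groth.Agent.S14663
import Groth.Agent.HilbCurveLib.Pull
import Groth.Agent.FlatSymLib.FibPow
import Groth.Agent.QuotLib.Props
import Groth.Agent.QuotLib.Desc
import Groth.Agent.FpqcDesc.Stalk
import Groth.Prelude.Def_SymProd

/-! The symmetric power of a smooth proper curve is its Hilbert scheme of points. -/

set_option autoImplicit false
set_option backward.isDefEq.respectTransparency false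
set_option backward.isDefEq.respectTransparency.types false
set_option linter.style.haveILetI false
set_option maxHeartbeats 1000000

universe u

open CategoryTheory CategoryTheory.Limits AlgebraicGeometry

noncomputable section

namespace Groth.Agent.FlatSymLib

/-- Ranks multiply. -/
theorem finrank_comp {X Y Z : Scheme.{u}} (f : X ⟶ Y) (g : Y ⟶ Z) [IsFinite f] [Flat f] [IsFinite g] [Flat g]
    {n : ℕ} (hn : ∀ y, f.finrank y = n) (z : Z) : (f ≫ g).finrank z = n * g.finrank z := by
  let K := Z.residueField z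
  let h := Z.fromSpecResidueField z
  let p : Spec K := IsLocalRing.closedPoint K
  have hp : h p = z := Scheme.fromSpecResidueField_apply z p
  set g' := pullback.snd g h
  set f' := pullback.snd f (pullback.fst g h)
  have hsq : IsPullback (pullback.fst f (pullback.fst g h)) (f' ≫ g') (f ≫ g) h :=
    (IsPullback.of_hasPullback f (pullback.fst g h)).paste_vert (IsPullback.of_hasPullback g h)
  rw [← hp, ← Scheme.Hom.finrank_of_isPullback _ _ _ _ hsq p, ← Scheme.Hom.finrank_pullback_snd g h p]
  haveI : IsAffine (pullback g h) := isAffine_of_isAffineHom g'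
  let e := (pullback g h).isoSpec
  obtain ⟨φ, hφ⟩ := Spec.map_surjective (e.inv ≫ g')
  haveI : IsAffine (pullback f (pullback.fst g h)) := isAffine_of_isAffineHom f'
  let e' := (pullback f (pullback.fst g h)).isoSpec
  obtain ⟨ψ, hψ⟩ := Spec.map_surjective (e'.inv ≫ f' ≫ e.hom)
  have hg' : g' = e.hom ≫ Spec.map φ := by rw [hφ, Iso.hom_inv_id_assoc]
  have hf' : f' ≫ g' = e'.hom ≫ Spec.map (φ ≫ ψ) := by
    rw [Spec.map_comp, hψ, hg']; simp
  have hfr : ∀ q, (Spec.map ψ).finrank q = n := fun q => by
    have hsq' : IsPullback (e'.inv) (Spec.map ψ) f' e.inv := IsPullback.of_horiz_isIso ⟨by rw [hψ]; simp⟩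
    rw [Scheme.Hom.finrank_of_isPullback _ _ _ _ hsq' q, Scheme.Hom.finrank_pullback_snd, hn]
  haveI : IsFinite (Spec.map φ) := by rw [hφ]; infer_instance
  haveI : IsFinite (Spec.map ψ) := by rw [hψ]; infer_instance
  haveI : Flat (Spec.map φ) := by rw [hφ]; infer_instance
  haveI : Flat (Spec.map ψ) := by rw [hψ]; infer_instance
  haveI : IsFinite (Spec.map (φ ≫ ψ)) := by rw [Spec.map_comp]; infer_instance
  haveI : Flat (Spec.map (φ ≫ ψ)) := by rw [Spec.map_comp]; infer_instance
  show (f' ≫ g').finrank p = n * g'.finrank p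
  rw [hf', hg', Scheme.Hom.finrank_comp_left_of_isIso, Scheme.Hom.finrank_comp_left_of_isIso]
  let B : Type u := Γ(pullback g h, ⊤)
  let C : Type u := Γ(pullback f (pullback.fst g h), ⊤)
  letI : Algebra K B := φ.hom.toAlgebra
  letI : Algebra B C := ψ.hom.toAlgebra
  letI : Algebra K C := (ψ.hom.comp φ.hom).toAlgebra
  haveI : IsScalarTower K B C := IsScalarTower.of_algebraMap_eq fun _ => rfl
  haveI : Module.Finite K B := RingHom.finite_algebraMap.1 ((IsFinite.SpecMap_iff _).1 ‹IsFinite (Spec.map φ)›)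
  haveI : Module.Finite B C := RingHom.finite_algebraMap.1 ((IsFinite.SpecMap_iff _).1 ‹IsFinite (Spec.map ψ)›)
  haveI : Module.Flat B C := RingHom.flat_algebraMap_iff.1 ((Flat.SpecMap_iff).1 ‹Flat (Spec.map ψ)›)
  haveI : Module.Finite K C := Module.Finite.trans B C
  haveI : IsArtinianRing B := IsArtinianRing.of_finite K B
  have hrk : ∀ q : PrimeSpectrum B, Module.rankAtStalk C q = n := fun q => by
    rw [← hfr q]
    exact (Scheme.Hom.finrank_SpecMap_algebraMap B C q).symm
  haveI : Module.Free B C := Module.free_of_flat_of_finrank_eq B C n fun P => by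
    letI := Ideal.Quotient.field P.1
    have h1 := Module.rankAtStalk_baseChange (R := B) (M := C) (S := B ⧸ P.1) (⊥ : PrimeSpectrum (B ⧸ P.1))
    rw [Module.rankAtStalk_eq_finrank_of_free, hrk] at h1
    exact h1
  have h2 : (Spec.map (φ ≫ ψ)).finrank p = Module.finrank K C := by
    refine (Scheme.Hom.finrank_SpecMap_algebraMap K C p).trans ?_
    rw [Module.rankAtStalk_eq_finrank_of_free]
    rfl
  have h3 : (Spec.map φ).finrank p = Module.finrank K B := by
    refine (Scheme.Hom.finrank_SpecMap_algebraMap K B p).trans ?_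
    rw [Module.rankAtStalk_eq_finrank_of_free]
    rfl
  rw [h2, h3]
  rcases subsingleton_or_nontrivial B with hB | hB
  · haveI : Subsingleton C := Module.subsingleton B C
    rw [Module.finrank_zero_of_subsingleton, Module.finrank_zero_of_subsingleton, mul_zero]
  · obtain ⟨q⟩ : Nonempty (PrimeSpectrum B) := inferInstance
    rw [← Module.finrank_mul_finrank K B C, ← hrk q, Module.rankAtStalk_eq_finrank_of_free, mul_comm]
    rfl

variable {C S : Scheme.{u}} (f : C ⟶ S)

/-- The fibre power over `S`. -/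
abbrev powOver (n : ℕ) : Over S := Over.mk (WidePullback.base fun _ : Fin n => f)

/-- The ideal of the sum of the graphs of the projections. -/
def sumGraphs (n : ℕ) : (PicF.XT f (powOver f n)).IdealSheafData :=
  ∏ i, HilbD.secGraph f (powOver f n) (WidePullback.π _ i) (WidePullback.π_arrow (fun _ : Fin n => f) i)

theorem secGraph_congr {T : Over S} {a b : T.left ⟶ C} (ha : a ≫ f = T.hom) (hb : b ≫ f = T.hom)
    (e : a = b) : HilbD.secGraph f T a ha = HilbD.secGraph f T b hb := by
  subst e; rfl

theorem pull_prod {T T' : Over S} (g : T' ⟶ T) {ι : Type*} (s : Finset ι)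
    (I : ι → (PicF.XT f T).IdealSheafData) :
    HilbD.pull f g (∏ i ∈ s, I i) = ∏ i ∈ s, HilbD.pull f g (I i) := by
  classical
  induction s using Finset.induction with
  | empty => simp only [Finset.prod_empty, HilbCurveLib.pull_eq]; exact Scheme.IdealSheafData.comap_top _
  | insert b s hb ih => rw [Finset.prod_insert hb, Finset.prod_insert hb, HilbCurveLib.pull_mul, ih]

theorem smooth_XTproj [SmoothOfRelativeDimension 1 f] (T : Over S) :
    SmoothOfRelativeDimension 1 (PicF.XTproj f T) :=
  haveI : MorphismProperty.IsStableUnderBaseChange (@SmoothOfRelativeDimension.{u} 1) :=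
    smoothOfRelativeDimension_isStableUnderBaseChange 1
  MorphismProperty.of_isPullback (P := @SmoothOfRelativeDimension 1) (IsPullback.of_hasPullback f T.hom)
    inferInstance

theorem deg_zero_top (T : Over S) :
    Mor2.IsFinLocFreeOfDeg 0 ((⊤ : (PicF.XT f T).IdealSheafData).subschemeι ≫ PicF.XTproj f T) := by
  haveI : IsEmpty ↥((⊤ : (PicF.XT f T).IdealSheafData)).subscheme := by
    refine ⟨fun z => ?_⟩
    have := Set.mem_range_self (f := (⊤ : (PicF.XT f T).IdealSheafData).subschemeι) z
    rw [Scheme.IdealSheafData.range_subschemeι, Scheme.IdealSheafData.support_top] at this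
    exact this
  haveI : IsClosedImmersion (((⊤ : (PicF.XT f T).IdealSheafData)).subschemeι ≫ PicF.XTproj f T) :=
    .of_isPreimmersion _ (by rw [Set.range_eq_empty]; exact isClosed_empty)
  haveI : IsOpenImmersion (((⊤ : (PicF.XT f T).IdealSheafData)).subschemeι ≫ PicF.XTproj f T) := inferInstance
  refine ⟨⟨inferInstance, inferInstance, inferInstance⟩, fun y => ?_⟩
  let c := (⊤ : (PicF.XT f T).IdealSheafData).subschemeι ≫ PicF.XTproj f T
  let t : Spec (T.left.residueField y) := IsLocalRing.closedPoint (T.left.residueField y)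
  show c.finrank y = 0
  rw [← T.left.fromSpecResidueField_apply y t, ← Scheme.Hom.finrank_pullback_snd]
  by_contra hc
  haveI : Subsingleton ↥(Spec (T.left.residueField y)) := inferInstance
  have hs : Surjective (pullback.snd c (T.left.fromSpecResidueField y)) :=
    (Scheme.Hom.one_le_finrank_iff_surjective _).1 fun z => by
      rw [Subsingleton.elim z t]; exact Nat.one_le_iff_ne_zero.2 hc
  obtain ⟨w, -⟩ := hs.surj t
  exact IsEmpty.false (pullback.fst c (T.left.fromSpecResidueField y) w)

theorem deg_sumGraphs [SmoothOfRelativeDimension 1 f] [IsSeparated f] : ∀ n : ℕ,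
    Mor2.IsFinLocFreeOfDeg n ((sumGraphs f n).subschemeι ≫ PicF.XTproj f (powOver f n)) := by
  intro n
  haveI := smooth_XTproj f (powOver f n)
  have key : ∀ (m : ℕ) (x : Fin m → ((powOver f n).left ⟶ C)) (hx : ∀ i, x i ≫ f = (powOver f n).hom),
      Mor2.IsFinLocFreeOfDeg m
        ((∏ i, HilbD.secGraph f (powOver f n) (x i) (hx i)).subschemeι ≫ PicF.XTproj f (powOver f n)) := by
    intro m
    induction m with
    | zero =>
      intro x hx
      rw [Finset.univ_eq_empty, Finset.prod_empty]
      exact deg_zero_top f _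
    | succ m ih =>
      intro x hx
      rw [Fin.prod_univ_castSucc]
      exact HilbCurveLib.deg_mul (PicF.XTproj f (powOver f n)) (ih _ fun i => hx i.castSucc)
        (HilbCurveLib.secGraph_deg f _ _ (hx (Fin.last m))).2
  exact key n _ fun i => WidePullback.π_arrow (fun _ : Fin n => f) i

/-- Forgetting the last factor, over `S`. -/
def dropLastOver (n : ℕ) : powOver f (n + 1) ⟶ powOver f n :=
  Over.homMk (dropLast f n) (WidePullback.lift_base ..)

theorem sumGraphs_succ [IsSeparated f] (n : ℕ) :
    sumGraphs f (n + 1) = HilbD.pull f (dropLastOver f n) (sumGraphs f n) *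
      HilbD.secGraph f (powOver f (n + 1)) (WidePullback.π _ (Fin.last n))
        (WidePullback.π_arrow (fun _ : Fin (n + 1) => f) (Fin.last n)) := by
  rw [sumGraphs, Fin.prod_univ_castSucc, sumGraphs, pull_prod]
  congr 1
  refine Finset.prod_congr rfl fun i _ => ?_
  rw [HilbCurveLib.pull_secGraph]
  refine secGraph_congr f _ _ ?_
  show _ = dropLast f n ≫ _
  rw [dropLast, WidePullback.lift_π]

/-- The classifying map of the sum of the graphs is finite locally free of degree `n!`. -/
theorem classify_deg [SmoothOfRelativeDimension 1 f] [IsSeparated f]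
    (hrep : ∀ e : ℕ, HilbD.Representable f e) : ∀ (n : ℕ) (H : Over S) (Z : HilbD.Obj f n H),
    HilbD.IsUniversal f n H Z → ∀ s : powOver f n ⟶ H, HilbD.pull f s Z.1 = sumGraphs f n →
      Mor2.IsFinLocFreeOfDeg n.factorial s.left := by
  intro n
  induction n with
  | zero =>
    intro H Z hZ s _
    let j : S ⟶ SymProd.fibPow f 0 := WidePullback.lift (𝟙 S) (fun i => i.elim0) (fun i => i.elim0)
    have hj : j ≫ WidePullback.base (fun _ : Fin 0 => f) = 𝟙 S := WidePullback.lift_base ..
    have htop : ∀ (T : Over S) (W : HilbD.Obj f 0 T), W.1 = ⊤ := fun T W =>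
      haveI := smooth_XTproj f T
      HilbCurveLib.eq_top_of_deg_zero (PicF.XTproj f T) W.2
    have huniq : ∀ (T : Over S) (a b : T ⟶ H), a = b := fun T a b =>
      (hZ T ⟨⊤, deg_zero_top f T⟩).unique (htop T ⟨_, HilbCurveLib.pull_deg f a Z.2⟩)
        (htop T ⟨_, HilbCurveLib.pull_deg f b Z.2⟩)
    let r : H ⟶ powOver f 0 := Over.homMk (H.hom ≫ j) (by
      show (H.hom ≫ j) ≫ WidePullback.base _ = H.hom
      rw [Category.assoc, hj, Category.comp_id])
    have h1 : s ≫ r = 𝟙 _ := Over.OverMorphism.ext (WidePullback.hom_ext _ _ _ (fun i => i.elim0) (by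
      show (s.left ≫ H.hom ≫ j) ≫ WidePullback.base _ = 𝟙 _ ≫ _
      rw [Category.assoc, Category.assoc, hj, Category.comp_id, Category.id_comp]
      exact Over.w s))
    have h2 : r ≫ s = 𝟙 _ := huniq _ _ _
    haveI : IsIso s.left := ⟨r.left, by rw [← Over.comp_left, h1]; rfl, by rw [← Over.comp_left, h2]; rfl⟩
    exact ⟨⟨inferInstance, inferInstance, inferInstance⟩, fun y => by
      rw [Scheme.Hom.finrank_eq_one_of_isIso]; rfl⟩
  | succ n ih =>
    intro H Z hZ s hs
    obtain ⟨H₀, Z₀, hZ₀⟩ := hrep n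
    obtain ⟨s₀, hs₀, -⟩ := hZ₀ (powOver f n) ⟨_, deg_sumGraphs f n⟩
    let M : Over S := Over.mk (pullback.fst H₀.hom f ≫ H₀.hom)
    let hh : M ⟶ H₀ := Over.homMk (pullback.fst H₀.hom f) rfl
    let x : M.left ⟶ C := pullback.snd H₀.hom f
    have hx : x ≫ f = M.hom := pullback.condition.symm
    haveI := smooth_XTproj f M
    have hIM := HilbCurveLib.deg_mul (PicF.XTproj f M) (HilbCurveLib.pull_deg f hh Z₀.2)
      (HilbCurveLib.secGraph_deg f M x hx).2
    obtain ⟨m, hm, -⟩ := hZ M ⟨_, hIM⟩
    have w : (dropLast f n ≫ s₀.left) ≫ H₀.hom = WidePullback.π (fun _ : Fin (n + 1) => f) (Fin.last n) ≫ f := by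
      rw [Category.assoc, Over.w s₀]
      exact (isPullback_dropLast f n).w
    let a : powOver f (n + 1) ⟶ M := Over.homMk (pullback.lift _ _ w) (by
      show pullback.lift _ _ w ≫ pullback.fst H₀.hom f ≫ H₀.hom = _
      rw [pullback.lift_fst_assoc, Category.assoc, Over.w s₀]
      exact WidePullback.lift_base ..)
    have hah : a ≫ hh = dropLastOver f n ≫ s₀ := Over.OverMorphism.ext (pullback.lift_fst _ _ _)
    have hax : a.left ≫ x = WidePullback.π (fun _ : Fin (n + 1) => f) (Fin.last n) := pullback.lift_snd _ _ _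
    have ham : a ≫ m = s := by
      refine (hZ (powOver f (n + 1)) ⟨_, deg_sumGraphs f (n + 1)⟩).unique ?_ hs
      show HilbD.pull f (a ≫ m) Z.1 = sumGraphs f (n + 1)
      rw [HilbCurveLib.pull_comp, show HilbD.pull f m Z.1 = _ from hm, HilbCurveLib.pull_mul,
        ← HilbCurveLib.pull_comp, hah, HilbCurveLib.pull_comp, HilbCurveLib.pull_secGraph,
        show HilbD.pull f s₀ Z₀.1 = sumGraphs f n from hs₀, sumGraphs_succ]
      exact congrArg _ (secGraph_congr f _ _ hax)
    have sq : IsPullback (dropLast f n) a.left s₀.left (pullback.fst H₀.hom f) := by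
      refine (IsPullback.of_right ?_ (pullback.lift_fst _ _ w) (IsPullback.of_hasPullback H₀.hom f).flip).flip
      rw [pullback.lift_snd _ _ w, Over.w s₀]
      exact (isPullback_dropLast f n).flip
    obtain ⟨⟨i1, i2, i3⟩, i4⟩ := ih H₀ Z₀ hZ₀ s₀ hs₀
    obtain ⟨⟨j1, j2, j3⟩, j4⟩ := Groth.Agent.S1173.result f n H₀ Z₀ hZ₀ H Z hZ m hm
    haveI : IsFinite a.left := MorphismProperty.of_isPullback (P := @IsFinite) sq i1
    haveI : Flat a.left := MorphismProperty.of_isPullback (P := @Flat) sq i2
    haveI : LocallyOfFinitePresentation a.left :=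
      MorphismProperty.of_isPullback (P := @LocallyOfFinitePresentation) sq i3
    rw [← ham, Over.comp_left]
    refine ⟨⟨inferInstance, inferInstance, inferInstance⟩, fun y => ?_⟩
    rw [finrank_comp a.left m.left (n := n.factorial)
      (fun z => by rw [Scheme.Hom.finrank_of_isPullback _ _ _ _ sq z, i4]), j4, Nat.factorial_succ, mul_comm]

theorem permSum [IsSeparated f] (n : ℕ) (σ : Equiv.Perm (Fin n)) :
    HilbD.pull f (Over.homMk (SymProd.permHom f n σ) (SymProd.permHom_base f n σ) : powOver f n ⟶ powOver f n)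
      (sumGraphs f n) = sumGraphs f n := by
  rw [sumGraphs, pull_prod]
  refine Fintype.prod_equiv σ.symm _ _ fun i => ?_
  rw [HilbCurveLib.pull_secGraph]
  exact secGraph_congr f _ _ (SymProd.permHom_π f n σ i)

/-- An `n`-th symmetric power of a smooth proper curve carries a universal family of divisors of degree `n`,
pulling back to the sum of the graphs of the projections. -/
theorem exists_universal [IsLocallyNoetherian S] [IsProper f] [SmoothOfRelativeDimension 1 f]
    (hAF : SymProd.IsAF f) (n : ℕ) {Y : Scheme.{u}} (q : SymProd.fibPow f n ⟶ Y) (g : Y ⟶ S)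
    (hq : SymProd.IsSymProd f n q g) :
    ∃ D : HilbD.Obj f n (Over.mk g), HilbD.IsUniversal f n (Over.mk g) D ∧
      HilbD.pull f (Over.homMk q hq.over : powOver f n ⟶ Over.mk g) D.1 = sumGraphs f n := by
  classical
  have hrep : ∀ e : ℕ, HilbD.Representable f e := fun e => Groth.Agent.S1166.result f e fun s x hx => by
    obtain ⟨U, hU, h⟩ := hAF s (Finset.univ.image x) (by
      intro z hz
      obtain ⟨i, -, rfl⟩ := Finset.mem_image.1 hz
      exact hx i)
    exact ⟨U, hU, fun i => h _ (Finset.mem_image_of_mem _ (Finset.mem_univ i))⟩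
  obtain ⟨H, Z, hZ⟩ := hrep n
  obtain ⟨s, hs, -⟩ := hZ (powOver f n) ⟨_, deg_sumGraphs f n⟩
  have hs' : HilbD.pull f s Z.1 = sumGraphs f n := hs
  obtain ⟨⟨s1, s2, s3⟩, s4⟩ := classify_deg f hrep n H Z hZ s hs'
  obtain ⟨⟨q1, q2, q3⟩, q4⟩ := Groth.Agent.S14663.result f hAF n q g hq
  have hinv : ∀ σ, (SymProd.permActU f n σ).hom ≫ s.left = s.left := fun σ => by
    let p : powOver f n ⟶ powOver f n :=
      Over.homMk (SymProd.permHom f n σ.down) (SymProd.permHom_base f n σ.down)
    have hps : p ≫ s = s := by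
      refine (hZ (powOver f n) ⟨_, deg_sumGraphs f n⟩).unique ?_ hs
      show HilbD.pull f (p ≫ s) Z.1 = sumGraphs f n
      rw [HilbCurveLib.pull_comp, hs', permSum]
    rw [SymProd.permActU_hom]
    exact congrArg CommaMorphism.left hps
  obtain ⟨φ, hφ, -⟩ := QuotLib.existsUnique_desc hq.isQuot s.left hinv
  have hφg : φ ≫ H.hom = g := QuotLib.eq_of_comp_eq hq.isQuot (by
    rw [← Category.assoc, hφ, Over.w s]; exact hq.over.symm)
  haveI := Groth.Agent.S1167.result f n H Z hZ
  haveI := Groth.Agent.S1169.result f hrep n H Z hZ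
  haveI : IsAffineHom q := hq.isQuot.affine
  haveI : Surjective q := ⟨QuotLib.surjective hq.isQuot⟩
  haveI : IsProper (WidePullback.base fun _ : Fin n => f) :=
    haveI : MorphismProperty.ContainsIdentities @IsProper.{u} := ⟨fun X => inferInstance⟩
    base_mem f @IsProper.{u} inferInstance n
  haveI : IsProper (q ≫ g) := by rw [hq.over]; infer_instance
  haveI : IsSeparated g := (QuotLib.isSeparated_iff hq.isQuot g).1 inferInstance
  haveI : LocallyOfFiniteType g := QuotLib.locallyOfFiniteType hq.isQuot g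
  haveI : UniversallyClosed g := UniversallyClosed.of_comp_surjective q g
  haveI : IsProper g := { }
  haveI : IsProper (φ ≫ H.hom) := by rw [hφg]; infer_instance
  haveI : IsProper φ := IsProper.of_comp φ H.hom
  haveI : IsAffineHom (q ≫ φ) := by rw [hφ]; infer_instance
  haveI : IsAffineHom φ := (QuotLib.isAffineHom_iff hq.isQuot φ).1 inferInstance
  haveI : IsFinite φ := IsFinite.iff_isProper_and_isAffineHom.2 ⟨inferInstance, inferInstance⟩
  haveI : Flat (q ≫ φ) := by rw [hφ]; infer_instance
  haveI : Flat φ := FlatDescStalk.flat_of_comp q φ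
  haveI : IsLocallyNoetherian H.left := LocallyOfFiniteType.isLocallyNoetherian H.hom
  haveI : LocallyOfFinitePresentation φ := inferInstance
  haveI : IsIso φ := by
    rw [Scheme.Hom.isIso_iff_finrank_eq]
    funext z
    have h := finrank_comp q φ q4 z
    simp only [hφ, s4] at h
    exact (Nat.eq_of_mul_eq_mul_left n.factorial_pos ((mul_one _).trans h)).symm
  let e : Over.mk g ⟶ H := Over.homMk φ hφg
  let e' : H ⟶ Over.mk g := Over.homMk (CategoryTheory.inv φ) (by rw [IsIso.inv_comp_eq]; exact hφg.symm)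
  have he : e ≫ e' = 𝟙 _ := Over.OverMorphism.ext (IsIso.hom_inv_id φ)
  have he' : e' ≫ e = 𝟙 _ := Over.OverMorphism.ext (IsIso.inv_hom_id φ)
  refine ⟨⟨HilbD.pull f e Z.1, HilbCurveLib.pull_deg f e Z.2⟩, fun T W => ?_, ?_⟩
  · obtain ⟨a, ha, hau⟩ := hZ T W
    refine ⟨a ≫ e', ?_, fun b hb => ?_⟩
    · show HilbD.pull f (a ≫ e') (HilbD.pull f e Z.1) = W.1
      rw [← HilbCurveLib.pull_comp, Category.assoc, he', Category.comp_id]
      exact ha
    · have hbe : HilbD.pull f (b ≫ e) Z.1 = W.1 := (HilbCurveLib.pull_comp f e b Z.1).trans hb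
      rw [← hau _ hbe, Category.assoc, he, Category.comp_id]
  · show HilbD.pull f _ (HilbD.pull f e Z.1) = sumGraphs f n
    rw [← HilbCurveLib.pull_comp, show (Over.homMk q hq.over : powOver f n ⟶ Over.mk g) ≫ e = s from
      Over.OverMorphism.ext hφ]
    exact hs'

end Groth.Agent.FlatSymLib
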