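import Groth.Agent.FlatSymLib.Basic
import Groth.Agent.FlatSymLib.Chart
import Groth.Agent.QuotLib.AffineQuot
import Groth.Prelude.Def_SymTen
import Groth.Prelude.Def_SymProd

/-!
# The local model of a symmetric power

Near every point a symmetric power is `Spec TS^n_A(B) ← Spec (B^{⊗n})` for an affine open
`Spec B` of `X` lying over an affine open `Spec A` of the base.
-/

set_option autoImplicit false
universe u
open CategoryTheory CategoryTheory.Limits AlgebraicGeometry Opposite TopologicalSpace TensorProduct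

noncomputable section

namespace Groth.Agent.FlatSymLib

variable (A B : Type u) [CommRing A] [CommRing B] [Algebra A B] (n : ℕ)

/-- The affine fibre power. -/
abbrev T : Type u := ⨂[A] _ : Fin n, B

/-- The structure map of the affine fibre power. -/
def toBase : Spec (CommRingCat.of (T A B n)) ⟶ Spec (CommRingCat.of A) :=
  Spec.map (CommRingCat.ofHom (algebraMap A (T A B n)))

/-- The projections of the affine fibre power. -/
def proj (i : Fin n) : Spec (CommRingCat.of (T A B n)) ⟶ Spec (CommRingCat.of B) :=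
  Spec.map (CommRingCat.ofHom
    (PiTensorProduct.singleAlgHom (R := A) (A := fun _ : Fin n => B) i).toRingHom)

theorem proj_arrow (i : Fin n) :
    proj A B n i ≫ Spec.map (CommRingCat.ofHom (algebraMap A B)) = toBase A B n := by
  rw [proj, toBase, ← Spec.map_comp]
  congr 1
  exact CommRingCat.hom_ext (RingHom.ext fun a =>
    (PiTensorProduct.singleAlgHom (R := A) (A := fun _ : Fin n => B) i).commutes a)

variable {A B n}

/-- Morphisms to the affine fibre power are determined by their components. -/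
theorem hom_ext {Z : Scheme.{u}} {h₁ h₂ : Z ⟶ Spec (CommRingCat.of (T A B n))}
    (h0 : h₁ ≫ toBase A B n = h₂ ≫ toBase A B n) (h : ∀ i, h₁ ≫ proj A B n i = h₂ ≫ proj A B n i) :
    h₁ = h₂ := by
  refine ext_to_Spec (R := T A B n) ?_
  let φ : (Z ⟶ Spec (CommRingCat.of (T A B n))) → (T A B n →+* Γ(Z, ⊤)) := fun k =>
    k.appTop.hom.comp (Scheme.ΓSpecIso (CommRingCat.of (T A B n))).inv.hom
  suffices hφ : φ h₁ = φ h₂ from CommRingCat.hom_ext hφ
  have key : ∀ {P : Type u} [CommRing P] (ψ : P →+* T A B n),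
      h₁ ≫ Spec.map (CommRingCat.ofHom ψ) = h₂ ≫ Spec.map (CommRingCat.ofHom ψ) →
      (φ h₁).comp ψ = (φ h₂).comp ψ := by
    intro P _ ψ e
    have hh : ∀ k : Z ⟶ Spec (CommRingCat.of (T A B n)), (φ k).comp ψ =
        ((Scheme.ΓSpecIso (CommRingCat.of P)).inv ≫ (k ≫ Spec.map (CommRingCat.ofHom ψ)).appTop).hom := by
      intro k
      rw [Scheme.Hom.comp_appTop, ← Category.assoc, ← Scheme.ΓSpecIso_inv_naturality]
      rfl
    rw [hh, hh, e]
  letI : Algebra A Γ(Z, ⊤) := ((φ h₁).comp (algebraMap A (T A B n))).toAlgebra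
  let ψ₁ : T A B n →ₐ[A] Γ(Z, ⊤) := { φ h₁ with commutes' := fun a => rfl }
  let ψ₂ : T A B n →ₐ[A] Γ(Z, ⊤) := { φ h₂ with commutes' := fun a =>
    (DFunLike.congr_fun (key _ h0) a).symm }
  have hψ : ψ₁ = ψ₂ := PiTensorProduct.algHom_ext fun i => AlgHom.ext fun b =>
    DFunLike.congr_fun (key _ (h i)) b
  exact congrArg AlgHom.toRingHom hψ

/-- Morphisms to the affine fibre power from their components. -/
theorem exists_hom {Z : Scheme.{u}} (a₀ : Z ⟶ Spec (CommRingCat.of A))
    (a : Fin n → (Z ⟶ Spec (CommRingCat.of B)))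
    (ha : ∀ i, a i ≫ Spec.map (CommRingCat.ofHom (algebraMap A B)) = a₀) :
    ∃ ψ : Z ⟶ Spec (CommRingCat.of (T A B n)), ψ ≫ toBase A B n = a₀ ∧
      ∀ i, ψ ≫ proj A B n i = a i := by
  have hrec : ∀ {P : Type u} [CommRing P] (k : Z ⟶ Spec (CommRingCat.of P)),
      Z.toSpecΓ ≫ Spec.map ((Scheme.ΓSpecIso (CommRingCat.of P)).inv ≫ k.appTop) = k := by
    intro P _ k
    rw [Spec.map_comp, ← Category.assoc, ← Scheme.toSpecΓ_naturality, Category.assoc,
      toSpecΓ_SpecMap_ΓSpecIso_inv, Category.comp_id]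
  let b₀ : A →+* Γ(Z, ⊤) := ((Scheme.ΓSpecIso (CommRingCat.of A)).inv ≫ a₀.appTop).hom
  letI : Algebra A Γ(Z, ⊤) := b₀.toAlgebra
  let b : Fin n → (B →ₐ[A] Γ(Z, ⊤)) := fun i =>
    { ((Scheme.ΓSpecIso (CommRingCat.of B)).inv ≫ (a i).appTop).hom with
      commutes' := fun x => by
        show ((Scheme.ΓSpecIso (CommRingCat.of B)).inv ≫ (a i).appTop).hom (algebraMap A B x) = b₀ x
        simp only [b₀, ← ha i, Scheme.Hom.comp_appTop]
        rw [← Category.assoc, ← Scheme.ΓSpecIso_inv_naturality]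
        rfl }
  let φ : T A B n →ₐ[A] Γ(Z, ⊤) := PiTensorProduct.liftAlgHom
    ((MultilinearMap.mkPiAlgebra A (Fin n) Γ(Z, ⊤)).compLinearMap fun i => (b i).toLinearMap)
    (by simp) (fun x y => by simp [Finset.prod_mul_distrib])
  have hφ : ∀ i x, φ (PiTensorProduct.singleAlgHom (R := A) (A := fun _ : Fin n => B) i x) = b i x := by
    intro i x
    change PiTensorProduct.lift ((MultilinearMap.mkPiAlgebra A (Fin n) Γ(Z, ⊤)).compLinearMap
      fun i => (b i).toLinearMap) (PiTensorProduct.tprod A (Pi.mulSingle i x)) = b i x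
    simp only [PiTensorProduct.lift.tprod, MultilinearMap.compLinearMap_apply,
      MultilinearMap.mkPiAlgebra_apply, AlgHom.toLinearMap_apply]
    rw [Finset.prod_eq_single i]
    · simp
    · intro j _ hj
      simp [Pi.mulSingle_eq_of_ne hj]
    · simp
  refine ⟨Z.toSpecΓ ≫ Spec.map (CommRingCat.ofHom φ.toRingHom), ?_, fun i => ?_⟩
  · rw [toBase, Category.assoc, ← Spec.map_comp]
    refine Eq.trans ?_ (hrec a₀)
    congr 2
    exact CommRingCat.hom_ext (RingHom.ext fun x => φ.commutes x)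
  · rw [proj, Category.assoc, ← Spec.map_comp]
    refine Eq.trans ?_ (hrec (a i))
    congr 2
    exact CommRingCat.hom_ext (RingHom.ext fun x => hφ i x)

variable (A B n)

/-- The permutations of the factors as ring endomorphisms. -/
def permHomT : ULift.{u} (Equiv.Perm (Fin n)) →* (T A B n →+* T A B n) where
  toFun σ := (SymTen.perm A B n σ.down).toRingHom
  map_one' := RingHom.ext fun t => by
    show SymTen.perm A B n 1 t = t
    rw [SymTen.perm_apply, show (1 : Equiv.Perm (Fin n)) = Equiv.refl _ from rfl,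
      PiTensorProduct.reindex_refl]
    rfl
  map_mul' σ τ := RingHom.ext fun t => by
    show SymTen.perm A B n (σ.down * τ.down) t =
      SymTen.perm A B n σ.down (SymTen.perm A B n τ.down t)
    induction t using PiTensorProduct.induction_on with
    | smul_tprod r f =>
      simp only [map_smul, SymTen.perm_tprod]
      rfl
    | add x y hx hy => simp only [map_add, hx, hy]

theorem permHomT_apply (σ : ULift.{u} (Equiv.Perm (Fin n))) (t : T A B n) :
    permHomT A B n σ t = PiTensorProduct.reindex A (fun _ : Fin n => B) σ.down t :=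
  SymTen.perm_apply A B n σ.down t

theorem perm_singleAlgHom (σ : Equiv.Perm (Fin n)) (i : Fin n) (b : B) :
    SymTen.perm A B n σ (PiTensorProduct.singleAlgHom (R := A) (A := fun _ : Fin n => B) i b) =
      PiTensorProduct.singleAlgHom (R := A) (A := fun _ : Fin n => B) (σ i) b := by
  simp only [PiTensorProduct.singleAlgHom_apply, SymTen.perm_tprod]
  congr 1
  funext j
  simp only [MonoidHom.mulSingle_apply]
  by_cases h : j = σ i
  · subst h; simp
  · have h' : σ.symm j ≠ i := fun h' => h (by rw [← h', Equiv.apply_symm_apply])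
    simp [Pi.mulSingle_eq_of_ne h, Pi.mulSingle_eq_of_ne h']

theorem specAct_proj (σ : ULift.{u} (Equiv.Perm (Fin n))) (i : Fin n) :
    (specAct (permHomT A B n) σ).hom ≫ proj A B n i = proj A B n (σ.down.symm i) := by
  rw [specAct_hom, proj, proj, ← Spec.map_comp]
  congr 1
  exact CommRingCat.hom_ext (RingHom.ext fun b => perm_singleAlgHom A B n σ.down⁻¹ i b)

theorem specAct_toBase (σ : ULift.{u} (Equiv.Perm (Fin n))) :
    (specAct (permHomT A B n) σ).hom ≫ toBase A B n = toBase A B n := by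
  rw [specAct_hom, toBase, ← Spec.map_comp]
  congr 1
  exact CommRingCat.hom_ext (RingHom.ext fun a => (SymTen.perm A B n σ.down⁻¹).commutes a)

/-- The affine symmetric power. -/
theorem isQuot_TS : SGA1.IsQuot (specAct (permHomT A B n))
    (Spec.map (CommRingCat.ofHom (SymTen.TS A B n).val.toRingHom)) :=
  isQuot_specAct _ _ (fun σ x => (permHomT_apply A B n σ _).trans (x.2 σ.down))
    Subtype.val_injective fun r hr => ⟨⟨r, fun σ => (permHomT_apply A B n ⟨σ⟩ r).symm.trans (hr ⟨σ⟩)⟩, rfl⟩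

variable {A B n}

/-- Symmetric tensors of a flat algebra are flat. -/
theorem flat_TS [Module.Flat A B] : Module.Flat A (SymTen.TS A B n) := by
  haveI := flat_inv (R := A) (M := B) n
  exact Module.Flat.of_linearEquiv (LinearEquiv.ofEq (Subalgebra.toSubmodule (SymTen.TS A B n))
    (inv A B n) (Submodule.ext fun t => (mem_inv (R := A) (M := B) (t := t)).symm))

/-- The local model of a symmetric power over given affine opens. -/
theorem chart_of_opens {X S Y : Scheme.{u}} (f : X ⟶ S) (n : ℕ)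
    (q : SymProd.fibPow f n ⟶ Y) (g : Y ⟶ S) (hq : SymProd.IsSymProd f n q g)
    (S₀ : S.Opens) (hS₀ : IsAffineOpen S₀) (W : X.Opens) (hW : IsAffineOpen W) (hhle : W ≤ f ⁻¹ᵁ S₀) :
    letI : Algebra Γ(S, S₀) Γ(X, W) := (f.appLE S₀ W hhle).hom.toAlgebra
    ∃ (jY : Spec (CommRingCat.of (SymTen.TS Γ(S, S₀) Γ(X, W) n)) ⟶ Y) (_ : IsOpenImmersion jY)
      (e : Spec (CommRingCat.of (T Γ(S, S₀) Γ(X, W) n)) ⟶ SymProd.fibPow f n),
      IsPullback e (Spec.map (CommRingCat.ofHom (SymTen.TS Γ(S, S₀) Γ(X, W) n).val.toRingHom)) q jY ∧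
      e ≫ WidePullback.base (fun _ : Fin n => f) = toBase Γ(S, S₀) Γ(X, W) n ≫ hS₀.fromSpec ∧
      jY ≫ g = Spec.map (CommRingCat.ofHom (algebraMap Γ(S, S₀) (SymTen.TS Γ(S, S₀) Γ(X, W) n))) ≫
        hS₀.fromSpec ∧
      (∀ σ, (specAct (permHomT Γ(S, S₀) Γ(X, W) n) σ).hom ≫ e = e ≫ (SymProd.permActU f n σ).hom) ∧
      ∀ z, q z ∈ Set.range jY ↔
        (WidePullback.base (fun _ : Fin n => f) z ∈ S₀ ∧
          ∀ i, WidePullback.π (fun _ : Fin n => f) i z ∈ W) := by
  classical
  have hquot := hq.isQuot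
  haveI := hquot.affine
  let b : SymProd.fibPow f n ⟶ S := WidePullback.base (fun _ : Fin n => f)
  let π : Fin n → (SymProd.fibPow f n ⟶ X) := fun i => WidePullback.π (fun _ : Fin n => f) i
  let A : Type u := Γ(S, S₀)
  let B : Type u := Γ(X, W)
  letI : Algebra A B := (f.appLE S₀ W hhle).hom.toAlgebra
  let fS : Spec (CommRingCat.of A) ⟶ S := hS₀.fromSpec
  let fW : Spec (CommRingCat.of B) ⟶ X := hW.fromSpec
  have hfS : Set.range fS = (S₀ : Set S) := hS₀.range_fromSpec
  have hfW : Set.range fW = (W : Set X) := hW.range_fromSpec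
  have hAB : Spec.map (CommRingCat.ofHom (algebraMap A B)) ≫ fS = fW ≫ f :=
    IsAffineOpen.SpecMap_appLE_fromSpec f hS₀ hW hhle
  let O : (SymProd.fibPow f n).Opens := b ⁻¹ᵁ S₀ ⊓ Finset.univ.inf fun i : Fin n => π i ⁻¹ᵁ W
  have hO : ∀ z, z ∈ O ↔ b z ∈ S₀ ∧ ∀ i, π i z ∈ W := by
    intro z
    show z ∈ (_ ⊓ _ : (SymProd.fibPow f n).Opens) ↔ _
    simp [← SetLike.mem_coe, TopologicalSpace.Opens.coe_finset_inf, Finset.inf_set_eq_iInter]
  let e : Spec (CommRingCat.of (T A B n)) ⟶ SymProd.fibPow f n :=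
    WidePullback.lift (toBase A B n ≫ fS) (fun i => proj A B n i ≫ fW) (fun i => by
      rw [Category.assoc, ← hAB, ← Category.assoc, proj_arrow])
  have heb : e ≫ b = toBase A B n ≫ fS := WidePullback.lift_base ..
  have heπ : ∀ i, e ≫ π i = proj A B n i ≫ fW := fun i => WidePullback.lift_π ..
  have hperm : ∀ σ, (specAct (permHomT A B n) σ).hom ≫ e = e ≫ (SymProd.permActU f n σ).hom := by
    intro σ
    rw [SymProd.permActU_hom]
    refine WidePullback.hom_ext _ _ _ (fun i => ?_) ?_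
    · rw [Category.assoc, Category.assoc, SymProd.permHom_π]
      show _ ≫ e ≫ π i = e ≫ π _
      rw [heπ, heπ, ← Category.assoc, specAct_proj]
    · rw [Category.assoc, Category.assoc, SymProd.permHom_base]
      show _ ≫ e ≫ b = e ≫ b
      rw [heb, ← Category.assoc, specAct_toBase]
  have heO : ∀ t, e t ∈ O := by
    intro t
    refine (hO _).2 ⟨?_, fun i => ?_⟩
    · rw [← Scheme.Hom.comp_apply, heb, Scheme.Hom.comp_apply, ← SetLike.mem_coe, ← hfS]
      exact ⟨_, rfl⟩
    · rw [← Scheme.Hom.comp_apply, heπ, Scheme.Hom.comp_apply, ← SetLike.mem_coe, ← hfW]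
      exact ⟨_, rfl⟩
  -- the quotient of the invariant open
  have hcl : IsClosed (q.base '' (O : Set (SymProd.fibPow f n))ᶜ) :=
    haveI := QuotLib.isIntegralHom hquot
    q.isClosedMap _ O.2.isClosed_compl
  let V : Y.Opens := ⟨(q.base '' (O : Set (SymProd.fibPow f n))ᶜ)ᶜ, hcl.isOpen_compl⟩
  have hsat : ∀ z σ, z ∈ O → SymProd.permHom f n σ z ∈ O := by
    intro z σ hz
    refine (hO _).2 ⟨?_, fun i => ?_⟩
    · rw [← Scheme.Hom.comp_apply]
      simp only [b, SymProd.permHom_base]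
      exact ((hO z).1 hz).1
    · rw [← Scheme.Hom.comp_apply]
      simp only [π, SymProd.permHom_π]
      exact ((hO z).1 hz).2 _
  have hqV : ∀ z, q z ∈ V ↔ z ∈ O := by
    intro z
    refine ⟨fun h => by_contra fun hz => h ⟨z, hz, rfl⟩, fun hz hz' => ?_⟩
    obtain ⟨z', hz'O, hz'q⟩ := hz'
    obtain ⟨σ, hσ⟩ := QuotLib.exists_eq_of_base_eq hquot hz'q.symm
    refine hz'O ?_
    rw [← hσ, SymProd.permActU_hom]
    exact hsat z σ.down hz
  -- lifts to the affine fibre power
  let O' : (SymProd.fibPow f n).Opens := q ⁻¹ᵁ V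
  let a₀ : O'.toScheme ⟶ Spec (CommRingCat.of A) := IsOpenImmersion.lift fS (O'.ι ≫ b) (by
    rintro _ ⟨z, rfl⟩
    rw [hfS, Scheme.Hom.comp_apply]
    exact ((hO _).1 ((hqV _).1 z.2)).1)
  let a : Fin n → (O'.toScheme ⟶ Spec (CommRingCat.of B)) := fun i =>
    IsOpenImmersion.lift fW (O'.ι ≫ π i) (by
      rintro _ ⟨z, rfl⟩
      rw [hfW, Scheme.Hom.comp_apply]
      exact ((hO _).1 ((hqV _).1 z.2)).2 i)
  have ha₀ : a₀ ≫ fS = O'.ι ≫ b := IsOpenImmersion.lift_fac ..
  have hai : ∀ i, a i ≫ fW = O'.ι ≫ π i := fun i => IsOpenImmersion.lift_fac ..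
  obtain ⟨α, hα₀, hα⟩ := exists_hom (A := A) (B := B) a₀ a (fun i => by
    rw [← cancel_mono fS, Category.assoc, hAB, ← Category.assoc, hai, ha₀, Category.assoc]
    simp only [π, b, WidePullback.π_arrow])
  have hαe : α ≫ e = O'.ι := by
    refine WidePullback.hom_ext _ _ _ (fun i => ?_) ?_
    · show (α ≫ e) ≫ π i = O'.ι ≫ π i
      rw [Category.assoc, heπ, ← Category.assoc, hα, hai]
    · show (α ≫ e) ≫ b = O'.ι ≫ b
      rw [Category.assoc, heb, ← Category.assoc, hα₀, ha₀]
  let β : Spec (CommRingCat.of (T A B n)) ⟶ O'.toScheme := IsOpenImmersion.lift O'.ι e (by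
    rintro _ ⟨t, rfl⟩
    rw [Scheme.Opens.range_ι]
    exact (hqV _).2 (heO t))
  have hβ : β ≫ O'.ι = e := IsOpenImmersion.lift_fac ..
  have hβα : β ≫ α = 𝟙 _ := by
    refine hom_ext ?_ fun i => ?_
    · rw [← cancel_mono fS]
      simp only [Category.assoc, Category.id_comp]
      rw [← heb, ← Category.assoc α, hαe, ← Category.assoc, hβ]
    · rw [← cancel_mono fW]
      simp only [Category.assoc, Category.id_comp]
      rw [← heπ, ← Category.assoc α, hαe, ← Category.assoc, hβ]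
  have hαβ : α ≫ β = 𝟙 _ := by
    rw [← cancel_mono O'.ι, Category.assoc, hβ, hαe, Category.id_comp]
  haveI : IsIso β := ⟨α, hβα, hαβ⟩
  let p₀ := Spec.map (CommRingCat.ofHom (SymTen.TS A B n).val.toRingHom)
  have hp₀ : SGA1.IsQuot (specAct (permHomT A B n)) p₀ := isQuot_TS A B n
  obtain ⟨jY, hjY, -⟩ := QuotLib.existsUnique_desc hp₀ (e ≫ q) (fun σ => by
    rw [← Category.assoc, hperm, Category.assoc, hquot.inv])
  have hres := QuotLib.isQuot_restrict hquot V
  obtain ⟨k, hk, -⟩ := QuotLib.existsUnique_desc hres (α ≫ p₀) (fun σ => by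
    have h1 : (QuotLib.restrictAut (SymProd.permActU f n) (q ⁻¹ᵁ V)
        (fun g => SGA1.preimage_le_of_inv _ q hquot.inv g V) σ).hom ≫ α =
          α ≫ (specAct (permHomT A B n) σ).hom := by
      rw [← cancel_mono β, Category.assoc, Category.assoc, hαβ, Category.comp_id,
        ← cancel_mono O'.ι, Category.assoc, Category.assoc, hβ, hperm, ← Category.assoc, hαe]
      exact QuotLib.restrictAut_hom_ι ..
    rw [← Category.assoc, h1, Category.assoc, hp₀.inv])
  have hrangeY : Set.range jY ⊆ Set.range V.ι := by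
    rintro _ ⟨s, rfl⟩
    obtain ⟨t, rfl⟩ := QuotLib.surjective hp₀ s
    rw [Scheme.Opens.range_ι, ← Scheme.Hom.comp_apply, hjY, Scheme.Hom.comp_apply]
    exact (hqV _).2 (heO t)
  let jV := IsOpenImmersion.lift V.ι jY hrangeY
  have hjV : jV ≫ V.ι = jY := IsOpenImmersion.lift_fac ..
  have hkj : k ≫ jV = 𝟙 _ := by
    refine QuotLib.eq_of_comp_eq hres ?_
    rw [← Category.assoc, hk, Category.comp_id, ← cancel_mono V.ι, morphismRestrict_ι]
    simp only [Category.assoc, hjV]
    rw [hjY, ← Category.assoc, hαe]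
  have hjk : jV ≫ k = 𝟙 _ := by
    refine QuotLib.eq_of_comp_eq hp₀ ?_
    have h1 : p₀ ≫ jV = β ≫ (q ∣_ V) := by
      rw [← cancel_mono V.ι, Category.assoc, hjV, hjY, Category.assoc, morphismRestrict_ι,
        ← Category.assoc, hβ]
    rw [← Category.assoc, h1, Category.assoc, hk, ← Category.assoc, hβα, Category.id_comp,
      Category.comp_id]
  let αI : O'.toScheme ≅ Spec (CommRingCat.of (T A B n)) := ⟨α, β, hαβ, hβα⟩
  let kI : V.toScheme ≅ Spec (CommRingCat.of (SymTen.TS A B n)) := ⟨k, jV, hkj, hjk⟩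
  haveI : IsIso jV := ⟨k, hjk, hkj⟩
  haveI : IsOpenImmersion jY := by rw [← hjV]; infer_instance
  refine ⟨jY, inferInstance, e, ?_, heb, ?_, hperm, fun z => ?_⟩
  · refine (isPullback_morphismRestrict q V).flip.of_iso αI (Iso.refl _) kI (Iso.refl _) ?_ ?_ ?_ ?_
    · simp [αI, hαe]
      rfl
    · exact hk
    · simp
    · simp only [kI, Iso.refl_hom, Category.comp_id]
      rw [← hjV, ← Category.assoc, hkj, Category.id_comp]
  · refine QuotLib.eq_of_comp_eq hp₀ ?_
    rw [← Category.assoc, hjY, Category.assoc, hq.over, ← Category.assoc]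
    refine heb.trans ?_
    congr 1
    rw [toBase, ← Spec.map_comp]
    congr 1
  · rw [← hO, ← hqV, ← SetLike.mem_coe, ← V.range_ι]
    refine ⟨fun hz => hrangeY hz, fun ⟨v, hv⟩ => ⟨k v, ?_⟩⟩
    have e1 : k ≫ jY = V.ι := by rw [← hjV, ← Category.assoc, hkj, Category.id_comp]
    rw [← hv]
    exact congrArg (fun m : V.toScheme ⟶ Y => m v) e1

/-- Local models of a symmetric power of a flat morphism. -/
theorem exists_chart {X S Y : Scheme.{u}} (f : X ⟶ S) [Flat f] (hAF : SymProd.IsAF f) (n : ℕ)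
    (q : SymProd.fibPow f n ⟶ Y) (g : Y ⟶ S) (hq : SymProd.IsSymProd f n q g) (y : Y) :
    ∃ (A B : Type u) (_ : CommRing A) (_ : CommRing B) (_ : Algebra A B) (_ : Module.Flat A B)
      (jS : Spec (CommRingCat.of A) ⟶ S) (_ : IsOpenImmersion jS)
      (jY : Spec (CommRingCat.of (SymTen.TS A B n)) ⟶ Y) (_ : IsOpenImmersion jY)
      (e : Spec (CommRingCat.of (T A B n)) ⟶ SymProd.fibPow f n),
      y ∈ Set.range jY ∧
      IsPullback e (Spec.map (CommRingCat.ofHom (SymTen.TS A B n).val.toRingHom)) q jY ∧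
      e ≫ WidePullback.base (fun _ : Fin n => f) = toBase A B n ≫ jS ∧
      jY ≫ g = Spec.map (CommRingCat.ofHom (algebraMap A (SymTen.TS A B n))) ≫ jS ∧
      ∀ σ, (specAct (permHomT A B n) σ).hom ≫ e = e ≫ (SymProd.permActU f n σ).hom := by
  classical
  have hquot := hq.isQuot
  haveI := hquot.affine
  obtain ⟨x, rfl⟩ := QuotLib.surjective hquot y
  let b : SymProd.fibPow f n ⟶ S := WidePullback.base (fun _ : Fin n => f)
  let π : Fin n → (SymProd.fibPow f n ⟶ X) := fun i => WidePullback.π (fun _ : Fin n => f) i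
  obtain ⟨S₀, hS₀, hxS₀, -⟩ :=
    exists_isAffineOpen_mem_and_subset (X := S) (x := b x) (U := ⊤) trivial
  have hfx : ∀ i, f (π i x) = b x := fun i => by
    rw [← Scheme.Hom.comp_apply]
    simp only [π, b, WidePullback.π_arrow]
  obtain ⟨U, hU, hTU⟩ := hAF (b x) (Finset.univ.image fun i => π i x) (by
    intro z hz
    obtain ⟨i, -, rfl⟩ := Finset.mem_image.1 hz
    exact hfx i)
  obtain ⟨h, hhle, hh⟩ := QuotLib.exists_basicOpen_finite hU (f ⁻¹ᵁ S₀) (fun i => π i x)
    (fun i => hTU _ (Finset.mem_image_of_mem _ (Finset.mem_univ i)))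
    (fun i => show f (π i x) ∈ S₀ by rw [hfx i]; exact hxS₀)
  obtain ⟨jY, hjY, e, hsq, heb, hjg, hperm, hrange⟩ :=
    chart_of_opens f n q g hq S₀ hS₀ (X.basicOpen h) (hU.basicOpen h) hhle
  letI : Algebra Γ(S, S₀) Γ(X, X.basicOpen h) := (f.appLE S₀ _ hhle).hom.toAlgebra
  exact ⟨Γ(S, S₀), Γ(X, X.basicOpen h), inferInstance, inferInstance, inferInstance,
    Scheme.Hom.flat_appLE f hS₀ (hU.basicOpen h) hhle, hS₀.fromSpec, inferInstance,
    jY, hjY, e, (hrange x).2 ⟨hxS₀, fun i => hh i⟩, hsq, heb, hjg, hperm⟩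

end Groth.Agent.FlatSymLib
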