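import Groth.Agent.FlatSymLib.Model
import Groth.Agent.FlatSymLib.BaseChange

/-!
# Affine symmetric powers of flat algebras commute with base change
-/

set_option autoImplicit false
universe u
open CategoryTheory CategoryTheory.Limits AlgebraicGeometry TensorProduct

noncomputable section

namespace Groth.Agent.FlatSymLib

variable (A B : Type u) [CommRing A] [CommRing B] [Algebra A B] (n : ℕ)
  (A' : Type u) [CommRing A'] [Algebra A A']

/-- The permutations of the factors after base change. -/
def permHomBC : ULift.{u} (Equiv.Perm (Fin n)) →* (T A B n ⊗[A] A' →+* T A B n ⊗[A] A') where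
  toFun σ := (Algebra.TensorProduct.map (SymTen.perm A B n σ.down) (AlgHom.id A A')).toRingHom
  map_one' := by
    have h : SymTen.perm A B n (1 : Equiv.Perm (Fin n)) = AlgHom.id A _ := AlgHom.ext fun t =>
      DFunLike.congr_fun (map_one (permHomT A B n)) t
    show (Algebra.TensorProduct.map (SymTen.perm A B n 1) (AlgHom.id A A')).toRingHom = _
    rw [h, Algebra.TensorProduct.map_id]
    rfl
  map_mul' σ τ := by
    have h : SymTen.perm A B n (σ.down * τ.down) =
        (SymTen.perm A B n σ.down).comp (SymTen.perm A B n τ.down) := AlgHom.ext fun t =>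
      DFunLike.congr_fun (map_mul (permHomT A B n) σ τ) t
    show (Algebra.TensorProduct.map (SymTen.perm A B n (σ.down * τ.down)) (AlgHom.id A A')).toRingHom = _
    rw [h]
    nth_rw 1 [← AlgHom.id_comp (AlgHom.id A A')]
    rw [Algebra.TensorProduct.map_comp]
    rfl

theorem permHomBC_tmul (σ : ULift.{u} (Equiv.Perm (Fin n))) (t : T A B n) (a : A') :
    permHomBC A B n A' σ (t ⊗ₜ a) = permHomT A B n σ t ⊗ₜ a :=
  Algebra.TensorProduct.map_tmul _ _ t a

/-- The base change of the inclusion of the symmetric tensors. -/
abbrev valBC : SymTen.TS A B n ⊗[A] A' →ₐ[A] T A B n ⊗[A] A' :=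
  Algebra.TensorProduct.map (SymTen.TS A B n).val (AlgHom.id A A')

/-- The base change of the affine symmetric power is the quotient. -/
theorem isQuot_TS_baseChange [Module.Flat A B] :
    SGA1.IsQuot (specAct (permHomBC A B n A'))
      (Spec.map (CommRingCat.ofHom (R := SymTen.TS A B n ⊗[A] A') (S := T A B n ⊗[A] A')
        (valBC A B n A').toRingHom)) := by
  have hTS : Subalgebra.toSubmodule (SymTen.TS A B n) = inv A B n :=
    Submodule.ext fun t => (mem_inv (R := A) (M := B) (t := t)).symm
  let el : SymTen.TS A B n ≃ₗ[A] inv A B n := LinearEquiv.ofEq _ _ hTS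
  have hlin : (valBC A B n A').toLinearMap =
      (inv A B n).subtype.rTensor A' ∘ₗ (el.rTensor A').toLinearMap :=
    TensorProduct.ext' fun t a => rfl
  have hval : ∀ x, valBC A B n A' x =
      (inv A B n).subtype.rTensor A' (el.rTensor A' x) := fun x => LinearMap.congr_fun hlin x
  refine isQuot_specAct _ _ (fun σ x => ?_) ?_ fun r hr => ?_
  · show permHomBC A B n A' σ (valBC A B n A' x) = valBC A B n A' x
    induction x with
    | zero => simp
    | tmul t a =>
      rw [show valBC A B n A' (t ⊗ₜ a) = (t : T A B n) ⊗ₜ a from rfl, permHomBC_tmul,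
        permHomT_apply, t.2 σ.down]
    | add x y hx hy => simp only [map_add, hx, hy]
  · show Function.Injective (valBC A B n A')
    rw [funext hval]
    exact (inv_rTensor_injective (R := A) (M := B) (n := n) (N := A')).comp (el.rTensor A').injective
  · obtain ⟨z, hz⟩ := mem_range_inv_rTensor r fun σ => by
      refine Eq.trans ?_ (hr ⟨σ⟩)
      clear hr
      induction r with
      | zero => simp
      | tmul t a => rw [permHomBC_tmul, permHomT_apply]; rfl
      | add x y hx hy => simp only [map_add, hx, hy]
    refine ⟨(el.rTensor A').symm z, ?_⟩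
    show valBC A B n A' _ = r
    rw [hval, LinearEquiv.apply_symm_apply, hz]

end Groth.Agent.FlatSymLib
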