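import Groth.Agent.FlatSymLib.SymFlat
import Groth.Agent.FlatSymLib.FibPow
import Groth.Agent.QuotLib.FlatBC
import Groth.Agent.QuotLib.Reynolds

/-! The product of two quotients is the quotient by the product group. -/

set_option autoImplicit false
set_option backward.isDefEq.respectTransparency false
set_option backward.isDefEq.respectTransparency.types false
set_option linter.style.haveILetI false
universe u
open CategoryTheory CategoryTheory.Limits AlgebraicGeometry TopologicalSpace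

noncomputable section

namespace Groth.Agent.FlatSymLib

/-- A quotient in two steps. -/
theorem isQuot_two_step {A B C : Scheme.{u}} {G₁ G₂ : Type} [Group G₁] [Group G₂]
    {ρ : ULift.{u} (G₁ × G₂) →* Aut A} {ρ₁ : ULift.{u} G₁ →* Aut A} {ρ₂ : ULift.{u} G₂ →* Aut B}
    {m₁ : A ⟶ B} {m₂ : B ⟶ C} (h₁ : SGA1.IsQuot ρ₁ m₁) (h₂ : SGA1.IsQuot ρ₂ m₂)
    (hρ₁ : ∀ σ, ρ₁ σ = ρ ⟨(σ.down, 1)⟩)
    (hρ₂ : ∀ σ, (ρ σ).hom ≫ m₁ = m₁ ≫ (ρ₂ ⟨σ.down.2⟩).hom) :
    SGA1.IsQuot ρ (m₁ ≫ m₂) := by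
  haveI := h₁.affine
  haveI := h₂.affine
  have hinv : ∀ σ, (ρ σ).hom ≫ m₁ ≫ m₂ = m₁ ≫ m₂ := fun σ => by
    rw [← Category.assoc, hρ₂, Category.assoc, h₂.inv]
  refine QuotLib.isQuot_of_basis hinv Set.univ (Opens.isBasis_iff_nbhd.2 fun {W} {x} hx => ⟨W, trivial, hx, le_rfl⟩)
    (fun V _ => ?_) (fun V _ s hs => ?_)
  · rw [Scheme.Hom.comp_app]
    exact (h₁.injective _).comp (h₂.injective V)
  · obtain ⟨t, ht⟩ := (h₁.range_iff (m₂ ⁻¹ᵁ V) s).2 fun σ => by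
      refine Eq.trans ?_ (hs ⟨(σ.down, 1)⟩)
      congr 3
      rw [hρ₁]
    obtain ⟨r, hr⟩ := (h₂.range_iff V t).2 fun τ => by
      refine h₁.injective (m₂ ⁻¹ᵁ V) ?_
      rw [ht]
      conv_rhs => rw [← hs ⟨(1, τ.down)⟩, ← ht]
      show ((ρ₂ τ).hom.appLE (m₂ ⁻¹ᵁ V) (m₂ ⁻¹ᵁ V) _ ≫ m₁.app (m₂ ⁻¹ᵁ V)).hom t =
        (m₁.app (m₂ ⁻¹ᵁ V) ≫ (ρ ⟨(1, τ.down)⟩).hom.appLE (m₁ ⁻¹ᵁ (m₂ ⁻¹ᵁ V)) (m₁ ⁻¹ᵁ (m₂ ⁻¹ᵁ V))
          (SGA1.preimage_le_of_inv ρ (m₁ ≫ m₂) hinv ⟨(1, τ.down)⟩ V)).hom t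
      refine congrArg (fun φ : Γ(B, m₂ ⁻¹ᵁ V) ⟶ Γ(A, m₁ ⁻¹ᵁ (m₂ ⁻¹ᵁ V)) => φ.hom t) ?_
      simp only [← Scheme.Hom.appLE_eq_app, Scheme.Hom.appLE_comp_appLE]
      congr 1
      exact (hρ₂ ⟨(1, τ.down)⟩).symm
    refine ⟨r, ?_⟩
    rw [Scheme.Hom.comp_app]
    show (m₁.app (m₂ ⁻¹ᵁ V)).hom ((m₂.app V).hom r) = s
    rw [hr]
    exact ht

variable {P S Z : Scheme.{u}} {G : Type u} [Group G]

/-- An action over the base, pulled back. -/
def pullMap (a : P ⟶ S) (b : Z ⟶ S) (ρ : G →* Aut Z) (h : ∀ g, (ρ g).hom ≫ b = b) (g : G) :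
    pullback a b ⟶ pullback a b :=
  pullback.lift (pullback.fst a b) (pullback.snd a b ≫ (ρ g).hom)
    (by rw [Category.assoc, h g, pullback.condition])

theorem pullMap_comp (a : P ⟶ S) (b : Z ⟶ S) (ρ : G →* Aut Z) (h : ∀ g, (ρ g).hom ≫ b = b) (g g' : G) :
    pullMap a b ρ h g' ≫ pullMap a b ρ h g = pullMap a b ρ h (g * g') := by
  have : (ρ (g * g')).hom = (ρ g').hom ≫ (ρ g).hom := by rw [map_mul]; rfl
  apply pullback.hom_ext <;> simp [pullMap, this, -map_mul]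

theorem pullMap_one (a : P ⟶ S) (b : Z ⟶ S) (ρ : G →* Aut Z) (h : ∀ g, (ρ g).hom ≫ b = b) :
    pullMap a b ρ h 1 = 𝟙 _ := by
  have : (ρ 1).hom = 𝟙 Z := by rw [map_one]; rfl
  apply pullback.hom_ext <;> simp [pullMap, this, -map_one]

/-- An action over the base, pulled back. -/
def pullAct (a : P ⟶ S) (b : Z ⟶ S) (ρ : G →* Aut Z) (h : ∀ g, (ρ g).hom ≫ b = b) : G →* Aut (pullback a b) where
  toFun g :=
    { hom := pullMap a b ρ h g
      inv := pullMap a b ρ h g⁻¹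
      hom_inv_id := by rw [pullMap_comp, inv_mul_cancel, pullMap_one]
      inv_hom_id := by rw [pullMap_comp, mul_inv_cancel, pullMap_one] }
  map_one' := Iso.ext (pullMap_one a b ρ h)
  map_mul' g g' := Iso.ext (pullMap_comp a b ρ h g g').symm

@[reassoc]
theorem pullAct_fst (a : P ⟶ S) (b : Z ⟶ S) (ρ : G →* Aut Z) (h : ∀ g, (ρ g).hom ≫ b = b) (g : G) :
    (pullAct a b ρ h g).hom ≫ pullback.fst a b = pullback.fst a b :=
  pullback.lift_fst _ _ _

@[reassoc]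
theorem pullAct_snd (a : P ⟶ S) (b : Z ⟶ S) (ρ : G →* Aut Z) (h : ∀ g, (ρ g).hom ≫ b = b) (g : G) :
    (pullAct a b ρ h g).hom ≫ pullback.snd a b = pullback.snd a b ≫ (ρ g).hom :=
  pullback.lift_snd _ _ _

theorem isUnit_natCast_top {Y S : Scheme.{u}} (g : Y ⟶ S) {m : ℕ} (hm : IsUnit (m : Γ(S, ⊤))) :
    IsUnit (m : Γ(Y, ⊤)) := by
  simpa using hm.map g.appTop.hom

theorem natCard_perm (d : ℕ) : Nat.card (ULift.{u} (Equiv.Perm (Fin d))) = d.factorial := by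
  rw [Nat.card_eq_fintype_card, Fintype.card_ulift, Fintype.card_perm, Fintype.card_fin]

theorem isQuot_prod {X Z S P Q : Scheme.{u}} (f : X ⟶ S) (g : Z ⟶ S) (d e : ℕ)
    (h : (Flat f ∧ Flat g) ∨ ∀ n : ℕ, 0 < n → IsUnit ((n : ℕ) : Γ(S, ⊤)))
    (qX : SymProd.fibPow f d ⟶ P) (pP : P ⟶ S) (hqX : SymProd.IsSymProd f d qX pP)
    (qZ : SymProd.fibPow g e ⟶ Q) (pQ : Q ⟶ S) (hqZ : SymProd.IsSymProd g e qZ pQ)
    (ρ : ULift.{u} (Equiv.Perm (Fin d) × Equiv.Perm (Fin e)) →*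
      Aut (pullback (WidePullback.base fun _ : Fin d => f) (WidePullback.base fun _ : Fin e => g)))
    (hρ : ∀ σ, (ρ σ).hom ≫ pullback.fst (WidePullback.base fun _ : Fin d => f) (WidePullback.base fun _ : Fin e => g) =
        pullback.fst (WidePullback.base fun _ : Fin d => f) (WidePullback.base fun _ : Fin e => g) ≫
          SymProd.permHom f d σ.down.1 ∧
      (ρ σ).hom ≫ pullback.snd (WidePullback.base fun _ : Fin d => f) (WidePullback.base fun _ : Fin e => g) =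
        pullback.snd (WidePullback.base fun _ : Fin d => f) (WidePullback.base fun _ : Fin e => g) ≫
          SymProd.permHom g e σ.down.2) :
    SGA1.IsQuot ρ (pullback.map (WidePullback.base fun _ : Fin d => f) (WidePullback.base fun _ : Fin e => g) pP pQ
      qX qZ (𝟙 S) ((Category.comp_id _).trans hqX.over.symm) ((Category.comp_id _).trans hqZ.over.symm)) := by
  let bX := WidePullback.base fun _ : Fin d => f
  let bZ := WidePullback.base fun _ : Fin e => g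
  let incl : ULift.{u} (Equiv.Perm (Fin d)) →* ULift.{u} (Equiv.Perm (Fin d) × Equiv.Perm (Fin e)) :=
    { toFun := fun σ => ⟨(σ.down, 1)⟩, map_one' := rfl, map_mul' := fun a b => by ext <;> simp }
  let ρ₁ := ρ.comp incl
  let ρ₂ : ULift.{u} (Equiv.Perm (Fin e)) →* Aut (pullback pP bZ) := pullAct pP bZ (SymProd.permActU g e)
    (fun τ => by rw [SymProd.permActU_hom]; exact SymProd.permHom_base g e τ.down)
  let m₁ : pullback bX bZ ⟶ pullback pP bZ := pullback.map bX bZ pP bZ qX (𝟙 _) (𝟙 S)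
    ((Category.comp_id _).trans hqX.over.symm) ((Category.comp_id _).trans (Category.id_comp _).symm)
  let m₂ : pullback pP bZ ⟶ pullback pP pQ := pullback.map pP bZ pP pQ (𝟙 _) qZ (𝟙 S)
    ((Category.comp_id _).trans (Category.id_comp _).symm) ((Category.comp_id _).trans hqZ.over.symm)
  have c₁ : IsPullback (pullback.fst bX bZ) m₁ qX (pullback.fst pP bZ) := by
    refine (IsPullback.of_bot ?_ (pullback.lift_fst _ _ _).symm (IsPullback.of_hasPullback pP bZ) :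
      IsPullback (pullback.fst bX bZ) m₁ qX (pullback.fst pP bZ))
    rw [show m₁ ≫ pullback.snd pP bZ = pullback.snd bX bZ from (pullback.lift_snd _ _ _).trans (Category.comp_id _),
      hqX.over]
    exact IsPullback.of_hasPullback bX bZ
  have c₂ : IsPullback (pullback.snd pP bZ) m₂ qZ (pullback.snd pP pQ) := by
    refine (IsPullback.of_bot ?_ (pullback.lift_snd _ _ _).symm (IsPullback.of_hasPullback pP pQ).flip :
      IsPullback (pullback.snd pP bZ) m₂ qZ (pullback.snd pP pQ))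
    rw [show m₂ ≫ pullback.fst pP pQ = pullback.fst pP bZ from (pullback.lift_fst _ _ _).trans (Category.comp_id _),
      hqZ.over]
    exact (IsPullback.of_hasPullback pP bZ).flip
  have hm₁ : ∀ σ, (ρ σ).hom ≫ m₁ = m₁ ≫ (ρ₂ ⟨σ.down.2⟩).hom := fun σ => by
    apply pullback.hom_ext
    · rw [Category.assoc, Category.assoc, pullAct_fst]
      show (ρ σ).hom ≫ pullback.lift _ _ _ ≫ _ = pullback.lift _ _ _ ≫ _
      rw [pullback.lift_fst, ← Category.assoc, (hρ σ).1, Category.assoc]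
      congr 1
      exact hqX.isQuot.inv ⟨σ.down.1⟩
    · rw [Category.assoc, Category.assoc, pullAct_snd]
      show (ρ σ).hom ≫ pullback.lift _ _ _ ≫ _ = pullback.lift _ _ _ ≫ _ ≫ _
      rw [pullback.lift_snd_assoc, pullback.lift_snd, Category.comp_id, (hρ σ).2, SymProd.permActU_hom]
  have h1inv : ∀ σ, (ρ₁ σ).hom ≫ m₁ = m₁ := fun σ => by
    refine (hm₁ (incl σ)).trans ?_
    rw [show ρ₂ ⟨(incl σ).down.2⟩ = 1 from map_one ρ₂]
    exact Category.comp_id _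
  have h1eq : ∀ σ, (ρ₁ σ).hom ≫ pullback.fst bX bZ = pullback.fst bX bZ ≫ (SymProd.permActU f d σ).hom := fun σ => by
    rw [SymProd.permActU_hom]; exact (hρ (incl σ)).1
  have h2eq : ∀ τ, (ρ₂ τ).hom ≫ pullback.snd pP bZ = pullback.snd pP bZ ≫ (SymProd.permActU g e τ).hom := fun τ =>
    pullAct_snd _ _ _ _ τ
  have h2inv : ∀ τ, (ρ₂ τ).hom ≫ m₂ = m₂ := fun τ => by
    apply pullback.hom_ext
    · show ((ρ₂ τ).hom ≫ pullback.lift _ _ _) ≫ _ = pullback.lift _ _ _ ≫ _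
      rw [Category.assoc, pullback.lift_fst, Category.comp_id, pullAct_fst]
    · show ((ρ₂ τ).hom ≫ pullback.lift _ _ _) ≫ _ = pullback.lift _ _ _ ≫ _
      rw [Category.assoc, pullback.lift_snd, ← Category.assoc, pullAct_snd, Category.assoc]
      congr 1
      exact hqZ.isQuot.inv τ
  have hq₁₂ : SGA1.IsQuot ρ₁ m₁ ∧ SGA1.IsQuot ρ₂ m₂ := by
    rcases h with ⟨hf, hg⟩ | hu
    · haveI : Flat pP := flat_of_isSymProd f d qX pP hqX
      haveI : MorphismProperty.ContainsIdentities @Flat.{u} := ⟨fun X => inferInstance⟩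
      haveI : Flat bZ := base_mem g @Flat.{u} hg e
      haveI : Flat (pullback.fst pP bZ) := inferInstance
      haveI : Flat (pullback.snd pP pQ) := inferInstance
      exact ⟨QuotLib.isQuot_of_isPullback_flat hqX.isQuot c₁ ρ₁ h1eq h1inv,
        QuotLib.isQuot_of_isPullback_flat hqZ.isQuot c₂ ρ₂ h2eq h2inv⟩
    · exact ⟨QuotLib.isQuot_of_isPullback hqX.isQuot c₁ ρ₁ h1eq h1inv
          (by rw [natCard_perm]; exact isUnit_natCast_top pP (hu _ d.factorial_pos)),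
        QuotLib.isQuot_of_isPullback hqZ.isQuot c₂ ρ₂ h2eq h2inv
          (by rw [natCard_perm]; exact isUnit_natCast_top pQ (hu _ e.factorial_pos))⟩
  have := isQuot_two_step hq₁₂.1 hq₁₂.2 (fun σ => rfl) hm₁
  convert this using 1
  apply pullback.hom_ext <;> simp [m₁, m₂, pullback.map, bX, bZ]

end Groth.Agent.FlatSymLib
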