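import Mathlib.RingTheory.Localization.Away.Basic
import Mathlib.GroupTheory.Coset.Card
import Mathlib.GroupTheory.OrderOfElement
import Mathlib.GroupTheory.GroupAction.Quotient
import Mathlib.RingTheory.Ideal.Maps
import Mathlib.LinearAlgebra.Span.Basic

/-! Invariants near a prime are invariants of its stabilizer: transfer along charts and partial traces. -/

set_option autoImplicit false
universe u

namespace Groth.Agent.FlatSymLib

/-- An invariant element of a localization at an invariant element has an invariant numerator. -/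
theorem exists_fixed_num {ι : Type*} [Finite ι] {A L : Type*} [CommRing A] [CommRing L] [Algebra A L] (g : A)
    [IsLocalization.Away g L] (σ : ι → (A →+* A)) (τ : ι → (L →+* L))
    (hτ : ∀ i a, τ i (algebraMap A L a) = algebraMap A L (σ i a)) (hg : ∀ i, σ i g = g) {y : L}
    (hy : ∀ i, τ i y = y) :
    ∃ (a : A) (k : ℕ), (∀ i, σ i a = a) ∧ y * algebraMap A L g ^ k = algebraMap A L a := by
  classical
  cases nonempty_fintype ι
  obtain ⟨⟨a, ⟨_, k, rfl⟩⟩, ha⟩ := IsLocalization.surj (Submonoid.powers g) y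
  simp only [map_pow] at ha
  have h : ∀ i, ∃ m, g ^ m * σ i a = g ^ m * a := fun i => by
    have h0 : algebraMap A L (σ i a) = algebraMap A L a := by
      rw [← hτ, ← ha, map_mul, map_pow, hy, hτ, hg]
    obtain ⟨⟨_, m, rfl⟩, hm⟩ := (IsLocalization.eq_iff_exists (Submonoid.powers g) _).1 h0
    exact ⟨m, hm⟩
  choose m hm using h
  refine ⟨g ^ Finset.univ.sup m * a, k + Finset.univ.sup m, fun i => ?_, ?_⟩
  · obtain ⟨r, hr⟩ := Nat.exists_eq_add_of_le (Finset.le_sup (f := m) (Finset.mem_univ i))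
    rw [map_mul, map_pow, hg, hr, pow_add, mul_comm (g ^ m i), mul_assoc, hm, mul_assoc]
  · rw [map_mul, map_pow, pow_add, ← mul_assoc, ha, mul_comm]

section transfer

variable {ι : Type*} [Finite ι] {R' A A' T T' L L' : Type*} [CommRing R'] [CommRing A] [CommRing A'] [CommRing T]
  [CommRing T'] [CommRing L] [CommRing L'] [Algebra A L] [Algebra T L] [Algebra A' L'] [Algebra T' L']
  [Algebra R' A'] [Algebra R' T'] [Algebra R' L'] [IsScalarTower R' A' L'] [IsScalarTower R' T' L']

/-- Invariants transferred from a chart: up to a power of `g`, an invariant of `A'` comes from invariants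
of `A`. -/
theorem exists_pow_mul_mem_span (π : A →+* A') (κ : T →+* T') (ρ : L →+* L')
    (hρA : ∀ a, ρ (algebraMap A L a) = algebraMap A' L' (π a))
    (hρT : ∀ t, ρ (algebraMap T L t) = algebraMap T' L' (κ t))
    (g : A) [IsLocalization.Away g L] [IsLocalization.Away (π g) L']
    (h : T) (hh : IsUnit (algebraMap T L h)) [IsLocalization.Away (κ h) L']
    (σA : ι → (A →+* A)) (σT : ι → (T →+* T)) (σT' : ι → (T' →+* T')) (σA' : ι → (A' →+* A'))
    (σL : ι → (L →+* L)) (σL' : ι → (L' →+* L'))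
    (hA : ∀ i a, σL i (algebraMap A L a) = algebraMap A L (σA i a))
    (hT : ∀ i t, σL i (algebraMap T L t) = algebraMap T L (σT i t))
    (hA' : ∀ i a, σL' i (algebraMap A' L' a) = algebraMap A' L' (σA' i a))
    (hT' : ∀ i t, σL' i (algebraMap T' L' t) = algebraMap T' L' (σT' i t))
    (hg : ∀ i, σA i g = g) (hfh : ∀ i, σT i h = h) (hfh' : ∀ i, σT' i (κ h) = κ h)
    (hspan : ∀ t', (∀ i, σT' i t' = t') → t' ∈ Submodule.span R' (κ '' {t | ∀ i, σT i t = t}))
    {s : A'} (hs : ∀ i, σA' i s = s) :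
    ∃ M : ℕ, π g ^ M * s ∈ Submodule.span R' (π '' {a | ∀ i, σA i a = a}) := by
  obtain ⟨t', k, ht', hst⟩ := exists_fixed_num (L := L') (κ h) σT' σL' hT' hfh'
    (y := algebraMap A' L' s) (fun i => by rw [hA', hs])
  let P : L' → Prop := fun z => ∃ (K : ℕ) (w : A'),
    w ∈ Submodule.span R' (π '' {a | ∀ i, σA i a = a}) ∧ z * algebraMap A' L' (π g) ^ K = algebraMap A' L' w
  have hπg : ∀ (d : ℕ) {w : A'}, w ∈ Submodule.span R' (π '' {a | ∀ i, σA i a = a}) →
      π g ^ d * w ∈ Submodule.span R' (π '' {a | ∀ i, σA i a = a}) := by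
    intro d w hw
    induction hw using Submodule.span_induction with
    | mem x hx =>
      obtain ⟨a, ha, rfl⟩ := hx
      exact Submodule.subset_span ⟨g ^ d * a, fun i => by rw [map_mul, map_pow, hg, ha i], by rw [map_mul, map_pow]⟩
    | zero => rw [mul_zero]; exact zero_mem _
    | add x y _ _ hx hy => rw [mul_add]; exact add_mem hx hy
    | smul r x _ hx => rw [mul_smul_comm]; exact Submodule.smul_mem _ r hx
  obtain ⟨u, hu⟩ := hh
  have hu' : ∀ i, σL i (↑u⁻¹ : L) = ↑u⁻¹ := fun i => by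
    refine u.inv_eq_of_mul_eq_one_right ?_ |>.symm
    rw [hu, ← hfh i, ← hT, ← map_mul, ← hu, Units.mul_inv, map_one]
  have hz : ∀ w ∈ Submodule.span R' (κ '' {t | ∀ i, σT i t = t}),
      P (algebraMap T' L' w * ρ (↑u⁻¹ : L) ^ k) := by
    intro w hw
    induction hw using Submodule.span_induction with
    | mem x hx =>
      obtain ⟨t, ht, rfl⟩ := hx
      obtain ⟨a, K, ha, hy⟩ := exists_fixed_num (L := L) g σA σL hA hg
        (y := algebraMap T L t * (↑u⁻¹ : L) ^ k) (fun i => by rw [map_mul, map_pow, hu', hT, ht i])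
      refine ⟨K, π a, Submodule.subset_span ⟨a, ha, rfl⟩, ?_⟩
      rw [← hρT, ← map_pow, ← map_mul, ← hρA, ← map_pow, ← map_mul, hy, hρA]
    | zero => exact ⟨0, 0, zero_mem _, by simp⟩
    | add x y _ _ hx hy =>
      obtain ⟨K, v, hv, hv'⟩ := hx
      obtain ⟨K', v', hv1, hv2⟩ := hy
      refine ⟨K + K', π g ^ K' * v + π g ^ K * v', add_mem (hπg _ hv) (hπg _ hv1), ?_⟩
      simp only [map_add, map_mul, map_pow, ← hv', ← hv2, pow_add]
      ring
    | smul r x _ hx =>
      obtain ⟨K, v, hv, hv'⟩ := hx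
      refine ⟨K, r • v, Submodule.smul_mem _ r hv, ?_⟩
      simp only [Algebra.smul_def, map_mul, ← IsScalarTower.algebraMap_apply, ← hv']
      ring
  obtain ⟨K, w, hw, hKw⟩ := hz t' (hspan t' ht')
  have h1 : algebraMap A' L' (π g ^ K * s) = algebraMap A' L' w := by
    rw [← hKw, ← hst, mul_assoc _ (algebraMap T' L' (κ h) ^ k), ← mul_pow, ← hρT, ← hu, ← map_mul,
      Units.mul_inv, map_one, one_pow, mul_one, map_mul, map_pow, mul_comm]
  obtain ⟨⟨_, m, rfl⟩, hm⟩ := (IsLocalization.eq_iff_exists (Submonoid.powers (π g)) _).1 h1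
  refine ⟨m + K, ?_⟩
  rw [pow_add, mul_assoc]
  exact hm ▸ hπg m hw

end transfer

section trace

variable {G : Type*} [Group G] [Finite G] {R' A A' : Type*} [CommRing R'] [CommRing A] [CommRing A'] [Algebra R' A']

/-- The stabilizer of a prime. -/
def stabPrime (σ : G →* (A →+* A)) (P : Ideal A) : Subgroup G where
  carrier := {τ | P.comap (σ τ) = P}
  one_mem' := by
    show P.comap (σ 1) = P
    rw [map_one]
    exact Ideal.comap_id P
  mul_mem' {a b} ha hb := by
    show P.comap (σ (a * b)) = P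
    rw [map_mul]
    show P.comap ((σ a).comp (σ b)) = P
    rw [← Ideal.comap_comap, ha, hb]
  inv_mem' {a} ha := by
    show P.comap (σ a⁻¹) = P
    conv_lhs => rw [← show P.comap (σ a) = P from ha]
    rw [Ideal.comap_comap]
    show P.comap (σ a * σ a⁻¹) = P
    rw [← map_mul, mul_inv_cancel, map_one]
    exact Ideal.comap_id P

theorem exists_sep (σ : G →* (A →+* A)) (P : Ideal A) [P.IsPrime] :
    ∃ e : A, e ∉ P ∧ (∀ τ ∈ stabPrime σ P, σ τ e = e) ∧ ∀ τ ∉ stabPrime σ P, σ τ e ∈ P := by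
  classical
  cases nonempty_fintype G
  have hnle : ∀ τ ∉ stabPrime σ P, ∃ b, σ τ b ∈ P ∧ b ∉ P := by
    intro τ hτ
    by_contra hne
    push Not at hne
    refine hτ (le_antisymm (fun b hb => hne b hb) fun b hb => ?_)
    have key : ∀ k : ℕ, ∀ c, σ (τ ^ k) c ∈ P → c ∈ P := by
      intro k
      induction k with
      | zero => intro c hc; rwa [pow_zero, map_one] at hc
      | succ k ih =>
        intro c hc
        rw [pow_succ', map_mul] at hc
        exact ih c (hne _ hc)
    refine key (orderOf τ - 1) _ ?_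
    have : σ (τ ^ (orderOf τ - 1)) (σ τ b) = b := by
      show (σ (τ ^ (orderOf τ - 1)) * σ τ) b = b
      rw [← map_mul, ← pow_succ, Nat.sub_add_cancel (orderOf_pos τ), pow_orderOf_eq_one, map_one]
      rfl
    rw [this]
    exact hb
  choose b hb hb' using hnle
  let H := stabPrime σ P
  refine ⟨∏ ρ : H, ∏ τ : {τ : G // τ ∉ H}, σ ρ (b τ.1 τ.2), ?_, fun τ hτ => ?_, fun τ hτ => ?_⟩
  · intro h
    obtain ⟨ρ, -, h⟩ := (Ideal.IsPrime.prod_mem_iff).1 h
    obtain ⟨τ, -, h⟩ := (Ideal.IsPrime.prod_mem_iff).1 h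
    exact hb' τ.1 τ.2 ((SetLike.ext_iff.1 ρ.2 _).1 h)
  · simp only [map_prod]
    refine Fintype.prod_equiv (Equiv.mulLeft (⟨τ, hτ⟩ : H)) _ _ fun ρ => Finset.prod_congr rfl fun x _ => ?_
    show (σ τ * σ ρ) _ = σ (τ * ρ) _
    rw [map_mul]
  · simp only [map_prod]
    refine (Ideal.IsPrime.prod_mem_iff).2 ⟨1, Finset.mem_univ _, (Ideal.IsPrime.prod_mem_iff).2 ⟨⟨τ, hτ⟩, Finset.mem_univ _, ?_⟩⟩
    rw [OneMemClass.coe_one, map_one]
    exact hb τ hτ

/-- An invariant which up to a power of `g` comes from invariants of the stabilizer comes, up to an invariant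
outside the prime, from invariants. -/
theorem exists_mul_mem_span (σ : G →* (A →+* A)) (σ' : G →* (A' →+* A')) (π : A →+* A')
    (hπ : ∀ τ a, π (σ τ a) = σ' τ (π a)) (hR : ∀ τ r, σ' τ (algebraMap R' A' r) = algebraMap R' A' r)
    (P : Ideal A) [P.IsPrime] (g : A) (hg : g ∉ P) (hgf : ∀ τ ∈ stabPrime σ P, σ τ g = g) {s : A'}
    (hs : ∀ τ, σ' τ s = s) (M : ℕ)
    (hM : π g ^ M * s ∈ Submodule.span R' (π '' {a | ∀ τ ∈ stabPrime σ P, σ τ a = a})) :
    ∃ c, (∀ τ, σ τ c = c) ∧ c ∉ P ∧ π c * s ∈ Submodule.span R' (π '' {a | ∀ τ, σ τ a = a}) := by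
  classical
  cases nonempty_fintype G
  obtain ⟨e, he, hef, hem⟩ := exists_sep σ P
  let H := stabPrime σ P
  haveI : Fintype (G ⧸ H) := Fintype.ofFinite _
  let tr : A → A := fun a => ∑ x : G ⧸ H, σ x.out a
  let tr' : A' → A' := fun a => ∑ x : G ⧸ H, σ' x.out a
  have hout : ∀ (a : A), (∀ τ ∈ H, σ τ a = a) → ∀ τ : G, σ (τ : G ⧸ H).out a = σ τ a := by
    intro a ha τ
    obtain ⟨y, hy⟩ := QuotientGroup.mk_out_eq_mul H τ
    rw [hy, map_mul]
    show σ τ (σ y.1 a) = _
    rw [ha y.1 y.2]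
  have htr : ∀ a, (∀ τ ∈ H, σ τ a = a) → ∀ τ, σ τ (tr a) = tr a := by
    intro a ha τ
    simp only [tr, map_sum]
    refine Fintype.sum_equiv (MulAction.toPerm τ) _ _ fun x => ?_
    show σ τ (σ x.out a) = σ (τ • x).out a
    rw [show τ • x = ((τ * x.out : G) : G ⧸ H) by
      conv_lhs => rw [← QuotientGroup.out_eq' x]
      rfl, hout a ha, map_mul]
    rfl
  have hc : ∀ τ ∈ H, σ τ (e * g ^ M) = e * g ^ M := fun τ hτ => by rw [map_mul, map_pow, hef τ hτ, hgf τ hτ]
  refine ⟨tr (e * g ^ M), htr _ hc, fun h => ?_, ?_⟩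
  · have h1 : σ ((1 : G) : G ⧸ H).out (e * g ^ M) ∈ P := by
      have h2 : ∑ x ∈ Finset.univ.erase ((1 : G) : G ⧸ H), σ x.out (e * g ^ M) ∈ P := by
        refine P.sum_mem fun x hx => ?_
        rw [map_mul]
        refine P.mul_mem_right _ (hem _ fun hxH => (Finset.ne_of_mem_erase hx) ?_)
        rw [← QuotientGroup.out_eq' x]
        exact QuotientGroup.eq.2 (by simpa using hxH)
      have h3 := h
      simp only [tr] at h3
      rw [← Finset.add_sum_erase _ _ (Finset.mem_univ ((1 : G) : G ⧸ H))] at h3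
      exact (P.add_mem_iff_left h2).1 h3
    rw [hout _ hc, map_one] at h1
    exact ((Ideal.IsPrime.mem_or_mem ‹_› h1).elim he fun h => hg (Ideal.IsPrime.mem_of_pow_mem ‹_› _ h))
  · have key : π (tr (e * g ^ M)) * s = tr' (π e * (π g ^ M * s)) := by
      simp only [tr, tr', map_sum, Finset.sum_mul]
      refine Finset.sum_congr rfl fun x _ => ?_
      rw [← mul_assoc, map_mul (σ' x.out), map_mul (σ' x.out), hs, map_mul (σ x.out), map_mul π, hπ, hπ, map_pow]
    rw [key]
    clear key
    generalize π g ^ M * s = z at hM ⊢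
    induction hM using Submodule.span_induction with
    | mem x hx =>
      obtain ⟨a, ha, rfl⟩ := hx
      refine Submodule.subset_span ⟨tr (e * a), htr _ fun τ hτ => by rw [map_mul, hef τ hτ, ha τ hτ], ?_⟩
      simp only [tr, tr', map_sum, ← map_mul π, ← hπ]
    | zero => simp [tr']
    | add x y _ _ hx hy =>
      have : tr' (π e * (x + y)) = tr' (π e * x) + tr' (π e * y) := by
        simp only [tr', mul_add, map_add, Finset.sum_add_distrib]
      rw [this]
      exact add_mem hx hy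
    | smul r x _ hx =>
      have : tr' (π e * (r • x)) = r • tr' (π e * x) := by
        simp only [tr', Algebra.smul_def, Finset.mul_sum]
        refine Finset.sum_congr rfl fun y _ => ?_
        rw [← mul_assoc, mul_comm (π e), mul_assoc, map_mul, hR]
      rw [this]
      exact Submodule.smul_mem _ r hx

/-- An invariant locally coming from invariants comes from invariants. -/
theorem mem_of_local {B : Type*} [CommRing B] (ψ : B →+* A') (s : A') (S : Subring A') (hS : ∀ b, ψ b ∈ S)
    (h : ∀ p : Ideal B, p.IsPrime → ∃ c, c ∉ p ∧ ψ c * s ∈ S) : s ∈ S := by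
  let J : Ideal B :=
    { carrier := {b | ψ b * s ∈ S}
      add_mem' := fun {a b} ha hb => by
        show ψ (a + b) * s ∈ S
        rw [map_add, add_mul]
        exact S.add_mem ha hb
      zero_mem' := by
        show ψ 0 * s ∈ S
        rw [map_zero, zero_mul]
        exact S.zero_mem
      smul_mem' := fun c b hb => by
        show ψ (c * b) * s ∈ S
        rw [map_mul, mul_assoc]
        exact S.mul_mem (hS c) hb }
  have hJ : J = ⊤ := by
    by_contra hne
    obtain ⟨p, hp, hJp⟩ := Ideal.exists_le_maximal J hne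
    obtain ⟨c, hc, hcs⟩ := h p hp.isPrime
    exact hc (hJp hcs)
  have : (1 : B) ∈ J := by rw [hJ]; trivial
  simpa [J] using this

end trace

end Groth.Agent.FlatSymLib
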