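import Groth.Agent.FlatSymLib.SurjTensor

/-! A chart of the fibre power adapted to a tuple of affine opens. -/

set_option autoImplicit false
set_option backward.isDefEq.respectTransparency false
set_option backward.isDefEq.respectTransparency.types false
set_option linter.style.haveILetI false
universe u
open CategoryTheory CategoryTheory.Limits AlgebraicGeometry TensorProduct

noncomputable section

namespace Groth.Agent.FlatSymLib

variable {X S : Scheme.{u}} {J : Type u} [Fintype J] [DecidableEq J]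

/-- The disjoint union of finitely many affine opens. -/
def piSpec (U : J → X.Opens) (hU : ∀ j, IsAffineOpen (U j)) :
    Spec (CommRingCat.of (∀ j, Γ(X, U j))) ⟶ X :=
  let R : J → CommRingCat.{u} := fun j => CommRingCat.of Γ(X, U j)
  CategoryTheory.inv (sigmaSpec R) ≫ Sigma.desc fun j => (hU j).fromSpec

omit [DecidableEq J] in
theorem eval_piSpec (U : J → X.Opens) (hU : ∀ j, IsAffineOpen (U j)) (j : J) :
    Spec.map (CommRingCat.ofHom (Pi.evalRingHom (fun j => (Γ(X, U j) : Type u)) j)) ≫ piSpec U hU =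
      (hU j).fromSpec := by
  let R : J → CommRingCat.{u} := fun j => CommRingCat.of Γ(X, U j)
  show Spec.map _ ≫ CategoryTheory.inv (sigmaSpec R) ≫ Sigma.desc (fun j => (hU j).fromSpec) = _
  rw [← ι_sigmaSpec R j, Category.assoc, IsIso.hom_inv_id_assoc, Sigma.ι_desc]

omit [DecidableEq J] in
theorem piSpec_ext {U : J → X.Opens} {Z : Scheme.{u}}
    {a b : Spec (CommRingCat.of (∀ j, Γ(X, U j))) ⟶ Z}
    (h : ∀ j, Spec.map (CommRingCat.ofHom (Pi.evalRingHom (fun j => (Γ(X, U j) : Type u)) j)) ≫ a =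
      Spec.map (CommRingCat.ofHom (Pi.evalRingHom (fun j => (Γ(X, U j) : Type u)) j)) ≫ b) : a = b := by
  rw [← cancel_epi (sigmaSpec fun j => CommRingCat.of Γ(X, U j))]
  refine Sigma.hom_ext _ _ fun j => ?_
  rw [ι_sigmaSpec_assoc, ι_sigmaSpec_assoc]
  exact h j

theorem range_eval {M : J → Type u} [∀ j, CommRing (M j)] (j : J) :
    Set.range (PrimeSpectrum.comap (Pi.evalRingHom M j)) =
      (PrimeSpectrum.basicOpen (Pi.single j (1 : M j)) : Set (PrimeSpectrum (∀ j, M j))) := by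
  have hs : Function.Surjective (Pi.evalRingHom M j) := fun x => ⟨Pi.single j x, by simp⟩
  ext p
  rw [range_comap_of_surjective _ _ hs, PrimeSpectrum.mem_zeroLocus, SetLike.mem_coe,
    PrimeSpectrum.mem_basicOpen]
  constructor
  · intro h hp
    have : (1 - Pi.single j 1 : ∀ j, M j) ∈ p.asIdeal :=
      h (show Pi.evalRingHom M j _ = 0 by simp)
    exact p.isPrime.ne_top ((Ideal.eq_top_iff_one _).2 (by simpa using p.asIdeal.add_mem this hp))
  · intro h x (hx : x j = 0)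
    have : (Pi.single j 1 : ∀ j, M j) * x = 0 := by
      funext k
      by_cases hk : k = j
      · subst hk; simp [hx]
      · simp [Pi.single_eq_of_ne hk]
    exact (p.isPrime.mem_or_mem (this ▸ p.asIdeal.zero_mem)).resolve_left h

variable {A : Type u} [CommRing A] (B : Type u) [CommRing B] [Algebra A B]

/-- The function cutting out the component of a tuple. -/
def epsT {n : ℕ} (δ : Fin n → B) : T A B n :=
  ∏ i, PiTensorProduct.singleAlgHom (R := A) (A := fun _ : Fin n => B) i (δ i)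

theorem mem_basicOpen_epsT {n : ℕ} (δ : Fin n → B) (z : PrimeSpectrum (T A B n)) :
    z ∈ PrimeSpectrum.basicOpen (epsT (A := A) B δ) ↔
      ∀ i, proj A B n i z ∈ PrimeSpectrum.basicOpen (δ i) := by
  rw [PrimeSpectrum.mem_basicOpen, epsT, Ideal.IsPrime.prod_mem_iff]
  simp only [Finset.mem_univ, true_and, not_exists]
  exact Iff.rfl

theorem perm_epsT {n : ℕ} (δ : Fin n → B) (σ : Equiv.Perm (Fin n)) (hσ : ∀ i, δ (σ i) = δ i) :
    SymTen.perm A B n σ (epsT (A := A) B δ) = epsT (A := A) B δ := by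
  rw [epsT, map_prod]
  exact Fintype.prod_equiv σ _ _ fun i => by rw [perm_singleAlgHom, hσ]

theorem kT_epsT {R B' : Type u} [CommRing R] [CommRing B'] [Algebra R B'] [Algebra A R] [Algebra A B']
    [IsScalarTower A R B'] (φ : B →ₐ[A] B') {n : ℕ} (δ : Fin n → B) :
    kT (R := R) φ n (epsT (A := A) B δ) = epsT (A := R) B' (φ ∘ δ) := by
  rw [epsT, map_prod]
  exact Finset.prod_congr rfl fun i _ => kT_single φ n i _

/-- A chart of the fibre power at a tuple of affine opens. -/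
theorem exists_tuple_chart (f : X ⟶ S) (n : ℕ) (S₀ : S.Opens) (hS₀ : IsAffineOpen S₀) (c : Fin n → J)
    (U : J → X.Opens) (hU : ∀ j, IsAffineOpen (U j)) (hle : ∀ j, U j ≤ f ⁻¹ᵁ S₀)
    [∀ j, Algebra Γ(S, S₀) Γ(X, U j)]
    (halg : ∀ j, algebraMap Γ(S, S₀) Γ(X, U j) = (f.appLE S₀ (U j) (hle j)).hom) :
    ∃ e : Spec (CommRingCat.of (T Γ(S, S₀) (∀ j, Γ(X, U j)) n)) ⟶ SymProd.fibPow f n,
      e ≫ WidePullback.base (fun _ : Fin n => f) = toBase Γ(S, S₀) (∀ j, Γ(X, U j)) n ≫ hS₀.fromSpec ∧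
      (∀ i, e ≫ WidePullback.π (fun _ : Fin n => f) i = proj Γ(S, S₀) (∀ j, Γ(X, U j)) n i ≫ piSpec U hU) ∧
      (∀ σ, (specAct (permHomT Γ(S, S₀) (∀ j, Γ(X, U j)) n) σ).hom ≫ e = e ≫ (SymProd.permActU f n σ).hom) ∧
      IsOpenImmersion (Scheme.Opens.ι (X := Spec (CommRingCat.of (T Γ(S, S₀) (∀ j, Γ(X, U j)) n)))
        (PrimeSpectrum.basicOpen (epsT (A := Γ(S, S₀)) (∀ j, Γ(X, U j)) fun i => Pi.single (c i) 1)) ≫ e) ∧
      ∀ z, (∃ w, w ∈ PrimeSpectrum.basicOpen (epsT (A := Γ(S, S₀)) (∀ j, Γ(X, U j)) fun i => Pi.single (c i) 1) ∧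
          e w = z) ↔ (WidePullback.base (fun _ : Fin n => f) z ∈ S₀ ∧
        ∀ i, WidePullback.π (fun _ : Fin n => f) i z ∈ U (c i)) := by
  classical
  let A : Type u := Γ(S, S₀)
  let Bj : J → Type u := fun j => Γ(X, U j)
  let B : Type u := ∀ j, Bj j
  let ι : ∀ j, Spec (CommRingCat.of (Bj j)) ⟶ Spec (CommRingCat.of B) :=
    fun j => Spec.map (CommRingCat.ofHom (Pi.evalRingHom Bj j))
  haveI : ∀ j, IsOpenImmersion (ι j) := fun j => by
    show IsOpenImmersion (Spec.map _)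
    rw [← ι_sigmaSpec (fun j => CommRingCat.of (Bj j)) j]
    infer_instance
  let fS : Spec (CommRingCat.of A) ⟶ S := hS₀.fromSpec
  let fW : Spec (CommRingCat.of B) ⟶ X := piSpec U hU
  have hιW : ∀ j, ι j ≫ fW = (hU j).fromSpec := eval_piSpec U hU
  have hAB : Spec.map (CommRingCat.ofHom (algebraMap A B)) ≫ fS = fW ≫ f := by
    refine piSpec_ext fun j => ?_
    rw [← Category.assoc _ fW f, hιW j, ← Spec.map_comp_assoc,
      ← IsAffineOpen.SpecMap_appLE_fromSpec f hS₀ (hU j) (hle j)]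
    congr 2
    exact CommRingCat.hom_ext (halg j)
  let b : SymProd.fibPow f n ⟶ S := WidePullback.base (fun _ : Fin n => f)
  let π : Fin n → (SymProd.fibPow f n ⟶ X) := fun i => WidePullback.π (fun _ : Fin n => f) i
  let e : Spec (CommRingCat.of (T A B n)) ⟶ SymProd.fibPow f n :=
    WidePullback.lift (toBase A B n ≫ fS) (fun i => proj A B n i ≫ fW) (fun i => by
      rw [Category.assoc, ← hAB, ← Category.assoc, proj_arrow])
  have heb : e ≫ b = toBase A B n ≫ fS := WidePullback.lift_base ..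
  have heπ : ∀ i, e ≫ π i = proj A B n i ≫ fW := fun i => WidePullback.lift_π ..
  have hperm : ∀ σ, (specAct (permHomT A B n) σ).hom ≫ e = e ≫ (SymProd.permActU f n σ).hom := by
    intro σ
    rw [SymProd.permActU_hom]
    refine WidePullback.hom_ext _ _ _ (fun i => ?_) ?_
    · rw [Category.assoc, Category.assoc, SymProd.permHom_π]
      show _ ≫ e ≫ π i = e ≫ π _
      rw [heπ, heπ, ← Category.assoc, specAct_proj]
    · rw [Category.assoc, Category.assoc, SymProd.permHom_base]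
      show _ ≫ e ≫ b = e ≫ b
      rw [heb, ← Category.assoc, specAct_toBase]
  let E : (Spec (CommRingCat.of (T A B n))).Opens :=
    PrimeSpectrum.basicOpen (epsT (A := A) B fun i => Pi.single (c i) 1)
  have hE : ∀ z, z ∈ E ↔ ∀ i, proj A B n i z ∈ Set.range (ι (c i)) := by
    intro z
    refine (mem_basicOpen_epsT B _ z).trans (forall_congr' fun i => ?_)
    exact ((Set.ext_iff.1 (range_eval (M := Bj) (c i))) _).symm
  let l : ∀ i, E.toScheme ⟶ Spec (CommRingCat.of (Bj (c i))) := fun i =>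
    IsOpenImmersion.lift (ι (c i)) (E.ι ≫ proj A B n i) (by
    rintro _ ⟨z, rfl⟩
    rw [Scheme.Hom.comp_apply]
    exact (hE _).1 z.2 i)
  have hl : ∀ i, l i ≫ ι (c i) = E.ι ≫ proj A B n i := fun i => IsOpenImmersion.lift_fac ..
  have hψπ : ∀ i, (E.ι ≫ e) ≫ π i = l i ≫ (hU (c i)).fromSpec := fun i => by
    rw [Category.assoc, heπ, ← Category.assoc, ← hl, Category.assoc, hιW]
  let W : (SymProd.fibPow f n).Opens := b ⁻¹ᵁ S₀ ⊓ Finset.univ.inf fun i : Fin n => π i ⁻¹ᵁ U (c i)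
  have hW : ∀ z, z ∈ W ↔ b z ∈ S₀ ∧ ∀ i, π i z ∈ U (c i) := by
    intro z
    show z ∈ (_ ⊓ _ : (SymProd.fibPow f n).Opens) ↔ _
    simp [← SetLike.mem_coe, TopologicalSpace.Opens.coe_finset_inf, Finset.inf_set_eq_iInter]
  have hψW : ∀ z, (E.ι ≫ e) z ∈ W := by
    intro z
    refine (hW _).2 ⟨?_, fun i => ?_⟩
    · rw [← Scheme.Hom.comp_apply, Category.assoc, heb, Scheme.Hom.comp_apply, Scheme.Hom.comp_apply,
        ← SetLike.mem_coe, ← hS₀.range_fromSpec]
      exact ⟨_, rfl⟩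
    · rw [← Scheme.Hom.comp_apply, hψπ, Scheme.Hom.comp_apply, ← SetLike.mem_coe, ← (hU (c i)).range_fromSpec]
      exact ⟨_, rfl⟩
  let a₀ : W.toScheme ⟶ Spec (CommRingCat.of A) := IsOpenImmersion.lift fS (W.ι ≫ b) (by
    rintro _ ⟨z, rfl⟩
    rw [show Set.range fS = (S₀ : Set S) from hS₀.range_fromSpec, Scheme.Hom.comp_apply]
    exact ((hW _).1 z.2).1)
  let a : ∀ i, W.toScheme ⟶ Spec (CommRingCat.of (Bj (c i))) := fun i =>
    IsOpenImmersion.lift (hU (c i)).fromSpec (W.ι ≫ π i) (by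
      rintro _ ⟨z, rfl⟩
      exact (hU (c i)).range_fromSpec.ge (((hW _).1 z.2).2 i))
  have ha₀ : a₀ ≫ fS = W.ι ≫ b := IsOpenImmersion.lift_fac ..
  have hai : ∀ i, a i ≫ (hU (c i)).fromSpec = W.ι ≫ π i := fun i => IsOpenImmersion.lift_fac ..
  obtain ⟨α, hα₀, hα⟩ := exists_hom (A := A) (B := B) a₀ (fun i => a i ≫ ι (c i)) (fun i => by
    rw [← cancel_mono fS, Category.assoc, Category.assoc, hAB, ← Category.assoc (ι (c i)), hιW,
      ← Category.assoc, hai, ha₀, Category.assoc]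
    simp only [π, b, WidePullback.π_arrow])
  have hαE : ∀ w, α w ∈ E := fun w => (hE _).2 fun i => by
    rw [← Scheme.Hom.comp_apply, hα, Scheme.Hom.comp_apply]
    exact ⟨_, rfl⟩
  let α' : W.toScheme ⟶ E.toScheme := IsOpenImmersion.lift E.ι α (by
    rintro _ ⟨w, rfl⟩
    rw [Scheme.Opens.range_ι]
    exact hαE w)
  have hα' : α' ≫ E.ι = α := IsOpenImmersion.lift_fac ..
  let β : E.toScheme ⟶ W.toScheme := IsOpenImmersion.lift W.ι (E.ι ≫ e) (by
    rintro _ ⟨z, rfl⟩
    rw [Scheme.Opens.range_ι]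
    exact hψW z)
  have hβ : β ≫ W.ι = E.ι ≫ e := IsOpenImmersion.lift_fac ..
  have hβα : β ≫ α' = 𝟙 _ := by
    rw [← cancel_mono E.ι, Category.assoc, hα', Category.id_comp]
    refine hom_ext ?_ fun i => ?_
    · rw [← cancel_mono fS]
      simp only [Category.assoc]
      rw [← Category.assoc α, hα₀, ha₀, ← Category.assoc, hβ, Category.assoc, heb]
    · rw [Category.assoc, hα, ← hl, ← Category.assoc]
      congr 1
      rw [← cancel_mono (hU (c i)).fromSpec, Category.assoc, hai, ← Category.assoc, hβ, hψπ]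
  have hαβ : α' ≫ β = 𝟙 _ := by
    rw [← cancel_mono W.ι, Category.assoc, hβ, ← Category.assoc, hα', Category.id_comp]
    refine WidePullback.hom_ext _ _ _ (fun i => ?_) ?_
    · show (α ≫ e) ≫ π i = W.ι ≫ π i
      rw [Category.assoc, heπ, ← Category.assoc, hα, Category.assoc, hιW, hai]
    · show (α ≫ e) ≫ b = W.ι ≫ b
      rw [Category.assoc, heb, ← Category.assoc, hα₀, ha₀]
  haveI : IsIso β := ⟨α', hβα, hαβ⟩
  have hopen : IsOpenImmersion (E.ι ≫ e) := by rw [← hβ]; infer_instance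
  refine ⟨e, heb, heπ, hperm, hopen, fun z => ?_⟩
  rw [← hW]
  constructor
  · rintro ⟨w, hw, rfl⟩
    exact hψW ⟨w, hw⟩
  · intro hz
    refine ⟨(α' ⟨z, hz⟩).1, (α' ⟨z, hz⟩).2, ?_⟩
    show (E.ι ≫ e) (α' ⟨z, hz⟩) = z
    rw [← hβ, ← Scheme.Hom.comp_apply, ← Category.assoc, hαβ, Category.id_comp]
    rfl

end Groth.Agent.FlatSymLib
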