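import Groth.Agent.FlatSymLib.SurjChart
import Groth.Agent.FlatSymLib.SurjAlg
import Groth.Agent.QuotLib.Props

/-! Over a flat morphism the invariants of the fibre power are generated by the base and the invariants
of the bigger fibre power. -/

set_option autoImplicit false
set_option backward.isDefEq.respectTransparency false
set_option backward.isDefEq.respectTransparency.types false
set_option linter.style.haveILetI false
set_option maxHeartbeats 1600000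
universe u
open CategoryTheory CategoryTheory.Limits AlgebraicGeometry TensorProduct

noncomputable section

namespace Groth.Agent.FlatSymLib

section tools

variable {X X' : Scheme.{u}} {G : Type u} [Group G] (ρ : G →* Aut X)

/-- The action on the sections over an invariant open. -/
def actOn (O : X.Opens) (hO : ∀ g, O ≤ (ρ g).hom ⁻¹ᵁ O) : G →* (Γ(X, O) →+* Γ(X, O)) where
  toFun g := ((ρ g⁻¹).hom.appLE O O (hO _)).hom
  map_one' := by
    rw [inv_one]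
    have : (ρ 1).hom = 𝟙 X := by rw [map_one]; rfl
    have key : ∀ (k : X ⟶ X) (e : O ≤ k ⁻¹ᵁ O), k = 𝟙 X → (k.appLE O O e).hom = RingHom.id _ := by
      rintro k e rfl
      simp [Scheme.Hom.appLE]
      exact congrArg CommRingCat.Hom.hom (X.presheaf.map_id _)
    exact key _ _ this
  map_mul' g g' := by
    have : (ρ (g * g')⁻¹).hom = (ρ g⁻¹).hom ≫ (ρ g'⁻¹).hom := by rw [mul_inv_rev, map_mul]; rfl
    show _ = RingHom.comp _ _
    rw [← CommRingCat.hom_comp, Scheme.Hom.appLE_comp_appLE]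
    congr 1
    simp only [this]

theorem actOn_apply (O : X.Opens) (hO : ∀ g, O ≤ (ρ g).hom ⁻¹ᵁ O) (g : G) (a : Γ(X, O)) :
    actOn ρ O hO g a = ((ρ g⁻¹).hom.appLE O O (hO _)).hom a := rfl

theorem actOn_natural {ρ' : G →* Aut X'} {j : X' ⟶ X} (hj : ∀ g, (ρ' g).hom ≫ j = j ≫ (ρ g).hom)
    {O : X.Opens} {hO : ∀ g, O ≤ (ρ g).hom ⁻¹ᵁ O} {O' : X'.Opens} {hO' : ∀ g, O' ≤ (ρ' g).hom ⁻¹ᵁ O'}
    (e : O' ≤ j ⁻¹ᵁ O) (g : G) (a : Γ(X, O)) :
    actOn ρ' O' hO' g ((j.appLE O O' e).hom a) = (j.appLE O O' e).hom (actOn ρ O hO g a) := by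
  refine congrArg (fun φ : Γ(X, O) ⟶ Γ(X', O') => φ.hom a)
    (a₁ := j.appLE O O' e ≫ (ρ' g⁻¹).hom.appLE O' O' (hO' _))
    (a₂ := (ρ g⁻¹).hom.appLE O O (hO _) ≫ j.appLE O O' e) ?_
  rw [Scheme.Hom.appLE_comp_appLE, Scheme.Hom.appLE_comp_appLE]
  congr 1
  exact hj _

theorem mem_basicOpen_actOn (O : X.Opens) (hO : ∀ g, O ≤ (ρ g).hom ⁻¹ᵁ O) (g : G) (a : Γ(X, O)) (z : X) :
    z ∈ X.basicOpen (actOn ρ O hO g a) ↔ z ∈ O ∧ (ρ g⁻¹).hom z ∈ X.basicOpen a := by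
  rw [actOn_apply, Scheme.basicOpen_appLE]
  exact Iff.rfl

theorem fix_of_mem_stab (O : X.Opens) (hO : ∀ g, O ≤ (ρ g).hom ⁻¹ᵁ O) (hA : IsAffineOpen O) (x : O) {g : G}
    (hg : g ∈ stabPrime (actOn ρ O hO) (hA.primeIdealOf x).asIdeal) : (ρ g⁻¹).hom x.1 = x.1 := by
  have h := IsAffineOpen.comap_primeIdealOf_appLE (f := (ρ g⁻¹).hom) O hA O hA (hO _) x.2
  have h2 : hA.primeIdealOf ⟨(ρ g⁻¹).hom x.1, hO _ x.2⟩ = hA.primeIdealOf x :=
    h.symm.trans (PrimeSpectrum.ext hg)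
  simpa only [IsAffineOpen.fromSpec_primeIdealOf] using congrArg hA.fromSpec h2

theorem mem_basicOpen_prod {ι : Type*} [Fintype ι] {O : X.Opens} (a : ι → Γ(X, O)) (z : X) :
    z ∈ X.basicOpen (∏ i, a i) ↔ z ∈ O ∧ ∀ i, z ∈ X.basicOpen (a i) := by
  constructor
  · intro hz
    have hzO : z ∈ O := X.basicOpen_le _ hz
    refine ⟨hzO, fun i => ?_⟩
    rw [X.mem_basicOpen _ _ hzO] at hz ⊢
    rw [map_prod] at hz
    exact IsUnit.prod_iff.1 hz i (Finset.mem_univ i)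
  · rintro ⟨hzO, hz⟩
    rw [X.mem_basicOpen _ _ hzO, map_prod]
    exact IsUnit.prod_iff.2 fun i _ => (X.mem_basicOpen _ _ hzO).1 (hz i)

theorem fromSpec_appLE_self {U : X.Opens} (hU : IsAffineOpen U) (e : ⊤ ≤ hU.fromSpec ⁻¹ᵁ U) :
    hU.fromSpec.appLE U ⊤ e = (Scheme.ΓSpecIso Γ(X, U)).inv := by
  rw [Scheme.Hom.appLE, hU.fromSpec_app_self, Category.assoc, ← Functor.map_comp]
  convert Category.comp_id _
  exact (congrArg _ (Subsingleton.elim _ (𝟙 _))).trans ((Spec Γ(X, U)).presheaf.map_id _)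

theorem isIso_appLE_of_eq (j : X' ⟶ X) [IsOpenImmersion j] (U : X.Opens) (hU : U ≤ j.opensRange)
    (V : X'.Opens) (hV : V = j ⁻¹ᵁ U) : IsIso (j.appLE U V hV.le) := by
  subst hV
  rw [← Scheme.Hom.app_eq_appLE]
  exact j.isIso_app U hU

/-- Sections over an open mapped isomorphically onto a basic open. -/
theorem isLocalization_image (j : X' ⟶ X) (D : X'.Opens) [IsOpenImmersion (D.ι ≫ j)] {O : X.Opens}
    (hO : IsAffineOpen O) (g : Γ(X, O)) (e : D ≤ j ⁻¹ᵁ O)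
    (hg : ∀ z, z ∈ X.basicOpen g ↔ ∃ w ∈ D, j w = z) :
    letI := (j.appLE O D e).hom.toAlgebra
    IsLocalization.Away g Γ(X', D) := by
  letI := (j.appLE O D e).hom.toAlgebra
  have e' : D ≤ j ⁻¹ᵁ X.basicOpen g := fun w hw => (hg _).2 ⟨w, hw, rfl⟩
  haveI : IsIso (D.ι.appLE D ⊤ (by simp)) :=
    isIso_appLE_of_eq D.ι D (by simp) ⊤ (by simp)
  haveI : IsIso (j.appLE (X.basicOpen g) D e' ≫ D.ι.appLE D ⊤ (by simp)) := by
    rw [Scheme.Hom.appLE_comp_appLE]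
    refine isIso_appLE_of_eq (D.ι ≫ j) _ (fun z hz => ?_) ⊤ ?_
    · obtain ⟨w, hw, rfl⟩ := (hg z).1 hz
      exact ⟨⟨w, hw⟩, rfl⟩
    · exact TopologicalSpace.Opens.ext (Set.ext fun w => ⟨fun _ => e' w.2, fun _ => trivial⟩)
  haveI : IsIso (j.appLE (X.basicOpen g) D e') := IsIso.of_isIso_comp_right _ (D.ι.appLE D ⊤ _)
  haveI := hO.isLocalization_basicOpen g
  refine IsLocalization.isLocalization_of_algEquiv (Submonoid.powers g)
    (AlgEquiv.ofRingEquiv (R := Γ(X, O)) (f := (asIso (j.appLE (X.basicOpen g) D e')).commRingCatIsoToRingEquiv) ?_)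
  intro a
  show (X.presheaf.map (homOfLE (X.basicOpen_le g)).op ≫ j.appLE (X.basicOpen g) D e').hom a =
    (j.appLE O D e).hom a
  rw [Scheme.Hom.map_appLE]

/-- The image of a basic open of a chart inside a basic open is a basic open. -/
theorem exists_basicOpen_eq_image {R : CommRingCat.{u}} (j : Spec R ⟶ X) (E : (Spec R).Opens)
    [IsOpenImmersion (E.ι ≫ j)] {O : X.Opens} (hO : IsAffineOpen O) (a : Γ(X, O))
    (ha : ∀ z ∈ X.basicOpen a, ∃ w ∈ E, j w = z) (h : R) (hh : PrimeSpectrum.basicOpen h ≤ E)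
    (hha : ∀ w ∈ PrimeSpectrum.basicOpen h, j w ∈ X.basicOpen a) :
    ∃ a₂ : Γ(X, O), ∀ z, z ∈ X.basicOpen a₂ ↔ ∃ w ∈ PrimeSpectrum.basicOpen h, j w = z := by
  let ψ := E.ι ≫ j
  let r : Γ(E.toScheme, ⊤) := E.ι.appTop.hom ((Scheme.ΓSpecIso R).inv.hom h)
  have hr : ∀ w : E.toScheme, w ∈ E.toScheme.basicOpen r ↔ E.ι w ∈ PrimeSpectrum.basicOpen h := fun w => by
    rw [← Scheme.preimage_basicOpen_top, basicOpen_eq_of_affine]
    rfl
  have hle : X.basicOpen a ≤ ψ ''ᵁ ⊤ := fun z hz => by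
    obtain ⟨w, hw, rfl⟩ := ha z hz
    exact ⟨⟨w, hw⟩, trivial, rfl⟩
  obtain ⟨a₂, ha₂⟩ := hO.basicOpen_basicOpen_is_basicOpen a
    ((X.presheaf.map (homOfLE hle).op).hom ((ψ.appIso ⊤).inv.hom r))
  refine ⟨a₂, fun z => ?_⟩
  rw [ha₂, Scheme.basicOpen_res, ← Scheme.image_basicOpen]
  constructor
  · rintro ⟨-, w, hw, rfl⟩
    exact ⟨w.1, (hr w).1 hw, rfl⟩
  · rintro ⟨w, hw, rfl⟩
    exact ⟨hha w hw, ⟨w, hh hw⟩, (hr ⟨w, hh hw⟩).2 hw, rfl⟩

theorem specMap_appLE_algebraMap {R R' : CommRingCat.{u}} (φ : R ⟶ R') {U : (Spec R).Opens}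
    {V : (Spec R').Opens} (e : V ≤ Spec.map φ ⁻¹ᵁ U) (r : R) :
    ((Spec.map φ).appLE U V e).hom (algebraMap R Γ(Spec R, U) r) = algebraMap R' Γ(Spec R', V) (φ.hom r) := by
  refine congrArg (fun ψ : R ⟶ Γ(Spec R', V) => ψ.hom r)
    (a₁ := (Scheme.ΓSpecIso R).inv ≫ (Spec R).presheaf.map (homOfLE le_top).op ≫ (Spec.map φ).appLE U V e)
    (a₂ := φ ≫ (Scheme.ΓSpecIso R').inv ≫ (Spec R').presheaf.map (homOfLE le_top).op) ?_
  rw [Scheme.ΓSpecIso_inv_naturality_assoc, Scheme.Hom.map_appLE]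
  rfl

/-- The sections of a spectrum as an algebra. -/
abbrev specAlg (R : CommRingCat.{u}) (U : (Spec R).Opens) : Algebra R Γ(Spec R, U) := inferInstance

theorem specAway (R : CommRingCat.{u}) (r : R) :
    letI := specAlg R (PrimeSpectrum.basicOpen r)
    IsLocalization.Away r Γ(Spec R, PrimeSpectrum.basicOpen r) :=
  inferInstance

end tools

variable {X X' S S' Y : Scheme.{u}} {f : X ⟶ S} {f' : X' ⟶ S'} {gS : S' ⟶ S} {h : X' ⟶ X}
  {d : ℕ} {q : SymProd.fibPow f d ⟶ Y} {g : Y ⟶ S}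

/-- Invariant sections of the fibre power of a flat morphism are generated by the base and by `Y`. -/
theorem invariant_mem_closure [Flat f'] (w : h ≫ f = f' ≫ gS) (hq : SymProd.IsSymProd f d q g)
    (π : SymProd.fibPow f' d ⟶ SymProd.fibPow f d)
    (hπ : ∀ i, π ≫ WidePullback.π (fun _ : Fin d => f) i = WidePullback.π (fun _ : Fin d => f') i ≫ h)
    (hπb : π ≫ WidePullback.base (fun _ : Fin d => f) = WidePullback.base (fun _ : Fin d => f') ≫ gS)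
    (S₀ : S.Opens) (hS₀ : IsAffineOpen S₀) (S₁ : S'.Opens) (hS₁ : IsAffineOpen S₁) (h01 : S₁ ≤ gS ⁻¹ᵁ S₀)
    (hgen : ∀ (U : X.Opens), IsAffineOpen U → U ≤ f ⁻¹ᵁ S₀ → IsAffineOpen (h ⁻¹ᵁ U ⊓ f' ⁻¹ᵁ S₁) ∧
      Subring.closure (Set.range (f'.appLE S₁ (h ⁻¹ᵁ U ⊓ f' ⁻¹ᵁ S₁) inf_le_right).hom ∪
        Set.range (h.appLE U (h ⁻¹ᵁ U ⊓ f' ⁻¹ᵁ S₁) inf_le_left).hom) = ⊤)
    (V : Y.Opens) (hV : IsAffineOpen V) (hV0 : V ≤ g ⁻¹ᵁ S₀)
    (hO' : IsAffineOpen ((π ≫ q) ⁻¹ᵁ V ⊓ WidePullback.base (fun _ : Fin d => f') ⁻¹ᵁ S₁))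
    (s : Γ(SymProd.fibPow f' d, (π ≫ q) ⁻¹ᵁ V ⊓ WidePullback.base (fun _ : Fin d => f') ⁻¹ᵁ S₁))
    (hs : ∀ σ e, ((SymProd.permHom f' d σ).appLE _ _ e).hom s = s) :
    s ∈ Subring.closure (Set.range ((WidePullback.base (fun _ : Fin d => f')).appLE S₁ _ inf_le_right).hom ∪
      Set.range ((π ≫ q).appLE V _ inf_le_left).hom) := by
  classical
  have hquot := hq.isQuot
  haveI := hquot.affine
  let G : Type u := ULift.{u} (Equiv.Perm (Fin d))
  let b : SymProd.fibPow f d ⟶ S := WidePullback.base (fun _ : Fin d => f)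
  let p : Fin d → (SymProd.fibPow f d ⟶ X) := fun i => WidePullback.π (fun _ : Fin d => f) i
  let b' : SymProd.fibPow f' d ⟶ S' := WidePullback.base (fun _ : Fin d => f')
  let p' : Fin d → (SymProd.fibPow f' d ⟶ X') := fun i => WidePullback.π (fun _ : Fin d => f') i
  let O : (SymProd.fibPow f d).Opens := q ⁻¹ᵁ V
  let O' : (SymProd.fibPow f' d).Opens := (π ≫ q) ⁻¹ᵁ V ⊓ b' ⁻¹ᵁ S₁
  have hOA : IsAffineOpen O := hV.preimage q
  have hOρ : ∀ σ : G, O ≤ (SymProd.permActU f d σ).hom ⁻¹ᵁ O := fun σ =>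
    SGA1.preimage_le_of_inv _ q hquot.inv σ V
  have hππ : ∀ σ : G, (SymProd.permActU f' d σ).hom ≫ π = π ≫ (SymProd.permActU f d σ).hom := fun σ => by
    rw [SymProd.permActU_hom, SymProd.permActU_hom]
    refine WidePullback.hom_ext _ _ _ (fun i => ?_) ?_
    · rw [Category.assoc, Category.assoc, hπ, SymProd.permHom_π_assoc, SymProd.permHom_π, hπ]
    · rw [Category.assoc, Category.assoc, hπb, SymProd.permHom_base_assoc, SymProd.permHom_base, hπb]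
  have hO'ρ : ∀ σ : G, O' ≤ (SymProd.permActU f' d σ).hom ⁻¹ᵁ O' := by
    intro σ z hz
    refine ⟨?_, ?_⟩
    · show ((SymProd.permActU f' d σ).hom ≫ π ≫ q) z ∈ V
      rw [← Category.assoc, hππ, Category.assoc, hquot.inv]
      exact hz.1
    · show ((SymProd.permActU f' d σ).hom ≫ b') z ∈ S₁
      rw [show (SymProd.permActU f' d σ).hom ≫ b' = b' from SymProd.permHom_base f' d σ.down]
      exact hz.2
  have hπO : O' ≤ π ⁻¹ᵁ O := fun z hz => hz.1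
  letI algRA' : Algebra Γ(S', S₁) Γ(SymProd.fibPow f' d, O') := (b'.appLE S₁ O' inf_le_right).hom.toAlgebra
  let σA := actOn (SymProd.permActU f d) O hOρ
  let σA' := actOn (SymProd.permActU f' d) O' hO'ρ
  let πA : Γ(SymProd.fibPow f d, O) →+* Γ(SymProd.fibPow f' d, O') := (π.appLE O O' hπO).hom
  have hs' : ∀ σ : G, σA' σ s = s := fun σ => hs _ (hO'ρ σ⁻¹)
  have hπσ : ∀ σ a, πA (σA σ a) = σA' σ (πA a) := fun σ a => (actOn_natural _ hππ hπO σ a).symm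
  have hR : ∀ σ r, σA' σ (algebraMap Γ(S', S₁) Γ(SymProd.fibPow f' d, O') r) =
      algebraMap Γ(S', S₁) Γ(SymProd.fibPow f' d, O') r := by
    intro σ r
    refine congrArg (fun φ : Γ(S', S₁) ⟶ Γ(SymProd.fibPow f' d, O') => φ.hom r)
      (a₁ := b'.appLE S₁ O' inf_le_right ≫ (SymProd.permActU f' d σ⁻¹).hom.appLE O' O' (hO'ρ _))
      (a₂ := b'.appLE S₁ O' inf_le_right) ?_
    rw [Scheme.Hom.appLE_comp_appLE]
    congr 1
    exact SymProd.permHom_base f' d _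
  let ψ : Γ(Y, V) →+* Γ(SymProd.fibPow f' d, O') := ((π ≫ q).appLE V O' inf_le_left).hom
  have hψ : ∀ c, ψ c = πA ((q.app V).hom c) := fun c => by
    refine congrArg (fun φ : Γ(Y, V) ⟶ Γ(SymProd.fibPow f' d, O') => φ.hom c)
      (a₂ := q.app V ≫ π.appLE O O' hπO) ?_
    rw [← Scheme.Hom.appLE_eq_app, Scheme.Hom.appLE_comp_appLE]
  have hfixA : ∀ a, (∀ σ, σA σ a = a) → ∃ c, (q.app V).hom c = a := fun a ha =>
    (hquot.range_iff V a).2 fun σ => by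
      have h := ha σ⁻¹
      simp only [σA, actOn_apply, inv_inv] at h
      exact h
  refine mem_of_local ψ s _ (fun c => Subring.subset_closure (Or.inr ⟨c, rfl⟩)) fun 𝔭 h𝔭 => ?_
  -- a point over the prime
  obtain ⟨x, hx⟩ := QuotLib.surjective hquot (hV.fromSpec ⟨𝔭, h𝔭⟩)
  have hxO : x ∈ O := by
    show q x ∈ V
    rw [hx, ← SetLike.mem_coe, ← hV.range_fromSpec]
    exact ⟨_, rfl⟩
  let P := hOA.primeIdealOf ⟨x, hxO⟩
  suffices key : ∃ (gA : Γ(SymProd.fibPow f d, O)) (M : ℕ), gA ∉ P.asIdeal ∧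
      (∀ τ ∈ stabPrime σA P.asIdeal, σA τ gA = gA) ∧ πA gA ^ M * s ∈
        Submodule.span Γ(S', S₁) (πA '' {a | ∀ τ ∈ stabPrime σA P.asIdeal, σA τ a = a}) by
    obtain ⟨gA, M, hgP, hgf, hgM⟩ := key
    obtain ⟨cA, hcf, hcP, hcs⟩ := exists_mul_mem_span σA σA' πA hπσ hR P.asIdeal gA hgP hgf hs' M hgM
    obtain ⟨c, rfl⟩ := hfixA cA hcf
    refine ⟨c, fun hc => hcP ?_, ?_⟩
    · have h := IsAffineOpen.comap_primeIdealOf_appLE (f := q) V hV O hOA le_rfl hxO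
      rw [Scheme.Hom.appLE_eq_app] at h
      have h2 : (⟨q x, hxO⟩ : V).1 = hV.fromSpec ⟨𝔭, h𝔭⟩ := hx
      have h3 : hV.primeIdealOf ⟨q x, hxO⟩ = ⟨𝔭, h𝔭⟩ := by
        apply hV.fromSpec.isOpenEmbedding.injective
        exact (hV.fromSpec_primeIdealOf _).trans hx
      have h4 := h.trans h3
      have h5 : c ∈ (PrimeSpectrum.comap (q.app V).hom P).asIdeal := by rw [h4]; exact hc
      exact h5
    · rw [hψ]
      refine Submodule.span_induction (p := fun z _ => z ∈ Subring.closure _) ?_ (Subring.zero_mem _)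
        (fun _ _ _ _ => Subring.add_mem _) (fun r z _ hz => ?_) hcs
      · rintro _ ⟨a, ha, rfl⟩
        obtain ⟨c', rfl⟩ := hfixA a ha
        rw [← hψ]
        exact Subring.subset_closure (Or.inr ⟨c', rfl⟩)
      · rw [Algebra.smul_def]
        exact Subring.mul_mem _ (Subring.subset_closure (Or.inl ⟨r, rfl⟩)) hz
  -- the chart at the point
  let H := stabPrime σA P.asIdeal
  have hfix : ∀ τ ∈ H, (SymProd.permActU f d τ⁻¹).hom x = x := fun τ hτ =>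
    fix_of_mem_stab _ O hOρ hOA ⟨x, hxO⟩ hτ
  have hbx : b x ∈ S₀ := by
    show (WidePullback.base (fun _ : Fin d => f)) x ∈ S₀
    rw [← hq.over]
    exact hV0 hxO
  let J : Type u := {z : X // ∃ i, p i x = z}
  haveI : Finite J := Finite.of_surjective (fun i : Fin d => (⟨p i x, i, rfl⟩ : J))
    fun ⟨_, i, h⟩ => ⟨i, Subtype.ext h⟩
  letI : Fintype J := Fintype.ofFinite J
  have hU : ∀ z : J, ∃ U : X.Opens, IsAffineOpen U ∧ z.1 ∈ U ∧ U ≤ f ⁻¹ᵁ S₀ := by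
    rintro ⟨_, i, rfl⟩
    obtain ⟨U, hU, hz, hle⟩ := exists_isAffineOpen_mem_and_subset (X := X) (x := p i x) (U := f ⁻¹ᵁ S₀)
      (show (p i ≫ f) x ∈ S₀ by rw [show p i ≫ f = b from WidePullback.π_arrow _ i]; exact hbx)
    exact ⟨U, hU, hz, hle⟩
  choose U hUa hUm hUle using hU
  let c : Fin d → J := fun i => ⟨p i x, i, rfl⟩
  have hc : ∀ τ ∈ H, ∀ i, c (τ.down i) = c i := by
    intro τ hτ i
    refine Subtype.ext ?_
    show p (τ.down i) x = p i x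
    conv_rhs => rw [← hfix τ hτ, ← Scheme.Hom.comp_apply, SymProd.permActU_hom]
    simp only [p, SymProd.permHom_π]
    rfl
  let U' : J → X'.Opens := fun j => h ⁻¹ᵁ U j ⊓ f' ⁻¹ᵁ S₁
  have hU'a : ∀ j, IsAffineOpen (U' j) := fun j => (hgen _ (hUa j) (hUle j)).1
  letI algA : ∀ j, Algebra Γ(S, S₀) Γ(X, U j) := fun j => (f.appLE S₀ (U j) (hUle j)).hom.toAlgebra
  letI algR : ∀ j, Algebra Γ(S', S₁) Γ(X', U' j) := fun j => (f'.appLE S₁ (U' j) inf_le_right).hom.toAlgebra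
  letI algAR : Algebra Γ(S, S₀) Γ(S', S₁) := (gS.appLE S₀ S₁ h01).hom.toAlgebra
  letI algA' : ∀ j, Algebra Γ(S, S₀) Γ(X', U' j) := fun j =>
    (gS.appLE S₀ S₁ h01 ≫ f'.appLE S₁ (U' j) inf_le_right).hom.toAlgebra
  haveI : ∀ j, IsScalarTower Γ(S, S₀) Γ(S', S₁) Γ(X', U' j) := fun j => .of_algebraMap_eq' rfl
  haveI : ∀ j, Module.Flat Γ(S', S₁) Γ(X', U' j) := fun j => Scheme.Hom.flat_appLE f' hS₁ (hU'a j) inf_le_right
  haveI : Module.Flat Γ(S', S₁) (∀ j, Γ(X', U' j)) :=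
    Module.Flat.of_linearEquiv (DirectSum.linearEquivFunOnFintype Γ(S', S₁) J fun j => (Γ(X', U' j) : Type u)).symm
  let φj : ∀ j, Γ(X, U j) →ₐ[Γ(S, S₀)] Γ(X', U' j) := fun j =>
    { (h.appLE (U j) (U' j) inf_le_left).hom with
      commutes' := fun a => by
        refine congrArg (fun φ : Γ(S, S₀) ⟶ Γ(X', U' j) => φ.hom a)
          (a₁ := f.appLE S₀ (U j) (hUle j) ≫ h.appLE (U j) (U' j) inf_le_left)
          (a₂ := gS.appLE S₀ S₁ h01 ≫ f'.appLE S₁ (U' j) inf_le_right) ?_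
        simp only [Scheme.Hom.appLE_comp_appLE, w] }
  let φ : (∀ j, Γ(X, U j)) →ₐ[Γ(S, S₀)] (∀ j, Γ(X', U' j)) :=
    AlgHom.pi fun j => (φj j).comp (Pi.evalAlgHom _ _ j)
  have hφapp : ∀ v j, φ v j = φj j (v j) := fun v j => rfl
  have hφδ : ∀ (j : J) (y : Γ(X, U j)), φ (Pi.single j y) = Pi.single j (φj j y) := by
    intro j y
    funext k
    rw [hφapp]
    exact Pi.apply_single (fun k => φj k) (fun k => map_zero _) j y k
  have hφspan : Submodule.span Γ(S', S₁) (Set.range φ) = ⊤ := by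
    refine eq_top_iff.2 fun v _ => ?_
    rw [← Finset.univ_sum_single v]
    refine Submodule.sum_mem _ fun j _ => ?_
    have hj : v j ∈ Submodule.span Γ(S', S₁) (Set.range (φj j)) := by
      have htop : Algebra.adjoin Γ(S', S₁) (Set.range (φj j)) = ⊤ := by
        refine eq_top_iff.2 fun y _ => ?_
        have hy : y ∈ Subring.closure _ := ((hgen _ (hUa j) (hUle j)).2).ge (Subring.mem_top y)
        refine (Subring.closure_le (t := (Algebra.adjoin Γ(S', S₁) (Set.range (φj j))).toSubring)).2 ?_ hy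
        rintro _ (⟨r, rfl⟩ | ⟨u, rfl⟩)
        · exact Subalgebra.algebraMap_mem _ r
        · exact Algebra.subset_adjoin ⟨u, rfl⟩
      have h1 : v j ∈ Subalgebra.toSubmodule (Algebra.adjoin Γ(S', S₁) (Set.range (φj j))) := by
        rw [htop]; trivial
      rw [Algebra.adjoin_eq_span] at h1
      refine Submodule.span_mono ?_ h1
      intro y hy
      induction hy using Submonoid.closure_induction with
      | mem y hy => exact hy
      | one => exact ⟨1, map_one _⟩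
      | mul y z _ _ hy hz =>
        obtain ⟨y, rfl⟩ := hy
        obtain ⟨z, rfl⟩ := hz
        exact ⟨y * z, map_mul _ _ _⟩
    have hmap := Submodule.apply_mem_span_image_of_mem_span
      (LinearMap.single Γ(S', S₁) (fun j => (Γ(X', U' j) : Type u)) j) hj
    refine Submodule.span_mono ?_ hmap
    rintro _ ⟨_, ⟨y, rfl⟩, rfl⟩
    exact ⟨Pi.single j y, hφδ j y⟩
  obtain ⟨e, heb, heπ, heperm, heopen, herange⟩ :=
    exists_tuple_chart f d S₀ hS₀ c U hUa hUle (fun j => rfl)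
  obtain ⟨e', heb', heπ', heperm', heopen', herange'⟩ :=
    exists_tuple_chart f' d S₁ hS₁ c U' hU'a (fun j => inf_le_right) (fun j => rfl)
  let T₀ : CommRingCat.{u} := CommRingCat.of (T Γ(S, S₀) (∀ j, Γ(X, U j)) d)
  let T₁ : CommRingCat.{u} := CommRingCat.of (T Γ(S', S₁) (∀ j, Γ(X', U' j)) d)
  let σT := permHomT Γ(S, S₀) (∀ j, Γ(X, U j)) d
  let σT' := permHomT Γ(S', S₁) (∀ j, Γ(X', U' j)) d
  let κ : T₀ →+* T₁ := (kT (R := Γ(S', S₁)) φ d).toRingHom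
  let μ : Spec T₁ ⟶ Spec T₀ := specK (R := Γ(S', S₁)) φ d
  let ε : T₀ := epsT (A := Γ(S, S₀)) (∀ j, Γ(X, U j)) fun i => Pi.single (c i) 1
  let ε' : T₁ := epsT (A := Γ(S', S₁)) (∀ j, Γ(X', U' j)) fun i => Pi.single (c i) 1
  have hκε : κ ε = ε' := by
    show kT (R := Γ(S', S₁)) φ d (epsT _ _) = _
    rw [kT_epsT]
    refine congrArg (epsT _) (funext fun i => ?_)
    exact (hφδ (c i) 1).trans (by rw [map_one])
  have hepiπ : e' ≫ π = μ ≫ e := by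
    refine WidePullback.hom_ext _ _ _ (fun i => ?_) ?_
    · rw [Category.assoc, hπ, ← Category.assoc, heπ', Category.assoc, Category.assoc, heπ,
        ← Category.assoc μ, specK_proj, Category.assoc]
      congr 1
      refine piSpec_ext fun j => ?_
      rw [← Category.assoc _ _ h, eval_piSpec, ← Spec.map_comp_assoc]
      have : CommRingCat.ofHom φ.toRingHom ≫ CommRingCat.ofHom (Pi.evalRingHom (fun j => (Γ(X', U' j) : Type u)) j) =
          CommRingCat.ofHom (Pi.evalRingHom (fun j => (Γ(X, U j) : Type u)) j) ≫ h.appLE (U j) (U' j) inf_le_left := rfl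
      rw [this, Spec.map_comp_assoc, eval_piSpec]
      exact (IsAffineOpen.SpecMap_appLE_fromSpec h (hUa j) (hU'a j) inf_le_left).symm
    · rw [Category.assoc, hπb, ← Category.assoc, heb', Category.assoc, Category.assoc, heb,
        ← Category.assoc μ, specK_toBase, Category.assoc]
      congr 1
      exact (IsAffineOpen.SpecMap_appLE_fromSpec gS hS₀ hS₁ h01).symm
  -- the chart point and invariance
  have hσε : ∀ τ ∈ H, σT τ ε = ε := fun τ hτ => perm_epsT _ _ τ.down fun i => by rw [hc τ hτ i]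
  obtain ⟨w₀, hw₀E, hw₀⟩ := (herange x).2 ⟨hbx, fun i => hUm (c i)⟩
  have hinj : ∀ w₁ w₂, w₁ ∈ (PrimeSpectrum.basicOpen ε : (Spec T₀).Opens) →
      w₂ ∈ (PrimeSpectrum.basicOpen ε : (Spec T₀).Opens) → e w₁ = e w₂ → w₁ = w₂ := by
    intro w₁ w₂ h₁ h₂ he
    haveI := heopen
    exact congrArg Subtype.val ((Scheme.Opens.ι (X := Spec T₀) (PrimeSpectrum.basicOpen ε) ≫ e).isOpenEmbedding.injective
      (a₁ := ⟨w₁, h₁⟩) (a₂ := ⟨w₂, h₂⟩) he)
  have hw₀fix : ∀ τ ∈ H, (specAct σT τ⁻¹).hom w₀ = w₀ := by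
    intro τ hτ
    refine hinj _ _ ?_ hw₀E ?_
    · show σT (τ⁻¹)⁻¹ ε ∉ w₀.asIdeal
      rw [inv_inv, hσε τ hτ]
      exact hw₀E
    · rw [← Scheme.Hom.comp_apply, heperm, Scheme.Hom.comp_apply, hw₀, hfix τ hτ]
  -- a small neighbourhood
  let W : (SymProd.fibPow f d).Opens := b ⁻¹ᵁ S₀ ⊓ Finset.univ.inf fun i : Fin d => p i ⁻¹ᵁ U (c i)
  have hW : ∀ z, z ∈ W ↔ b z ∈ S₀ ∧ ∀ i, p i z ∈ U (c i) := by
    intro z
    show z ∈ (_ ⊓ _ : (SymProd.fibPow f d).Opens) ↔ _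
    simp [← SetLike.mem_coe, TopologicalSpace.Opens.coe_finset_inf, Finset.inf_set_eq_iInter]
  obtain ⟨a, haW, hxa⟩ := hOA.exists_basicOpen_le ⟨x, (hW x).2 ⟨hbx, fun i => hUm (c i)⟩⟩ hxO
  obtain ⟨h₀, hh₀x, hh₀⟩ : ∃ h₀ : T₀, w₀ ∈ (PrimeSpectrum.basicOpen h₀ : (Spec T₀).Opens) ∧
      (PrimeSpectrum.basicOpen h₀ : (Spec T₀).Opens) ≤ PrimeSpectrum.basicOpen ε ⊓ e ⁻¹ᵁ (SymProd.fibPow f d).basicOpen a := by
    obtain ⟨_, ⟨_, ⟨h₀, rfl⟩, rfl⟩, hh₁, hh₂⟩ := PrimeSpectrum.isBasis_basic_opens.exists_subset_of_mem_open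
      (show w₀ ∈ ((PrimeSpectrum.basicOpen ε : (Spec T₀).Opens) ⊓ e ⁻¹ᵁ (SymProd.fibPow f d).basicOpen a : (Spec T₀).Opens)
        from ⟨hw₀E, show e w₀ ∈ _ by rw [hw₀]; exact hxa⟩)
      ((PrimeSpectrum.basicOpen ε : (Spec T₀).Opens) ⊓ e ⁻¹ᵁ (SymProd.fibPow f d).basicOpen a).2
    exact ⟨h₀, hh₁, hh₂⟩
  haveI : Fintype H := Fintype.ofFinite H
  let hT₀ : T₀ := ∏ τ : H, σT τ.1 h₀
  have hhfix : ∀ τ ∈ H, σT τ hT₀ = hT₀ := fun τ hτ => by
    simp only [hT₀, map_prod]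
    refine Fintype.prod_equiv (Equiv.mulLeft (⟨τ, hτ⟩ : H)) _ _ fun υ => ?_
    show (σT τ * σT υ.1) h₀ = σT (τ * υ.1) h₀
    rw [map_mul]
  let D : (Spec T₀).Opens := PrimeSpectrum.basicOpen hT₀
  have hD0 : D ≤ PrimeSpectrum.basicOpen h₀ := fun w hw hw' => hw (by
    simp only [hT₀]
    rw [← Finset.mul_prod_erase _ _ (Finset.mem_univ (1 : H))]
    refine Ideal.mul_mem_right _ _ ?_
    rw [OneMemClass.coe_one, map_one]
    exact hw')
  have hxD : w₀ ∈ D := by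
    intro hmem
    obtain ⟨τ, -, hτ⟩ := (Ideal.IsPrime.prod_mem_iff).1 hmem
    have h1 : (specAct σT τ.1⁻¹).hom w₀ ∉ (PrimeSpectrum.basicOpen h₀ : (Spec T₀).Opens) := fun hh => hh (by
      show σT (τ.1⁻¹)⁻¹ h₀ ∈ w₀.asIdeal
      rw [inv_inv]; exact hτ)
    rw [hw₀fix τ.1 τ.2] at h1
    exact h1 hh₀x
  have hDσ : ∀ τ : H, D ≤ (specAct σT τ.1⁻¹).hom ⁻¹ᵁ D := fun τ w hw => by
    show σT (τ.1⁻¹)⁻¹ hT₀ ∉ w.asIdeal
    rw [inv_inv, hhfix τ.1 τ.2]
    exact hw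
  haveI := heopen
  obtain ⟨a₂, ha₂⟩ := exists_basicOpen_eq_image e (PrimeSpectrum.basicOpen ε) hOA a
    (fun z hz => (herange z).2 ((hW z).1 (haW hz))) hT₀ (fun w hw => (hh₀ (hD0 hw)).1)
    (fun w hw => (hh₀ (hD0 hw)).2)
  let gA : Γ(SymProd.fibPow f d, O) := ∏ τ : H, σA τ.1 a₂
  have hgA : ∀ z, z ∈ (SymProd.fibPow f d).basicOpen gA ↔ ∃ w ∈ D, e w = z := by
    intro z
    simp only [gA, mem_basicOpen_prod, σA, mem_basicOpen_actOn, ha₂]
    constructor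
    · rintro ⟨-, hz⟩
      obtain ⟨-, w, hw, e0⟩ := hz 1
      refine ⟨w, hw, e0.trans ?_⟩
      rw [OneMemClass.coe_one, inv_one, map_one]
      rfl
    · rintro ⟨w, hw, rfl⟩
      have hzO : e w ∈ O := (SymProd.fibPow f d).basicOpen_le _ (hh₀ (hD0 hw)).2
      refine ⟨hzO, fun τ => ⟨hzO, _, hDσ τ hw, ?_⟩⟩
      rw [← Scheme.Hom.comp_apply, heperm, Scheme.Hom.comp_apply]
  have hgfix : ∀ τ ∈ H, σA τ gA = gA := fun τ hτ => by
    simp only [gA, map_prod]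
    refine Fintype.prod_equiv (Equiv.mulLeft (⟨τ, hτ⟩ : H)) _ _ fun υ => ?_
    show (σA τ * σA υ.1) a₂ = σA (τ * υ.1) a₂
    rw [map_mul]
  have hgP : gA ∉ P.asIdeal := by
    have h1 : x ∈ (SymProd.fibPow f d).basicOpen gA := (hgA x).2 ⟨w₀, hxD, hw₀⟩
    have h2 : P ∈ hOA.fromSpec ⁻¹ᵁ (SymProd.fibPow f d).basicOpen gA := by
      refine (show hOA.fromSpec P ∈ (SymProd.fibPow f d).basicOpen gA from ?_)
      rw [show hOA.fromSpec P = x from hOA.fromSpec_primeIdealOf ⟨x, hxO⟩]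
      exact h1
    rw [hOA.fromSpec_preimage_basicOpen] at h2
    exact h2
  -- the two localizations
  let D' : (Spec T₁).Opens := PrimeSpectrum.basicOpen (κ hT₀)
  have hDD' : D' ≤ μ ⁻¹ᵁ D := fun w hw => hw
  have heD : D ≤ e ⁻¹ᵁ O := fun w hw => (SymProd.fibPow f d).basicOpen_le _ (hh₀ (hD0 hw)).2
  have hD'E : D' ≤ (PrimeSpectrum.basicOpen ε' : (Spec T₁).Opens) := fun w hw => by
    rw [← hκε]
    exact (hh₀ (hD0 (hDD' hw))).1
  have heD' : D' ≤ e' ⁻¹ᵁ O' := by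
    intro w hw
    refine ⟨?_, ?_⟩
    · show (e' ≫ π ≫ q) w ∈ V
      rw [← Category.assoc, hepiπ, Category.assoc]
      exact heD (hDD' hw)
    · exact ((herange' _).1 ⟨w, hD'E hw, rfl⟩).1
  haveI := heopen'
  haveI : IsOpenImmersion (D.ι ≫ e) := by
    rw [← Scheme.homOfLE_ι (Spec T₀) (show D ≤ PrimeSpectrum.basicOpen ε from fun w hw => (hh₀ (hD0 hw)).1),
      Category.assoc]
    infer_instance
  haveI : IsOpenImmersion (D'.ι ≫ e') := by
    rw [← Scheme.homOfLE_ι (Spec T₁) hD'E, Category.assoc]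
    infer_instance
  letI algAL : Algebra Γ(SymProd.fibPow f d, O) Γ(Spec T₀, D) := (e.appLE O D heD).hom.toAlgebra
  letI algA'L' : Algebra Γ(SymProd.fibPow f' d, O') Γ(Spec T₁, D') := (e'.appLE O' D' heD').hom.toAlgebra
  haveI : IsLocalization.Away gA Γ(Spec T₀, D) := isLocalization_image e D hOA gA heD hgA
  haveI : IsLocalization.Away (πA gA) Γ(Spec T₁, D') := isLocalization_image e' D' hO' (πA gA) heD' fun z => by
    show z ∈ (SymProd.fibPow f' d).basicOpen ((π.appLE O O' hπO).hom gA) ↔ _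
    rw [Scheme.basicOpen_appLE]
    constructor
    · rintro ⟨hzO', hz⟩
      obtain ⟨w, hw, e0⟩ := (hgA _).1 hz
      have hwE := (hh₀ (hD0 hw)).1
      have hWz := (herange (π z)).1 ⟨w, hwE, e0⟩
      obtain ⟨w', hw'E, e1⟩ := (herange' z).2 ⟨hzO'.2, fun i => ⟨by
        show (WidePullback.π (fun _ : Fin d => f') i ≫ h) z ∈ U (c i)
        rw [← hπ]
        exact hWz.2 i, by
        show (WidePullback.π (fun _ : Fin d => f') i ≫ f') z ∈ S₁
        rw [WidePullback.π_arrow]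
        exact hzO'.2⟩⟩
      refine ⟨w', ?_, e1⟩
      have h1 : μ w' = w := by
        refine hinj _ _ ?_ hwE ?_
        · show κ ε ∉ w'.asIdeal
          rw [hκε]; exact hw'E
        · rw [← Scheme.Hom.comp_apply, ← hepiπ, Scheme.Hom.comp_apply, e1, e0]
      show μ w' ∈ D
      rw [h1]; exact hw
    · rintro ⟨w', hw', rfl⟩
      refine ⟨heD' hw', ?_⟩
      refine (show π (e' w') ∈ (SymProd.fibPow f d).basicOpen gA from ?_)
      rw [← Scheme.Hom.comp_apply, hepiπ, Scheme.Hom.comp_apply]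
      exact (hgA _).2 ⟨_, hDD' hw', rfl⟩
  letI algTL : Algebra T₀ Γ(Spec T₀, D) := specAlg T₀ D
  letI algT'L' : Algebra T₁ Γ(Spec T₁, D') := specAlg T₁ D'
  haveI : IsLocalization.Away hT₀ Γ(Spec T₀, D) := specAway T₀ hT₀
  haveI : IsLocalization.Away (κ hT₀) Γ(Spec T₁, D') := specAway T₁ (κ hT₀)
  letI algRT : Algebra Γ(S', S₁) T₁ := inferInstanceAs (Algebra Γ(S', S₁) (T Γ(S', S₁) (∀ j, Γ(X', U' j)) d))
  letI algRL : Algebra Γ(S', S₁) Γ(Spec T₁, D') :=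
    (b'.appLE S₁ O' inf_le_right ≫ e'.appLE O' D' heD').hom.toAlgebra
  haveI : IsScalarTower Γ(S', S₁) Γ(SymProd.fibPow f' d, O') Γ(Spec T₁, D') := .of_algebraMap_eq' rfl
  haveI : IsScalarTower Γ(S', S₁) T₁ Γ(Spec T₁, D') := .of_algebraMap_eq fun r => by
    refine Eq.trans ?_ (specMap_appLE_algebraMap
      (CommRingCat.ofHom (algebraMap Γ(S', S₁) (T Γ(S', S₁) (∀ j, Γ(X', U' j)) d))) (U := ⊤) (V := D') le_top r)
    have h1 : ∀ r, (hS₁.fromSpec.appLE S₁ ⊤ (by simp)).hom r = algebraMap Γ(S', S₁) Γ(Spec Γ(S', S₁), ⊤) r :=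
      fun r => by
        rw [fromSpec_appLE_self, IsAffineOpen.algebraMap_Spec_obj]
        simp
    refine Eq.trans ?_ (congrArg _ (h1 r))
    refine congrArg (fun φ : Γ(S', S₁) ⟶ Γ(Spec T₁, D') => φ.hom r)
      (a₁ := b'.appLE S₁ O' inf_le_right ≫ e'.appLE O' D' heD')
      (a₂ := hS₁.fromSpec.appLE S₁ ⊤ _ ≫ (toBase Γ(S', S₁) (∀ j, Γ(X', U' j)) d).appLE ⊤ D' le_top) ?_
    simp only [Scheme.Hom.appLE_comp_appLE]
    congr 1
  let ρL : Γ(Spec T₀, D) →+* Γ(Spec T₁, D') := (μ.appLE D D' hDD').hom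
  have hD'σ : ∀ τ : H, D' ≤ (specAct σT' τ.1⁻¹).hom ⁻¹ᵁ D' := fun τ w hw => by
    show σT' (τ.1⁻¹)⁻¹ (κ hT₀) ∉ w.asIdeal
    rw [inv_inv]
    show SymTen.perm _ _ _ τ.1.down (kT (R := Γ(S', S₁)) φ d hT₀) ∉ w.asIdeal
    rw [← kT_perm]
    show κ (σT τ.1 hT₀) ∉ _
    rw [hhfix τ.1 τ.2]
    exact hw
  obtain ⟨M, hM⟩ := exists_pow_mul_mem_span (R' := Γ(S', S₁)) (T := T₀) (T' := T₁) (L := Γ(Spec T₀, D))
    (L' := Γ(Spec T₁, D')) (ι := H) πA κ ρL (fun a => by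
      refine congrArg (fun φ : Γ(SymProd.fibPow f d, O) ⟶ Γ(Spec T₁, D') => φ.hom a)
        (a₁ := e.appLE O D heD ≫ μ.appLE D D' hDD') (a₂ := π.appLE O O' hπO ≫ e'.appLE O' D' heD') ?_
      simp only [Scheme.Hom.appLE_comp_appLE, hepiπ])
    (fun t => specMap_appLE_algebraMap (CommRingCat.ofHom κ) hDD' t) gA hT₀
    (IsLocalization.Away.algebraMap_isUnit hT₀)
    (fun τ => σA τ.1) (fun τ => σT τ.1) (fun τ => σT' τ.1) (fun τ => σA' τ.1)
    (fun τ => ((specAct σT τ.1⁻¹).hom.appLE D D (hDσ τ)).hom)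
    (fun τ => ((specAct σT' τ.1⁻¹).hom.appLE D' D' (hD'σ τ)).hom)
    (fun τ a => by
      refine congrArg (fun φ : Γ(SymProd.fibPow f d, O) ⟶ Γ(Spec T₀, D) => φ.hom a)
        (a₁ := e.appLE O D heD ≫ (specAct σT τ.1⁻¹).hom.appLE D D (hDσ τ))
        (a₂ := (SymProd.permActU f d τ.1⁻¹).hom.appLE O O (hOρ _) ≫ e.appLE O D heD) ?_
      simp only [Scheme.Hom.appLE_comp_appLE]
      congr 1
      exact heperm _)
    (fun τ t => by
      refine (specMap_appLE_algebraMap (CommRingCat.ofHom (σT (τ.1⁻¹)⁻¹)) (hDσ τ) t).trans ?_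
      rw [inv_inv]
      rfl)
    (fun τ a => by
      refine congrArg (fun φ : Γ(SymProd.fibPow f' d, O') ⟶ Γ(Spec T₁, D') => φ.hom a)
        (a₁ := e'.appLE O' D' heD' ≫ (specAct σT' τ.1⁻¹).hom.appLE D' D' (hD'σ τ))
        (a₂ := (SymProd.permActU f' d τ.1⁻¹).hom.appLE O' O' (hO'ρ _) ≫ e'.appLE O' D' heD') ?_
      simp only [Scheme.Hom.appLE_comp_appLE]
      congr 1
      exact heperm' _)
    (fun τ t => by
      refine (specMap_appLE_algebraMap (CommRingCat.ofHom (σT' (τ.1⁻¹)⁻¹)) (hD'σ τ) t).trans ?_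
      rw [inv_inv]
      rfl)
    (fun τ => hgfix τ.1 τ.2) (fun τ => hhfix τ.1 τ.2)
    (fun τ => by
      show SymTen.perm _ _ _ τ.1.down (kT (R := Γ(S', S₁)) φ d hT₀) = _
      rw [← kT_perm]
      show κ (σT τ.1 hT₀) = _
      rw [hhfix τ.1 τ.2])
    (fun t ht => fixed_le_span φ d hφspan H ht) (fun τ => hs' τ.1)
  refine ⟨gA, M, hgP, hgfix, Submodule.span_mono ?_ hM⟩
  rintro _ ⟨z, hz, rfl⟩
  exact ⟨z, fun τ hτ => hz ⟨τ, hτ⟩, rfl⟩

end Groth.Agent.FlatSymLib
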