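import Groth.Agent.FlatSymLib.YoungInv

/-! Invariant tensors of a flat module spanned by the image of a module over a smaller ring. -/

namespace Groth.Agent.FlatSymLib

open TensorProduct

section free

variable {R : Type*} [CommRing R] {n : ℕ} (H : Subgroup (Equiv.Perm (Fin n)))

/-- Maps to `Fin m` up to the group. -/
def orbitSetoid (m : ℕ) : Setoid (Fin n → Fin m) where
  r f g := ∃ σ ∈ H, f ∘ (σ : Equiv.Perm (Fin n)) = g
  iseqv :=
    ⟨fun f => ⟨1, H.one_mem, rfl⟩,
      fun ⟨σ, hσ, h⟩ => ⟨σ⁻¹, H.inv_mem hσ, by subst h; ext i; simp⟩,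
      fun ⟨σ, hσ, h⟩ ⟨τ, hτ, h'⟩ => ⟨σ * τ, H.mul_mem hσ hτ, by subst h; subst h'; rfl⟩⟩

open Classical in
/-- The sum over an orbit of pure tensors with entries in a finite family. -/
noncomputable def orbitSum {M : Type*} [AddCommGroup M] [Module R M] {m : ℕ} (b : Fin m → M)
    (o : Quotient (orbitSetoid H m)) : ⨂[R] _ : Fin n, M :=
  ∑ f with Quotient.mk (orbitSetoid H m) f = o, PiTensorProduct.tprod R (b ∘ f)

theorem orbitSum_mem {M : Type*} [AddCommGroup M] [Module R M] {m : ℕ} (b : Fin m → M)
    (o : Quotient (orbitSetoid H m)) : orbitSum (R := R) H b o ∈ invH R M H := by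
  classical
  refine mem_invH.2 fun σ hσ => ?_
  simp only [orbitSum, map_sum]
  refine Finset.sum_equiv (Equiv.arrowCongr σ (Equiv.refl _)) (fun f => ?_) (fun f _ => ?_)
  · simp only [Finset.mem_filter, Finset.mem_univ, true_and]
    rw [show Quotient.mk (orbitSetoid H m) (Equiv.arrowCongr σ (Equiv.refl _) f) =
      Quotient.mk (orbitSetoid H m) f from Quotient.sound ⟨σ, hσ, by ext i; simp⟩]
  · rw [PiTensorProduct.reindex_tprod]
    rfl

theorem mem_span_orbitSum {m : ℕ} {y : ⨂[R] _ : Fin n, (Fin m → R)} (hy : y ∈ invH R (Fin m → R) H) :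
    y ∈ Submodule.span R (Set.range (orbitSum (R := R) H (fun i => Pi.basisFun R (Fin m) i))) := by
  classical
  let B := Basis.piTensorProduct fun _ : Fin n => Pi.basisFun R (Fin m)
  let S := orbitSetoid H m
  have hBf : ∀ f, B f = PiTensorProduct.tprod R ((fun i => Pi.basisFun R (Fin m) i) ∘ f) := fun f => by
    simp only [B, Basis.piTensorProduct_apply]
    rfl
  have hcoef : ∀ σ : Equiv.Perm (Fin n), σ ∈ H → ∀ f, B.repr y (f ∘ σ) = B.repr y f := by
    intro σ hσ f
    have h : ((Finsupp.lapply (f ∘ σ.symm.symm)) ∘ₗ B.repr.toLinearMap) =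
        (Finsupp.lapply f ∘ₗ B.repr.toLinearMap) ∘ₗ
          (PiTensorProduct.reindex R (fun _ : Fin n => Fin m → R) σ).toLinearMap := by
      refine B.ext fun g => ?_
      have hB : PiTensorProduct.reindex R (fun _ : Fin n => Fin m → R) σ (B g) = B (g ∘ σ.symm) := by
        simp only [B, Basis.piTensorProduct_apply, PiTensorProduct.reindex_tprod, Function.comp_apply]
      simp only [LinearMap.comp_apply, LinearEquiv.coe_coe, hB, B.repr_self, Finsupp.lapply_apply,
        Finsupp.single_apply]
      refine if_congr ⟨fun hg => ?_, fun hg => ?_⟩ rfl rfl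
      · subst hg; ext i; simp
      · subst hg; ext i; simp
    have := LinearMap.congr_fun h y
    simp only [LinearMap.comp_apply, LinearEquiv.coe_coe, Finsupp.lapply_apply, Equiv.symm_symm,
      mem_invH.1 hy σ hσ] at this
    exact this
  rw [← B.sum_repr y, ← Finset.sum_fiberwise Finset.univ (Quotient.mk S)]
  refine Submodule.sum_mem _ fun o _ => ?_
  have : ∑ f with Quotient.mk S f = o, B.repr y f • B f =
      B.repr y o.out • orbitSum (R := R) H (fun i => Pi.basisFun R (Fin m) i) o := by
    rw [orbitSum, Finset.smul_sum]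
    refine Finset.sum_congr rfl fun f hf => ?_
    obtain ⟨σ, hσH, hσ⟩ := Quotient.exact (((Finset.mem_filter.1 hf).2).trans (Quotient.out_eq o).symm)
    rw [← hσ, hcoef σ hσH, hBf]
  rw [this]
  exact Submodule.smul_mem _ _ (Submodule.subset_span ⟨o, rfl⟩)

end free

section semilinear

variable {R R' : Type*} [CommRing R] [CommRing R'] [Algebra R R'] {M M' : Type*} [AddCommGroup M] [Module R M]
  [AddCommGroup M'] [Module R' M'] [Module R M'] [IsScalarTower R R' M']


/-- Invariant tensors of a flat module come from invariant tensors downstairs. -/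
theorem invH_le_span [Module.Flat R' M'] {n : ℕ} {H : Subgroup (Equiv.Perm (Fin n))} (φ : M →ₗ[R] M')
    (hφ : Submodule.span R' (Set.range φ) = ⊤)
    (ι : (⨂[R] _ : Fin n, M) →+ (⨂[R'] _ : Fin n, M'))
    (hι : ∀ g : Fin n → M, ι (PiTensorProduct.tprod R g) = PiTensorProduct.tprod R' (φ ∘ g))
    {t : ⨂[R'] _ : Fin n, M'} (ht : t ∈ invH R' M' H) :
    t ∈ Submodule.span R' (ι '' (invH R M H : Set (⨂[R] _ : Fin n, M))) := by
  classical
  obtain ⟨m, u, y, hy, huy, -⟩ := exists_invH_lift (fun _ : Fin 1 => t) (fun _ => ht) 0 (by simp)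
  have hc : ∀ i : Fin m, ∃ c : M →₀ R', c.sum (fun b r => r • φ b) = u (Pi.basisFun R' (Fin m) i) := fun i => by
    have : u (Pi.basisFun R' (Fin m) i) ∈ Submodule.span R' (Set.range φ) := by rw [hφ]; trivial
    obtain ⟨c, hc⟩ := (Finsupp.mem_span_range_iff_exists_finsupp).1 this
    exact ⟨c, hc⟩
  choose c hc using hc
  let s : Finset M := Finset.univ.biUnion fun i => (c i).support
  let b : Fin s.card → M := fun j => (s.equivFin.symm j : M)
  let v : (Fin s.card → R') →ₗ[R'] M' := Fintype.linearCombination R' (φ ∘ b)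
  let a : (Fin m → R') →ₗ[R'] (Fin s.card → R') := (Pi.basisFun R' (Fin m)).constr R' fun i j => c i (b j)
  have hva : v ∘ₗ a = u := by
    refine (Pi.basisFun R' (Fin m)).ext fun i => ?_
    rw [LinearMap.comp_apply, Module.Basis.constr_basis, ← hc i, Fintype.linearCombination_apply]
    rw [Finsupp.sum_of_support_subset (c i) (s := s)
      (fun z hz => Finset.mem_biUnion.2 ⟨i, Finset.mem_univ i, hz⟩) _ (by simp)]
    rw [← Finset.sum_coe_sort s]
    exact (s.equivFin.symm.sum_comp fun z : s => c i z • φ z)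
  have h2 : t = pw n v (pw n a (y 0)) := by rw [← pw_comp, hva, huy]
  rw [h2]
  have hmem := mem_span_orbitSum H (pw_mem_invH a (hy 0))
  generalize pw n a (y 0) = z at hmem ⊢
  induction hmem using Submodule.span_induction with
  | mem x hx =>
    obtain ⟨o, rfl⟩ := hx
    refine Submodule.subset_span ⟨orbitSum (R := R) H b o, orbitSum_mem H b o, ?_⟩
    simp only [orbitSum, map_sum, hι]
    refine Finset.sum_congr rfl fun f _ => ?_
    rw [show pw n v (PiTensorProduct.tprod R' _) = _ from PiTensorProduct.map_tprod (fun _ : Fin n => v) _]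
    congr 1
    funext i
    simp [v, Fintype.linearCombination_apply, Pi.single_apply, ite_smul]
  | zero => rw [map_zero]; exact zero_mem _
  | add x z _ _ hx hz => rw [map_add]; exact add_mem hx hz
  | smul r x _ hx => rw [map_smul]; exact Submodule.smul_mem _ r hx

end semilinear

end Groth.Agent.FlatSymLib
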