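import Groth.Agent.FlatSymLib.Model
import Groth.Agent.FlatSymLib.SurjInv

/-! The affine fibre power under a change of rings. -/

set_option autoImplicit false
set_option backward.isDefEq.respectTransparency false
set_option backward.isDefEq.respectTransparency.types false
set_option linter.style.haveILetI false
universe u
open CategoryTheory AlgebraicGeometry TensorProduct

noncomputable section

namespace Groth.Agent.FlatSymLib

variable {A R B B' : Type u} [CommRing A] [CommRing R] [CommRing B] [CommRing B'] [Algebra A B] [Algebra R B']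
  [Algebra A R] [Algebra A B'] [IsScalarTower A R B'] (φ : B →ₐ[A] B') (n : ℕ)

/-- The map of tensor powers over a change of rings. -/
def kT : T A B n →ₐ[A] T R B' n :=
  PiTensorProduct.liftAlgHom
    (((PiTensorProduct.tprod R).restrictScalars A).compLinearMap fun _ => φ.toLinearMap)
    (by simp [PiTensorProduct.one_def]; rfl)
    (fun x y => by
      simp only [MultilinearMap.compLinearMap_apply, MultilinearMap.coe_restrictScalars,
        AlgHom.toLinearMap_apply, Pi.mul_apply, map_mul]
      exact (PiTensorProduct.tprod_mul_tprod _ _).symm)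

theorem kT_tprod (b : Fin n → B) :
    kT (R := R) φ n (PiTensorProduct.tprod A b) = PiTensorProduct.tprod R (φ ∘ b) := by
  show PiTensorProduct.lift _ (PiTensorProduct.tprod A b) = _
  rw [PiTensorProduct.lift.tprod]
  rfl

theorem kT_single (i : Fin n) (b : B) :
    kT (R := R) φ n (PiTensorProduct.singleAlgHom (R := A) (A := fun _ : Fin n => B) i b) =
      PiTensorProduct.singleAlgHom (R := R) (A := fun _ : Fin n => B') i (φ b) := by
  rw [PiTensorProduct.singleAlgHom_apply, kT_tprod, PiTensorProduct.singleAlgHom_apply]
  congr 1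
  funext j
  simp only [Function.comp_apply, MonoidHom.mulSingle_apply]
  exact Pi.apply_mulSingle (fun _ => φ) (fun _ => map_one φ) i b j

theorem kT_perm (σ : Equiv.Perm (Fin n)) (t : T A B n) :
    kT (R := R) φ n (SymTen.perm A B n σ t) = SymTen.perm R B' n σ (kT (R := R) φ n t) := by
  induction t using PiTensorProduct.induction_on with
  | smul_tprod r b =>
    rw [map_smul (SymTen.perm A B n σ), SymTen.perm_tprod, map_smul, map_smul, kT_tprod, kT_tprod,
      algebra_compatible_smul R r (PiTensorProduct.tprod R _), algebra_compatible_smul R r (PiTensorProduct.tprod R _),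
      map_smul (SymTen.perm R B' n σ), SymTen.perm_tprod]
    rfl
  | add x y hx hy => simp only [map_add, hx, hy]

theorem kT_base : (kT (R := R) φ n).toRingHom.comp (algebraMap A (T A B n)) =
    (algebraMap R (T R B' n)).comp (algebraMap A R) :=
  RingHom.ext fun a => ((kT (R := R) φ n).commutes a).trans (IsScalarTower.algebraMap_apply A R _ a)

/-- The induced map of affine fibre powers. -/
def specK : Spec (CommRingCat.of (T R B' n)) ⟶ Spec (CommRingCat.of (T A B n)) :=
  Spec.map (CommRingCat.ofHom (kT (R := R) φ n).toRingHom)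

theorem specK_proj (i : Fin n) :
    specK (R := R) φ n ≫ proj A B n i = proj R B' n i ≫ Spec.map (CommRingCat.ofHom φ.toRingHom) := by
  rw [specK, proj, proj, ← Spec.map_comp, ← Spec.map_comp]
  congr 1
  exact CommRingCat.hom_ext (RingHom.ext fun b => kT_single φ n i b)

theorem specK_toBase : specK (R := R) φ n ≫ toBase A B n =
    toBase R B' n ≫ Spec.map (CommRingCat.ofHom (algebraMap A R)) := by
  rw [specK, toBase, toBase, ← Spec.map_comp, ← Spec.map_comp]
  congr 1
  exact CommRingCat.hom_ext (kT_base φ n)

/-- Invariant tensors downstairs span the invariant tensors upstairs. -/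
theorem fixed_le_span [Module.Flat R B'] (hφ : Submodule.span R (Set.range φ) = ⊤)
    (H : Subgroup (ULift.{u} (Equiv.Perm (Fin n)))) {t : T R B' n} (ht : ∀ σ : H, permHomT R B' n σ.1 t = t) :
    t ∈ Submodule.span R ((kT (R := R) φ n).toRingHom '' {t | ∀ σ : H, permHomT A B n σ.1 t = t}) := by
  let H₀ : Subgroup (Equiv.Perm (Fin n)) := H.map MulEquiv.ulift.toMonoidHom
  have h := invH_le_span (R := A) (R' := R) (H := H₀) φ.toLinearMap hφ
    (kT (R := R) φ n).toLinearMap.toAddMonoidHom (fun g => kT_tprod φ n g) (t := t) (mem_invH.2 (by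
      rintro σ ⟨τ, hτ, rfl⟩
      exact (permHomT_apply R B' n τ t).symm.trans (ht ⟨τ, hτ⟩)))
  refine Submodule.span_mono ?_ h
  rintro _ ⟨u, hu, rfl⟩
  refine ⟨u, fun σ => ?_, rfl⟩
  rw [permHomT_apply]
  exact mem_invH.1 hu _ ⟨σ.1, σ.2, rfl⟩

end Groth.Agent.FlatSymLib
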