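import Groth.Agent.FlatSymLib.YoungChart
import Groth.Agent.FlatSymLib.QuotIso
import Groth.Agent.InertiaEtaleLib.Main
import Groth.Agent.FpqcDesc.Stalk
import Groth.Agent.QuotLib.Props

/-! A symmetric power of a flat morphism is flat, with no condition on finite sets of points. -/

set_option autoImplicit false
set_option backward.isDefEq.respectTransparency false
set_option backward.isDefEq.respectTransparency.types false
set_option linter.style.haveILetI false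
set_option maxHeartbeats 1000000
universe u
open CategoryTheory CategoryTheory.Limits AlgebraicGeometry TensorProduct

noncomputable section

namespace Groth.Agent.FlatSymLib

/-- An action as a monoid homomorphism to ring endomorphisms. -/
def toEndo (G A : Type u) [Group G] [CommRing A] [MulSemiringAction G A] : G →* (A →+* A) where
  toFun := MulSemiringAction.toRingHom G A
  map_one' := RingHom.ext fun a => one_smul G a
  map_mul' g h := RingHom.ext fun a => mul_smul g h a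

theorem flat_of_isSymProd {X S Y : Scheme.{u}} (f : X ⟶ S) [Flat f] (n : ℕ)
    (q : SymProd.fibPow f n ⟶ Y) (g : Y ⟶ S) (hq : SymProd.IsSymProd f n q g) : Flat g := by
  classical
  have hquot := hq.isQuot
  haveI := hquot.affine
  refine Flat.of_stalkMap _ fun y => ?_
  obtain ⟨x, rfl⟩ := QuotLib.surjective hquot y
  let b : SymProd.fibPow f n ⟶ S := WidePullback.base (fun _ : Fin n => f)
  let π : Fin n → (SymProd.fibPow f n ⟶ X) := fun i => WidePullback.π (fun _ : Fin n => f) i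
  obtain ⟨S₀, hS₀, hxS₀, -⟩ :=
    exists_isAffineOpen_mem_and_subset (X := S) (x := b x) (U := ⊤) trivial
  have hfx : ∀ i, f (π i x) = b x := fun i => by
    rw [← Scheme.Hom.comp_apply]
    simp only [π, b, WidePullback.π_arrow]
  have hgq : g (q x) = b x := by rw [← Scheme.Hom.comp_apply, hq.over]
  obtain ⟨V, hV, hxV, hVle⟩ := exists_isAffineOpen_mem_and_subset (X := Y) (x := q x) (U := g ⁻¹ᵁ S₀)
    (show g (q x) ∈ S₀ by rw [hgq]; exact hxS₀)
  -- the ring of the invariant affine open and the inertia group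
  have hqV : IsAffineOpen (q ⁻¹ᵁ V) := hV.preimage q
  let A : Type u := Γ(SymProd.fibPow f n, q ⁻¹ᵁ V)
  let G : Type u := ULift.{u} (Equiv.Perm (Fin n))
  letI := QuotLib.algebra q V
  letI := QuotLib.action hquot V
  haveI := QuotLib.isInvariant hquot V
  haveI := QuotLib.smulCommClass hquot V
  let P : PrimeSpectrum A := hqV.primeIdealOf ⟨x, hxV⟩
  let I : Subgroup G := P.asIdeal.inertia G
  let TI : Subalgebra Γ(Y, V) A :=
    { carrier := {a | ∀ σ ∈ I, σ • a = a}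
      mul_mem' := fun ha hc σ hσ => by rw [smul_mul', ha σ hσ, hc σ hσ]
      one_mem' := fun σ _ => smul_one σ
      add_mem' := fun ha hc σ hσ => by rw [smul_add, ha σ hσ, hc σ hσ]
      zero_mem' := fun σ _ => smul_zero σ
      algebraMap_mem' := fun r σ _ => smul_algebraMap σ r }
  obtain ⟨gI, hgI, het⟩ := InertiaEtaleLib.exists_etale_away_inertia (G := G) (S := Γ(Y, V)) (T := TI)
    (hquot.injective V) Subtype.val_injective P.asIdeal fun r => ⟨fun h => ⟨⟨r, h⟩, rfl⟩, by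
      rintro ⟨t, rfl⟩ σ hσ
      exact t.2 σ hσ⟩
  -- the quotient by the inertia group
  let φA : I →* (A →+* A) := (toEndo G A).comp I.subtype
  let pI : Spec (CommRingCat.of A) ⟶ Spec (CommRingCat.of TI) := Spec.map (CommRingCat.ofHom TI.val.toRingHom)
  have hpI : SGA1.IsQuot (specAct φA) pI := isQuot_specAct φA TI.val.toRingHom
    (fun σ a => a.2 σ σ.2) Subtype.val_injective fun r hr => ⟨⟨r, fun σ hσ => hr ⟨σ, hσ⟩⟩, rfl⟩
  let ιA : Spec (CommRingCat.of A) ⟶ SymProd.fibPow f n := hqV.fromSpec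
  have hιA : ∀ σ : I, (specAct φA σ).hom ≫ ιA = ιA ≫ (SymProd.permActU f n σ.1).hom := by
    intro σ
    rw [specAct_hom, ← IsAffineOpen.SpecMap_appLE_fromSpec (SymProd.permActU f n σ.1).hom hqV hqV
      (SGA1.preimage_le_of_inv _ q hquot.inv σ.1 V)]
    congr 2
  have hPx : ιA P = x := hqV.fromSpec_primeIdealOf ⟨x, hxV⟩
  have hfix : ∀ σ : I, (SymProd.permActU f n σ.1).hom x = x := by
    intro σ
    conv_lhs => rw [← hPx, ← Scheme.Hom.comp_apply, ← hιA, Scheme.Hom.comp_apply]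
    refine (congrArg ιA (PrimeSpectrum.ext (Ideal.ext fun a => ?_))).trans hPx
    show ((σ⁻¹ : I) : G) • a ∈ P.asIdeal ↔ a ∈ P.asIdeal
    have h : ((σ⁻¹ : I) : G) • a - a ∈ P.asIdeal := (σ⁻¹ : I).2 a
    constructor
    · intro h1
      simpa using P.asIdeal.sub_mem h1 h
    · intro h1
      simpa using P.asIdeal.add_mem h h1
  -- the chart
  let J : Type u := {z : X // ∃ i, π i x = z}
  haveI : Finite J := Finite.of_surjective (fun i : Fin n => (⟨π i x, i, rfl⟩ : J))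
    fun ⟨_, i, h⟩ => ⟨i, Subtype.ext h⟩
  letI : Fintype J := Fintype.ofFinite J
  have hU : ∀ z : J, ∃ U : X.Opens, IsAffineOpen U ∧ z.1 ∈ U ∧ U ≤ f ⁻¹ᵁ S₀ := by
    rintro ⟨_, i, rfl⟩
    obtain ⟨U, hU, hz, hle⟩ := exists_isAffineOpen_mem_and_subset (X := X) (x := π i x) (U := f ⁻¹ᵁ S₀)
      (show f (π i x) ∈ S₀ by rw [hfx i]; exact hxS₀)
    exact ⟨U, hU, hz, hle⟩
  choose U hUa hUm hUle using hU
  let c : Fin n → J := fun i => ⟨π i x, i, rfl⟩
  have hc : ∀ (σ : I) i, c (σ.1.down.symm i) = c i := by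
    intro σ i
    refine Subtype.ext ?_
    show π (σ.1.down.symm i) x = π i x
    conv_rhs => rw [← hfix σ, ← Scheme.Hom.comp_apply, SymProd.permActU_hom]
    simp only [π, SymProd.permHom_π]
  obtain ⟨B, _, _, _, e, E, heb, hperm, hstab, hopen, hrange⟩ :=
    exists_young_chart f n S₀ hS₀ c U hUa hUle
  -- the quotient of the chart
  let H : Subgroup (Equiv.Perm (Fin n)) := I.map (MulEquiv.ulift.toMonoidHom : G →* Equiv.Perm (Fin n))
  let φT : I →* (T Γ(S, S₀) B n →+* T Γ(S, S₀) B n) := (permHomT Γ(S, S₀) B n).comp I.subtype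
  let pT : Spec (CommRingCat.of (T Γ(S, S₀) B n)) ⟶ Spec (CommRingCat.of (TH Γ(S, S₀) B H)) :=
    Spec.map (CommRingCat.ofHom (TH Γ(S, S₀) B H).val.toRingHom)
  have hpT : SGA1.IsQuot (specAct φT) pT := isQuot_specAct φT (TH Γ(S, S₀) B H).val.toRingHom
    (fun σ t => t.2 σ.1.down ⟨σ.1, σ.2, rfl⟩) Subtype.val_injective fun r hr =>
      ⟨⟨r, fun s hs => by
        obtain ⟨σ, hσ, rfl⟩ := hs
        exact hr ⟨σ, hσ⟩⟩, rfl⟩
  haveI := flat_TH (A := Γ(S, S₀)) (B := B) H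
  let strT : Spec (CommRingCat.of (TH Γ(S, S₀) B H)) ⟶ S :=
    Spec.map (CommRingCat.ofHom (algebraMap Γ(S, S₀) (TH Γ(S, S₀) B H))) ≫ hS₀.fromSpec
  haveI : Flat strT := by
    haveI : Flat (Spec.map (CommRingCat.ofHom (algebraMap Γ(S, S₀) (TH Γ(S, S₀) B H)))) :=
      Flat.SpecMap_iff.2 (RingHom.flat_algebraMap_iff.2 inferInstance)
    infer_instance
  have hstrT : pT ≫ strT = e ≫ b := by
    rw [heb, toBase, ← Category.assoc, ← Spec.map_comp]
    congr 2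
  -- matching the invariant opens
  let ψ := E.ι ≫ e
  haveI : IsOpenImmersion ψ := hopen
  have hxr : x ∈ Set.range ψ := (hrange x).2 ⟨hxS₀, fun i => hUm (c i)⟩
  let OA : (Spec (CommRingCat.of A)).Opens := ιA ⁻¹ᵁ ψ.opensRange
  let OT : (Spec (CommRingCat.of (T Γ(S, S₀) B n))).Opens := E ⊓ e ⁻¹ᵁ ιA.opensRange
  have hrs : ∀ (σ : I) z, z ∈ Set.range ψ → (SymProd.permActU f n σ.1).hom z ∈ Set.range ψ := by
    rintro σ _ ⟨w, rfl⟩
    refine ⟨⟨_, hstab σ.1 (hc σ) w.1 w.2⟩, ?_⟩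
    show e ((specAct (permHomT Γ(S, S₀) B n) σ.1).hom w.1) = (SymProd.permActU f n σ.1).hom (e w.1)
    rw [← Scheme.Hom.comp_apply, hperm, Scheme.Hom.comp_apply]
  have hOA : ∀ (σ : I) z, z ∈ OA → (specAct φA σ).hom z ∈ OA := by
    intro σ z hz
    show ιA ((specAct φA σ).hom z) ∈ Set.range ψ
    rw [← Scheme.Hom.comp_apply, hιA, Scheme.Hom.comp_apply]
    exact hrs σ _ hz
  have hspecT : ∀ σ : I, (specAct φT σ).hom = (specAct (permHomT Γ(S, S₀) B n) σ.1).hom := fun σ => rfl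
  have hOT : ∀ (σ : I) z, z ∈ OT → (specAct φT σ).hom z ∈ OT := by
    intro σ z hz
    rw [hspecT]
    refine ⟨hstab σ.1 (hc σ) z hz.1, ?_⟩
    show e ((specAct (permHomT Γ(S, S₀) B n) σ.1).hom z) ∈ Set.range ιA
    rw [← Scheme.Hom.comp_apply, hperm, Scheme.Hom.comp_apply]
    obtain ⟨w, hw⟩ : e z ∈ Set.range ιA := hz.2
    exact ⟨(specAct φA σ).hom w, by rw [← Scheme.Hom.comp_apply, hιA, Scheme.Hom.comp_apply, hw]⟩
  obtain ⟨FA, hFA⟩ := exists_open_preimage_eq hpI OA hOA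
  obtain ⟨FT, hFT⟩ := exists_open_preimage_eq hpT OT hOT
  haveI : IsOpenImmersion (OT.ι ≫ e) := by
    rw [← Scheme.homOfLE_ι _ (show OT ≤ E from inf_le_left), Category.assoc]
    infer_instance
  haveI : IsOpenImmersion ((pT ⁻¹ᵁ FT).ι ≫ e) := by
    rw [hFT]; infer_instance
  let lA : (pI ⁻¹ᵁ FA).toScheme ⟶ (pT ⁻¹ᵁ FT).toScheme := by
    refine IsOpenImmersion.lift ((pT ⁻¹ᵁ FT).ι ≫ e) ((pI ⁻¹ᵁ FA).ι ≫ ιA) ?_
    rintro _ ⟨z, rfl⟩
    rw [Scheme.Hom.comp_apply]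
    obtain ⟨w, hw⟩ : ιA z.1 ∈ Set.range ψ := hFA.le z.2
    refine ⟨⟨w.1, hFT.ge ⟨w.2, ?_⟩⟩, hw⟩
    exact ⟨z.1, hw.symm⟩
  have hlA : lA ≫ (pT ⁻¹ᵁ FT).ι ≫ e = (pI ⁻¹ᵁ FA).ι ≫ ιA := IsOpenImmersion.lift_fac _ _ _
  let lT : (pT ⁻¹ᵁ FT).toScheme ⟶ (pI ⁻¹ᵁ FA).toScheme := by
    refine IsOpenImmersion.lift ((pI ⁻¹ᵁ FA).ι ≫ ιA) ((pT ⁻¹ᵁ FT).ι ≫ e) ?_
    rintro _ ⟨z, rfl⟩
    rw [Scheme.Hom.comp_apply]
    obtain ⟨hzE, w, hw⟩ : z.1 ∈ OT := hFT.le z.2
    exact ⟨⟨w, hFA.ge ⟨⟨z.1, hzE⟩, hw.symm⟩⟩, hw⟩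
  have hlT : lT ≫ (pI ⁻¹ᵁ FA).ι ≫ ιA = (pT ⁻¹ᵁ FT).ι ≫ e := IsOpenImmersion.lift_fac _ _ _
  let eO : (pI ⁻¹ᵁ FA).toScheme ≅ (pT ⁻¹ᵁ FT).toScheme :=
    ⟨lA, lT, by rw [← cancel_mono ((pI ⁻¹ᵁ FA).ι ≫ ιA), Category.assoc, hlT, hlA, Category.id_comp],
      by rw [← cancel_mono ((pT ⁻¹ᵁ FT).ι ≫ e), Category.assoc, hlA, hlT, Category.id_comp]⟩
  obtain ⟨j, hj⟩ := exists_iso_quot (QuotLib.isQuot_restrict hpI FA) (QuotLib.isQuot_restrict hpT FT) eO
    (fun σ => by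
      rw [← cancel_mono ((pT ⁻¹ᵁ FT).ι ≫ e), Category.assoc, Category.assoc, hlA,
        ← Category.assoc _ (pI ⁻¹ᵁ FA).ι ιA, QuotLib.restrictAut_hom_ι, Category.assoc, hιA,
        ← Category.assoc _ (pT ⁻¹ᵁ FT).ι e, QuotLib.restrictAut_hom_ι, Category.assoc, hspecT, hperm,
        ← Category.assoc (pT ⁻¹ᵁ FT).ι, ← Category.assoc lA, hlA, Category.assoc])
  -- over the base
  let kY : Spec (CommRingCat.of TI) ⟶ Y :=
    Spec.map (CommRingCat.ofHom (algebraMap Γ(Y, V) TI)) ≫ hV.fromSpec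
  have hkY : pI ≫ kY = ιA ≫ q := by
    show _ = hqV.fromSpec ≫ q
    rw [← IsAffineOpen.SpecMap_appLE_fromSpec q hV hqV le_rfl, ← Category.assoc, ← Spec.map_comp,
      Scheme.Hom.appLE_eq_app]
    rfl
  haveI hflatF : Flat (FA.ι ≫ kY ≫ g) := by
    have : j.hom ≫ FT.ι ≫ strT = FA.ι ≫ kY ≫ g := by
      refine QuotLib.eq_of_comp_eq (QuotLib.isQuot_restrict hpI FA) ?_
      rw [reassoc_of% hj, morphismRestrict_ι_assoc, hstrT, reassoc_of% hlA, morphismRestrict_ι_assoc,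
        reassoc_of% hkY, hq.over]
    rw [← this]
    infer_instance
  -- the étale neighbourhood
  let k₁ : Spec (CommRingCat.of (Localization.Away gI)) ⟶ Spec (CommRingCat.of TI) :=
    Spec.map (CommRingCat.ofHom (algebraMap TI (Localization.Away gI)))
  haveI : IsOpenImmersion k₁ := IsOpenImmersion.of_isLocalization gI
  haveI hflat₁ : Flat (k₁ ≫ kY) := by
    haveI := het
    haveI : Flat (Spec.map (CommRingCat.ofHom (algebraMap Γ(Y, V) (Localization.Away gI)))) :=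
      Flat.SpecMap_iff.2 (RingHom.flat_algebraMap_iff.2 inferInstance)
    rw [show k₁ ≫ kY = Spec.map (CommRingCat.ofHom (algebraMap Γ(Y, V) (Localization.Away gI))) ≫ hV.fromSpec from by
      rw [← Category.assoc, ← Spec.map_comp, ← CommRingCat.ofHom_comp, ← IsScalarTower.algebraMap_eq]]
    infer_instance
  obtain ⟨t, ht⟩ : pI P ∈ Set.range k₁ := by
    rw [show Set.range k₁ = _ from PrimeSpectrum.localization_away_comap_range (Localization.Away gI) gI]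
    exact hgI
  let W : (Spec (CommRingCat.of (Localization.Away gI))).Opens := k₁ ⁻¹ᵁ FA
  have htW : t ∈ W := by
    show k₁ t ∈ FA
    rw [ht]
    exact hFA.ge (show ιA P ∈ Set.range ψ by rw [hPx]; exact hxr)
  haveI : Flat (W.ι ≫ k₁ ≫ kY) := inferInstance
  haveI : Flat ((W.ι ≫ k₁ ≫ kY) ≫ g) := by
    have : (W.ι ≫ k₁ ≫ kY) ≫ g = (k₁ ∣_ FA) ≫ FA.ι ≫ kY ≫ g := by
      rw [morphismRestrict_ι_assoc]
      simp only [Category.assoc]
      rfl
    rw [this]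
    infer_instance
  have hty : (W.ι ≫ k₁ ≫ kY) ⟨t, htW⟩ = q x := by
    show kY (k₁ t) = q x
    rw [ht, ← Scheme.Hom.comp_apply, hkY, Scheme.Hom.comp_apply, hPx]
  rw [← hty]
  exact (FlatDescStalk.flat_stalkMap_comp_iff (W.ι ≫ k₁ ≫ kY) g ⟨t, htW⟩ (Flat.stalkMap _ _)).mp
    (Flat.stalkMap _ _)

end Groth.Agent.FlatSymLib
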