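import Groth.Agent.FlatSymLib.YoungInv
import Groth.Agent.FlatSymLib.Model

/-! Charts of fibre powers stable under a group of permutations, without the condition (AF). -/

set_option autoImplicit false
set_option backward.isDefEq.respectTransparency false
set_option backward.isDefEq.respectTransparency.types false
set_option linter.style.haveILetI false
universe u
open CategoryTheory CategoryTheory.Limits AlgebraicGeometry TensorProduct

noncomputable section

namespace Groth.Agent.FlatSymLib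

/-- The invariants of a group of permutations in the tensor power of an algebra. -/
def TH (A B : Type u) [CommRing A] [CommRing B] [Algebra A B] {n : ℕ} (H : Subgroup (Equiv.Perm (Fin n))) :
    Subalgebra A (T A B n) where
  carrier := {t | ∀ σ ∈ H, SymTen.perm A B n σ t = t}
  mul_mem' ha hb σ hσ := by rw [map_mul, ha σ hσ, hb σ hσ]
  one_mem' σ _ := map_one _
  add_mem' ha hb σ hσ := by rw [map_add, ha σ hσ, hb σ hσ]
  zero_mem' σ _ := map_zero _
  algebraMap_mem' r σ _ := (SymTen.perm A B n σ).commutes r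

theorem flat_TH {A B : Type u} [CommRing A] [CommRing B] [Algebra A B] [Module.Flat A B] {n : ℕ}
    (H : Subgroup (Equiv.Perm (Fin n))) : Module.Flat A (TH A B H) := by
  haveI := flat_invH (R := A) (M := B) (H := H)
  refine Module.Flat.of_linearEquiv (LinearEquiv.ofEq (Subalgebra.toSubmodule (TH A B H)) (invH A B H)
    (Submodule.ext fun t => ?_))
  rw [mem_invH, Subalgebra.mem_toSubmodule]
  exact forall₂_congr fun σ _ => by rw [SymTen.perm_apply]

theorem flat_pi {A : Type u} [CommRing A] {ι : Type u} [Fintype ι] [DecidableEq ι] (M : ι → Type u)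
    [∀ i, AddCommGroup (M i)] [∀ i, Module A (M i)] [∀ i, Module.Flat A (M i)] :
    Module.Flat A (∀ i, M i) :=
  Module.Flat.of_linearEquiv (DirectSum.linearEquivFunOnFintype A ι M).symm

/-- An open of the fibre power cut out by affine opens, one for each class of factors, is open in an affine
fibre power over an affine open of the base. -/
theorem exists_young_chart {X S : Scheme.{u}} (f : X ⟶ S) [Flat f] (n : ℕ) (S₀ : S.Opens)
    (hS₀ : IsAffineOpen S₀) {J : Type u} [Fintype J] (c : Fin n → J) (U : J → X.Opens)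
    (hU : ∀ j, IsAffineOpen (U j)) (hle : ∀ j, U j ≤ f ⁻¹ᵁ S₀) :
    ∃ (B : Type u) (_ : CommRing B) (_ : Algebra Γ(S, S₀) B) (_ : Module.Flat Γ(S, S₀) B)
      (e : Spec (CommRingCat.of (T Γ(S, S₀) B n)) ⟶ SymProd.fibPow f n)
      (E : (Spec (CommRingCat.of (T Γ(S, S₀) B n))).Opens),
      e ≫ WidePullback.base (fun _ : Fin n => f) = toBase Γ(S, S₀) B n ≫ hS₀.fromSpec ∧
      (∀ σ, (specAct (permHomT Γ(S, S₀) B n) σ).hom ≫ e = e ≫ (SymProd.permActU f n σ).hom) ∧
      (∀ σ : ULift.{u} (Equiv.Perm (Fin n)), (∀ i, c (σ.down.symm i) = c i) →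
        ∀ z ∈ E, (specAct (permHomT Γ(S, S₀) B n) σ).hom z ∈ E) ∧
      IsOpenImmersion (E.ι ≫ e) ∧
      ∀ z, z ∈ Set.range (E.ι ≫ e) ↔ (WidePullback.base (fun _ : Fin n => f) z ∈ S₀ ∧
        ∀ i, WidePullback.π (fun _ : Fin n => f) i z ∈ U (c i)) := by
  classical
  let A : Type u := Γ(S, S₀)
  let Bj : J → Type u := fun j => Γ(X, U j)
  letI alg : ∀ j, Algebra A (Bj j) := fun j => (f.appLE S₀ (U j) (hle j)).hom.toAlgebra
  haveI : ∀ j, Module.Flat A (Bj j) := fun j => Scheme.Hom.flat_appLE f hS₀ (hU j) (hle j)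
  let B : Type u := ∀ j, Bj j
  haveI : Module.Flat A B := flat_pi Bj
  let R : J → CommRingCat.{u} := fun j => CommRingCat.of (Bj j)
  let ι : ∀ j, Spec (R j) ⟶ Spec (CommRingCat.of B) :=
    fun j => Spec.map (CommRingCat.ofHom (Pi.evalRingHom Bj j))
  let fS : Spec (CommRingCat.of A) ⟶ S := hS₀.fromSpec
  let fW : Spec (CommRingCat.of B) ⟶ X :=
    CategoryTheory.inv (sigmaSpec R) ≫ Sigma.desc fun j => (hU j).fromSpec
  have hιW : ∀ j, ι j ≫ fW = (hU j).fromSpec := fun j => by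
    show Spec.map _ ≫ CategoryTheory.inv (sigmaSpec R) ≫ Sigma.desc (fun j => (hU j).fromSpec) = _
    rw [← ι_sigmaSpec R j, Category.assoc, IsIso.hom_inv_id_assoc, Sigma.ι_desc]
  have hAB : Spec.map (CommRingCat.ofHom (algebraMap A B)) ≫ fS = fW ≫ f := by
    rw [← cancel_epi (sigmaSpec R)]
    refine Sigma.hom_ext _ _ fun j => ?_
    rw [ι_sigmaSpec_assoc, ι_sigmaSpec_assoc, ← Category.assoc _ fW f, hιW j, ← Spec.map_comp_assoc]
    exact IsAffineOpen.SpecMap_appLE_fromSpec f hS₀ (hU j) (hle j)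
  let b : SymProd.fibPow f n ⟶ S := WidePullback.base (fun _ : Fin n => f)
  let π : Fin n → (SymProd.fibPow f n ⟶ X) := fun i => WidePullback.π (fun _ : Fin n => f) i
  let e : Spec (CommRingCat.of (T A B n)) ⟶ SymProd.fibPow f n :=
    WidePullback.lift (toBase A B n ≫ fS) (fun i => proj A B n i ≫ fW) (fun i => by
      rw [Category.assoc, ← hAB, ← Category.assoc, proj_arrow])
  have heb : e ≫ b = toBase A B n ≫ fS := WidePullback.lift_base ..
  have heπ : ∀ i, e ≫ π i = proj A B n i ≫ fW := fun i => WidePullback.lift_π ..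
  have hperm : ∀ σ, (specAct (permHomT A B n) σ).hom ≫ e = e ≫ (SymProd.permActU f n σ).hom := by
    intro σ
    rw [SymProd.permActU_hom]
    refine WidePullback.hom_ext _ _ _ (fun i => ?_) ?_
    · rw [Category.assoc, Category.assoc, SymProd.permHom_π]
      show _ ≫ e ≫ π i = e ≫ π _
      rw [heπ, heπ, ← Category.assoc, specAct_proj]
    · rw [Category.assoc, Category.assoc, SymProd.permHom_base]
      show _ ≫ e ≫ b = e ≫ b
      rw [heb, ← Category.assoc, specAct_toBase]
  let E : (Spec (CommRingCat.of (T A B n))).Opens :=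
    Finset.univ.inf fun i => proj A B n i ⁻¹ᵁ (ι (c i)).opensRange
  have hE : ∀ z, z ∈ E ↔ ∀ i, proj A B n i z ∈ Set.range (ι (c i)) := by
    intro z
    simp [E, ← SetLike.mem_coe, TopologicalSpace.Opens.coe_finset_inf, Finset.inf_set_eq_iInter]
  have hstab : ∀ σ : ULift.{u} (Equiv.Perm (Fin n)), (∀ i, c (σ.down.symm i) = c i) →
      ∀ z ∈ E, (specAct (permHomT A B n) σ).hom z ∈ E := by
    intro σ hσ z hz
    refine (hE _).2 fun i => ?_
    rw [← Scheme.Hom.comp_apply, specAct_proj, ← hσ i]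
    exact (hE z).1 hz _
  let l : ∀ i, E.toScheme ⟶ Spec (R (c i)) := fun i => IsOpenImmersion.lift (ι (c i)) (E.ι ≫ proj A B n i) (by
    rintro _ ⟨z, rfl⟩
    rw [Scheme.Hom.comp_apply]
    exact (hE _).1 z.2 i)
  have hl : ∀ i, l i ≫ ι (c i) = E.ι ≫ proj A B n i := fun i => IsOpenImmersion.lift_fac ..
  have hψπ : ∀ i, (E.ι ≫ e) ≫ π i = l i ≫ (hU (c i)).fromSpec := fun i => by
    rw [Category.assoc, heπ, ← Category.assoc, ← hl, Category.assoc, hιW]
  let W : (SymProd.fibPow f n).Opens := b ⁻¹ᵁ S₀ ⊓ Finset.univ.inf fun i : Fin n => π i ⁻¹ᵁ U (c i)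
  have hW : ∀ z, z ∈ W ↔ b z ∈ S₀ ∧ ∀ i, π i z ∈ U (c i) := by
    intro z
    show z ∈ (_ ⊓ _ : (SymProd.fibPow f n).Opens) ↔ _
    simp [← SetLike.mem_coe, TopologicalSpace.Opens.coe_finset_inf, Finset.inf_set_eq_iInter]
  have hψW : ∀ z, (E.ι ≫ e) z ∈ W := by
    intro z
    refine (hW _).2 ⟨?_, fun i => ?_⟩
    · rw [← Scheme.Hom.comp_apply, Category.assoc, heb, Scheme.Hom.comp_apply, Scheme.Hom.comp_apply,
        ← SetLike.mem_coe, ← hS₀.range_fromSpec]
      exact ⟨_, rfl⟩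
    · rw [← Scheme.Hom.comp_apply, hψπ, Scheme.Hom.comp_apply, ← SetLike.mem_coe, ← (hU (c i)).range_fromSpec]
      exact ⟨_, rfl⟩
  let a₀ : W.toScheme ⟶ Spec (CommRingCat.of A) := IsOpenImmersion.lift fS (W.ι ≫ b) (by
    rintro _ ⟨z, rfl⟩
    rw [show Set.range fS = (S₀ : Set S) from hS₀.range_fromSpec, Scheme.Hom.comp_apply]
    exact ((hW _).1 z.2).1)
  let a : ∀ i, W.toScheme ⟶ Spec (R (c i)) := fun i => IsOpenImmersion.lift (hU (c i)).fromSpec (W.ι ≫ π i) (by
    rintro _ ⟨z, rfl⟩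
    exact (hU (c i)).range_fromSpec.ge (((hW _).1 z.2).2 i))
  have ha₀ : a₀ ≫ fS = W.ι ≫ b := IsOpenImmersion.lift_fac ..
  have hai : ∀ i, a i ≫ (hU (c i)).fromSpec = W.ι ≫ π i := fun i => IsOpenImmersion.lift_fac ..
  obtain ⟨α, hα₀, hα⟩ := exists_hom (A := A) (B := B) a₀ (fun i => a i ≫ ι (c i)) (fun i => by
    rw [← cancel_mono fS, Category.assoc, Category.assoc, hAB, ← Category.assoc (ι (c i)), hιW,
      ← Category.assoc, hai, ha₀, Category.assoc]
    simp only [π, b, WidePullback.π_arrow])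
  have hαE : ∀ w, α w ∈ E := fun w => (hE _).2 fun i => by
    rw [← Scheme.Hom.comp_apply, hα, Scheme.Hom.comp_apply]
    exact ⟨_, rfl⟩
  let α' : W.toScheme ⟶ E.toScheme := IsOpenImmersion.lift E.ι α (by
    rintro _ ⟨w, rfl⟩
    rw [Scheme.Opens.range_ι]
    exact hαE w)
  have hα' : α' ≫ E.ι = α := IsOpenImmersion.lift_fac ..
  let β : E.toScheme ⟶ W.toScheme := IsOpenImmersion.lift W.ι (E.ι ≫ e) (by
    rintro _ ⟨z, rfl⟩
    rw [Scheme.Opens.range_ι]
    exact hψW z)
  have hβ : β ≫ W.ι = E.ι ≫ e := IsOpenImmersion.lift_fac ..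
  have hβα : β ≫ α' = 𝟙 _ := by
    rw [← cancel_mono E.ι, Category.assoc, hα', Category.id_comp]
    refine hom_ext ?_ fun i => ?_
    · rw [← cancel_mono fS]
      simp only [Category.assoc]
      rw [← Category.assoc α, hα₀, ha₀, ← Category.assoc, hβ, Category.assoc, heb]
    · rw [Category.assoc, hα, ← hl, ← Category.assoc]
      congr 1
      rw [← cancel_mono (hU (c i)).fromSpec, Category.assoc, hai, ← Category.assoc, hβ, hψπ]
  have hαβ : α' ≫ β = 𝟙 _ := by
    rw [← cancel_mono W.ι, Category.assoc, hβ, ← Category.assoc, hα', Category.id_comp]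
    refine WidePullback.hom_ext _ _ _ (fun i => ?_) ?_
    · show (α ≫ e) ≫ π i = W.ι ≫ π i
      rw [Category.assoc, heπ, ← Category.assoc, hα, Category.assoc, hιW, hai]
    · show (α ≫ e) ≫ b = W.ι ≫ b
      rw [Category.assoc, heb, ← Category.assoc, hα₀, ha₀]
  haveI : IsIso β := ⟨α', hβα, hαβ⟩
  have hopen : IsOpenImmersion (E.ι ≫ e) := by rw [← hβ]; infer_instance
  refine ⟨B, inferInstance, inferInstance, inferInstance, e, E, heb, hperm, hstab, hopen, fun z => ?_⟩
  rw [← hW, ← hβ]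
  constructor
  · rintro ⟨w, rfl⟩
    rw [Scheme.Hom.comp_apply]
    exact (β w).2
  · intro hz
    refine ⟨α' ⟨z, hz⟩, ?_⟩
    rw [← Scheme.Hom.comp_apply, ← Category.assoc, hαβ, Category.id_comp]
    rfl

end Groth.Agent.FlatSymLib
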