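import Groth.Agent.FlatSymLib.Basic
import Mathlib.RingTheory.Flat.Basic

/-! Tensors invariant under a group of permutations of the factors, for a flat module. -/

namespace Groth.Agent.FlatSymLib

open TensorProduct

variable {R : Type*} [CommRing R] {M : Type*} [AddCommGroup M] [Module R M]
  {N : Type*} [AddCommGroup N] [Module R N]

variable (R M) in
/-- The tensors fixed by a group of permutations of the factors. -/
noncomputable def invH {n : ℕ} (H : Subgroup (Equiv.Perm (Fin n))) : Submodule R (⨂[R] _ : Fin n, M) :=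
  ⨅ σ : H, LinearMap.eqLocus
    (PiTensorProduct.reindex R (fun _ : Fin n => M) (σ : Equiv.Perm (Fin n))).toLinearMap LinearMap.id

variable {n : ℕ} {H : Subgroup (Equiv.Perm (Fin n))}

theorem mem_invH {t : ⨂[R] _ : Fin n, M} :
    t ∈ invH R M H ↔ ∀ σ ∈ H, PiTensorProduct.reindex R (fun _ : Fin n => M) σ t = t := by
  simp only [invH, Submodule.mem_iInf, LinearMap.mem_eqLocus, Subtype.forall]
  rfl

theorem pw_mem_invH (u : M →ₗ[R] N) {z : ⨂[R] _ : Fin n, M} (hz : z ∈ invH R M H) :
    pw n u z ∈ invH R N H :=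
  mem_invH.2 fun σ hσ => by rw [← pw_reindex, mem_invH.1 hz σ hσ]

/-- Invariant tensors satisfying a relation lift to invariant tensors of a finite free module. -/
theorem exists_invH_lift [Module.Flat R M] {l : ℕ} (x : Fin l → ⨂[R] _ : Fin n, M)
    (hx : ∀ i, x i ∈ invH R M H) (c : Fin l → R) (hc : ∑ i, c i • x i = 0) :
    ∃ (m : ℕ) (u : (Fin m → R) →ₗ[R] M) (y : Fin l → ⨂[R] _ : Fin n, (Fin m → R)),
      (∀ i, y i ∈ invH R (Fin m → R) H) ∧ (∀ i, pw n u (y i) = x i) ∧ ∑ i, c i • y i = 0 := by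
  classical
  obtain ⟨m, u, y, hy⟩ := exists_lift x
  let D : Finset (⨂[R] _ : Fin n, (Fin m → R)) := insert (∑ i, c i • y i)
    (Finset.univ.image fun p : Fin l × H =>
      PiTensorProduct.reindex R (fun _ : Fin n => Fin m → R) (p.2 : Equiv.Perm (Fin n)) (y p.1) - y p.1)
  obtain ⟨k, a, v, hva, ha⟩ := exists_kill n u D (by
    intro z hz
    rcases Finset.mem_insert.1 hz with rfl | hz
    · simp [map_sum, hy, hc]
    · obtain ⟨p, -, rfl⟩ := Finset.mem_image.1 hz
      rw [map_sub, pw_reindex, hy, mem_invH.1 (hx p.1) _ p.2.2, sub_self])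
  refine ⟨k, v, fun i => pw n a (y i), fun i => mem_invH.2 fun σ hσ => ?_, fun i => ?_, ?_⟩
  · have := ha _ (Finset.mem_insert_of_mem (Finset.mem_image_of_mem _ (Finset.mem_univ (i, ⟨σ, hσ⟩))))
    rwa [map_sub, pw_reindex, sub_eq_zero] at this
  · rw [← pw_comp, hva, hy]
  · simpa [map_sum] using ha _ (Finset.mem_insert_self _ _)

/-- Relations between invariant tensors of finite free modules are trivial. -/
theorem isTrivialRelation_freeH {m l : ℕ} (c : Fin l → R)
    (y : Fin l → ⨂[R] _ : Fin n, (Fin m → R)) (hy : ∀ i, y i ∈ invH R (Fin m → R) H)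
    (hc : ∑ i, c i • y i = 0) :
    ∃ (k : ℕ) (a : Fin l → Fin k → R) (w : Fin k → ⨂[R] _ : Fin n, (Fin m → R)),
      (∀ j, w j ∈ invH R (Fin m → R) H) ∧ (∀ i, y i = ∑ j, a i j • w j) ∧
        ∀ j, ∑ i, c i * a i j = 0 := by
  classical
  let B := Basis.piTensorProduct fun _ : Fin n => Pi.basisFun R (Fin m)
  let S : Setoid (Fin n → Fin m) :=
    { r := fun f g => ∃ σ ∈ H, f ∘ (σ : Equiv.Perm (Fin n)) = g
      iseqv :=
        ⟨fun f => ⟨1, H.one_mem, rfl⟩,
          fun ⟨σ, hσ, h⟩ => ⟨σ⁻¹, H.inv_mem hσ, by subst h; ext i; simp⟩,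
          fun ⟨σ, hσ, h⟩ ⟨τ, hτ, h'⟩ => ⟨σ * τ, H.mul_mem hσ hτ, by subst h; subst h'; rfl⟩⟩ }
  let O := Quotient S
  let W : O → ⨂[R] _ : Fin n, (Fin m → R) := fun o =>
    ∑ f with Quotient.mk S f = o, B f
  have hB : ∀ (σ : Equiv.Perm (Fin n)) f,
      PiTensorProduct.reindex R (fun _ : Fin n => Fin m → R) σ (B f) = B (f ∘ σ.symm) := by
    intro σ f
    simp only [B, Basis.piTensorProduct_apply, PiTensorProduct.reindex_tprod, Function.comp_apply]
  have hW : ∀ o, W o ∈ invH R (Fin m → R) H := by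
    intro o
    refine mem_invH.2 fun σ hσ => ?_
    simp only [W, map_sum, hB]
    refine Finset.sum_equiv (Equiv.arrowCongr σ (Equiv.refl _)) (fun f => ?_) (fun f _ => rfl)
    simp only [Finset.mem_filter, Finset.mem_univ, true_and]
    rw [show Quotient.mk S (Equiv.arrowCongr σ (Equiv.refl _) f) = Quotient.mk S f from
      Quotient.sound ⟨σ, hσ, by ext i; simp⟩]
  have hcoef : ∀ (i : Fin l) (σ : Equiv.Perm (Fin n)), σ ∈ H → ∀ f,
      B.repr (y i) (f ∘ σ) = B.repr (y i) f := by
    intro i σ hσ f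
    have h : ((Finsupp.lapply (f ∘ σ.symm.symm)) ∘ₗ B.repr.toLinearMap) =
        (Finsupp.lapply f ∘ₗ B.repr.toLinearMap) ∘ₗ
          (PiTensorProduct.reindex R (fun _ : Fin n => Fin m → R) σ).toLinearMap := by
      refine B.ext fun g => ?_
      simp only [LinearMap.comp_apply, LinearEquiv.coe_coe, hB, B.repr_self, Finsupp.lapply_apply,
        Finsupp.single_apply]
      refine if_congr ⟨fun hg => ?_, fun hg => ?_⟩ rfl rfl
      · subst hg; ext i; simp
      · subst hg; ext i; simp
    have := LinearMap.congr_fun h (y i)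
    simp only [LinearMap.comp_apply, LinearEquiv.coe_coe, Finsupp.lapply_apply, Equiv.symm_symm,
      mem_invH.1 (hy i) σ hσ] at this
    exact this
  let e := Fintype.equivFin O
  refine ⟨Fintype.card O, fun i j => B.repr (y i) (e.symm j).out, fun j => W (e.symm j),
    fun j => hW _, fun i => ?_, fun j => ?_⟩
  · rw [e.symm.sum_comp (fun o => B.repr (y i) o.out • W o)]
    simp only [W, Finset.smul_sum]
    conv_lhs => rw [← B.sum_repr (y i), ← Finset.sum_fiberwise Finset.univ (Quotient.mk S)]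
    refine Finset.sum_congr rfl fun o _ => Finset.sum_congr rfl fun f hf => ?_
    obtain ⟨σ, hσH, hσ⟩ := Quotient.exact
      (((Finset.mem_filter.1 hf).2).trans (Quotient.out_eq o).symm)
    rw [← hσ, hcoef i σ hσH]
  · have := congrArg (fun t => B.repr t (e.symm j).out) hc
    simpa [map_sum, Finsupp.finsetSum_apply] using this

/-- Invariant tensors of a flat module form a flat module. -/
theorem flat_invH [Module.Flat R M] : Module.Flat R (invH R M H) := by
  refine Module.Flat.of_forall_isTrivialRelation fun {l c x} hcx => ?_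
  obtain ⟨m, u, y, hy, hux, hcy⟩ := exists_invH_lift (fun i => (x i : ⨂[R] _ : Fin n, M))
    (fun i => (x i).2) c (by
      have := congrArg Subtype.val hcx
      simpa using this)
  obtain ⟨k, a, w, hw, hyw, hca⟩ := isTrivialRelation_freeH c y hy hcy
  refine ⟨k, a, fun j => ⟨pw n u (w j), pw_mem_invH u (hw j)⟩, fun i => Subtype.ext ?_, hca⟩
  simp [← hux i, hyw i, map_sum]

end Groth.Agent.FlatSymLib
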